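import Cfsg.Agent.H527.C3.Twist_m3
import Cfsg.Agent.H548.BS.Transf
import Cfsg.Agent.LieClassical.SympCenter
import Cfsg.Agent.H415.C3.LKitOne_mg_m3
import Cfsg.Prelude.Def_LieTypeChar
import Mathlib
import Cfsg.Agent.Lib.PermCode
import Cfsg.Agent.AutOrth.Main
import Cfsg.Agent.H989.OutOrth.Basic
import Cfsg.Agent.H10.Co3.Om
import Cfsg.Agent.H382.Own5Lin
import Cfsg.Agent.H557.Co3.CentE8_m3
import Cfsg.Agent.BpExc.AsmN_m3
import Cfsg.Agent.H35.KB.Corr
import Cfsg.Agent.CpAut.TwoAbs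
import Cfsg.Agent.BabyComp.Sec
import Cfsg.Agent.Co2Type.Quad
import Cfsg.Agent.BabyComp.BaseTwo
import Cfsg.Agent.H877.SK.B.Ctx
import Cfsg.Agent.MonsterU.ModelChart
import Cfsg.Agent.MFive.Row
import Cfsg.Agent.H314.Co3.RowLin_mg_m3
import Cfsg.Agent.H944.E6TwC
import Cfsg.Agent.FastGrp
import Cfsg.Agent.Prune
set_option linter.all false

section
prune_inst 0x7fbce8f8a9b801dfdfff7e7fa69ccffc18941fffa6dff943ffe061ff8bdf230209456b8d0de010fe0ed7e03410b87813f97eaefee029d87ffffd1ff41ffbee0fe5f7350851d488340f300ffe03f0678e7f3fffffffffffffffffffffffffffbeffbfffffffff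

-- part: H105/C3/RowPSp_mg
section
prune_inst 0x4005030644080020000000004200018029a000400000880000000020004888c2809002820a08001020020080420300048150010242040000004000000011c00800800000001400008c00008000100000000000000000000000000000000000000000000000
set_option linter.all false
open scoped Cfsg.Agent.FastGrp

-- part: H105/C3/Str
section
/-!
# S1920, classical groups: the structure lemma, alternating case (helper105)

On top of helper527's `Full` and `Two`. `h(u, v) = ω(u, J v)` is symmetric; isometries of `ω` which anticommute with `J` are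
anti-isometries of `h`.
* `replace` : `Two` from `Same (n • w) v`;
* `perfect_comm` : a perfect subgroup of the centralizer commutes with `T R`;
* `str_alt` : the structure lemma.
-/

set_option autoImplicit false

open Subgroup

namespace Cfsg.Agent.H105.C3

open Cfsg.Agent.H527.C3

variable {K W : Type*} [Field K] [AddCommGroup W] [Module K W]
variable {h : LinearMap.BilinForm K W} {NN : Subgroup (Module.End K W)ˣ} [Fintype ↥NN] {J : (Module.End K W)ˣ}
variable {A : Subgroup (Module.End K W)ˣ} {S : Finset W} {c : (Module.End K W)ˣ → K}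

open scoped Classical in
/-- **replacement of `w` by `n w`** -/
theorem replace (F : Full h NN J A S c) {v w : W} (hv : v ∈ S) (hw : w ∈ S) (hne : v ≠ w)
    (hS : ∀ x ∈ S, x = v ∨ x = w) {n : (Module.End K W)ˣ} (hn : n ∈ NN) (hs : Dat.Same F.M (n • w) v) :
    ∃ F' : Full h NN J A {v, n • w} c, F'.Two v (n • w) := by
  have hne' : v ≠ n • w := by
    intro h1
    have h3 : h (n⁻¹ • v) w = 0 := F.Y.orth v hv w hw hne n⁻¹ (inv_mem hn)
    rw [h1, inv_smul_smul, F.Y.one w hw] at h3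
    exact one_ne_zero h3
  have Y : Dat.Sys h NN A {v, n • w} := by
    refine ⟨fun x hx => ?_, fun x hx => ?_, fun x hx y hy hxy m hm => ?_⟩
    · rcases Finset.mem_insert.1 hx with h1 | h1
      · rw [h1]; exact F.Y.eig _ hv
      · rw [Finset.mem_singleton.1 h1]
        exact F.eig_smul (F.Y.eig w hw) hn
    · rcases Finset.mem_insert.1 hx with h1 | h1
      · rw [h1]; exact F.Y.one _ hv
      · rw [Finset.mem_singleton.1 h1, F.D.iso hn]
        exact F.Y.one w hw
    · rcases Finset.mem_insert.1 hx with h1 | h1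
      · rcases Finset.mem_insert.1 hy with h2 | h2
        · exact absurd (h1.trans h2.symm) hxy
        · rw [Finset.mem_singleton.1 h2, h1]
          have h3 := F.D.iso (inv_mem hn) (m • v) (n • w)
          rw [inv_smul_smul, ← mul_smul] at h3
          rw [← h3]
          exact F.Y.orth v hv w hw hne _ (mul_mem (inv_mem hn) hm)
      · rcases Finset.mem_insert.1 hy with h2 | h2
        · rw [Finset.mem_singleton.1 h1, h2, ← mul_smul]
          exact F.Y.orth w hw v hv (Ne.symm hne) _ (mul_mem hm hn)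
        · exact absurd ((Finset.mem_singleton.1 h1).trans (Finset.mem_singleton.1 h2).symm) hxy
  have hTr : ∀ u, Dat.Tr h NN (fun _ => (1 : K)) (n • w) (n • w) u = Dat.Tr h NN (fun _ => (1 : K)) w w u := by
    intro u
    rw [Dat.Tr_apply, Dat.Tr_apply]
    refine Fintype.sum_equiv (Equiv.mulRight (⟨n, hn⟩ : ↥NN)) _ _ fun m => ?_
    change (1 * h ((m : (Module.End K W)ˣ) • n • w) u) • ((m : (Module.End K W)ˣ) • n • w) =
      (1 * h (((m : (Module.End K W)ˣ) * n) • w) u) • (((m : (Module.End K W)ˣ) * n) • w)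
    rw [one_mul, one_mul, mul_smul (m : (Module.End K W)ˣ) n w]
  have hSe : S = {v, w} := by
    ext x
    rw [Finset.mem_insert, Finset.mem_singleton]
    constructor
    · exact hS x
    · rintro (rfl | rfl)
      · exact hv
      · exact hw
  have hexp : ∀ u : W, ∑ x ∈ ({v, n • w} : Finset W), Dat.Tr h NN (fun _ => (1 : K)) x x u = Dat.kap K F.M • u := by
    intro u
    have h1 := F.exp u
    have h2 : ∀ f : W → W, ∑ x ∈ S, f x = f v + f w := fun f => by
      rw [hSe]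
      exact Finset.sum_pair hne
    rw [h2 fun x => Dat.Tr h NN (fun _ => (1 : K)) x x u] at h1
    rw [Finset.sum_pair hne', hTr]
    exact h1
  refine ⟨⟨F.D, F.M, Y, hexp, F.kap, F.sg, F.cJ, F.cA⟩, ⟨?_, ?_, hne', F.same_symm hs, ?_⟩⟩
  · exact Finset.mem_insert_self _ _
  · exact Finset.mem_insert_of_mem (Finset.mem_singleton_self _)
  · intro x hx
    rcases Finset.mem_insert.1 hx with h1 | h1
    · exact Or.inl h1
    · exact Or.inr (Finset.mem_singleton.1 h1)

/-- **a perfect subgroup of the centralizer commutes with `T R`** -/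
theorem perfect_comm (F : Full h NN J A S c) {v₁ v₂ : W} (X : F.Two v₁ v₂) {EE : Subgroup (Module.End K W)ˣ}
    (hE : ⁅EE, EE⁆ = EE) (hc : EE ≤ cen h NN) {g : (Module.End K W)ˣ} (hg : g ∈ EE) :
    (F.Tu * F.Ru X) * g = g * (F.Tu * F.Ru X) := by
  set τ := F.Tu * F.Ru X with hτ
  have hJ : ∀ g ∈ EE, g * J = J * g := fun g hg => ((mem_cen.1 (hc hg)).2 J F.D.J_mem).symm
  -- `D g = g τ g⁻¹ τ⁻¹ ∈ K[J]`
  have hD : ∀ g ∈ EE, ∃ x y : K, ((g * τ * g⁻¹ * τ⁻¹ : (Module.End K W)ˣ) : Module.End K W) =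
      x • (1 : Module.End K W) + y • (J : Module.End K W) := by
    intro g hg
    obtain ⟨x, y, hxy⟩ := F.twist X (hc hg)
    refine ⟨x, y, LinearMap.ext fun u => ?_⟩
    have h1 := hxy (g⁻¹ • τ⁻¹ • u)
    have h2 : ∀ w : W, F.T (F.R v₁ v₂ w) = τ • w := fun w => rfl
    rw [h2, h2, smul_inv_smul g, smul_inv_smul τ] at h1
    change (g * τ * g⁻¹ * τ⁻¹) • u = x • u + y • J • u
    rw [← h1]
    simp only [mul_smul]
  -- these commute with `EE`
  have hDc : ∀ g ∈ EE, ∀ g' ∈ EE, (g * τ * g⁻¹ * τ⁻¹) * g' = g' * (g * τ * g⁻¹ * τ⁻¹) := by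
    intro g hg g' hg'
    obtain ⟨x, y, hxy⟩ := hD g hg
    refine Units.ext ?_
    have h1 : (J : Module.End K W) * (g' : Module.End K W) = (g' : Module.End K W) * (J : Module.End K W) :=
      congrArg Units.val (hJ g' hg').symm
    rw [Units.val_mul _ g', Units.val_mul g', hxy, add_mul, mul_add, smul_mul_assoc, mul_smul_comm, one_mul, mul_one,
      smul_mul_assoc, mul_smul_comm, h1]
  have hDD : ∀ g ∈ EE, ∀ g' ∈ EE, (g * τ * g⁻¹ * τ⁻¹) * (g' * τ * g'⁻¹ * τ⁻¹) =
      (g' * τ * g'⁻¹ * τ⁻¹) * (g * τ * g⁻¹ * τ⁻¹) := by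
    intro g hg g' hg'
    obtain ⟨x, y, hxy⟩ := hD g hg
    obtain ⟨x', y', hxy'⟩ := hD g' hg'
    refine Units.ext ?_
    rw [Units.val_mul (g * τ * g⁻¹ * τ⁻¹), Units.val_mul (g' * τ * g'⁻¹ * τ⁻¹), hxy, hxy']
    simp only [add_mul, mul_add, smul_mul_assoc, mul_smul_comm, one_mul, mul_one]
    module
  -- `(g g') τ (g g')⁻¹ = D g' D g τ`
  have hprod : ∀ g ∈ EE, ∀ g' ∈ EE, (g * g') * τ * (g * g')⁻¹ = (g' * τ * g'⁻¹ * τ⁻¹) * (g * τ * g⁻¹ * τ⁻¹) * τ := by
    intro g hg g' hg'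
    have h1 : g' * τ * g'⁻¹ = (g' * τ * g'⁻¹ * τ⁻¹) * τ := by rw [inv_mul_cancel_right]
    calc (g * g') * τ * (g * g')⁻¹ = g * (g' * τ * g'⁻¹) * g⁻¹ := by group
      _ = g * ((g' * τ * g'⁻¹ * τ⁻¹) * τ) * g⁻¹ := by rw [← h1]
      _ = (g * (g' * τ * g'⁻¹ * τ⁻¹)) * τ * g⁻¹ := by simp only [mul_assoc]
      _ = ((g' * τ * g'⁻¹ * τ⁻¹) * g) * τ * g⁻¹ := by rw [hDc g' hg' g hg]
      _ = _ := by group
  have hle : ⁅EE, EE⁆ ≤ centralizer {τ} := by
    rw [commutator_le]
    intro g hg g' hg'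
    rw [mem_centralizer_singleton_iff]
    have h1 := hprod g⁻¹ (inv_mem hg) g'⁻¹ (inv_mem hg')
    have h2 := hprod g'⁻¹ (inv_mem hg') g⁻¹ (inv_mem hg)
    rw [hDD g⁻¹ (inv_mem hg) g'⁻¹ (inv_mem hg')] at h2
    have h3 := h1.trans h2.symm
    -- `(g⁻¹ g'⁻¹) τ (g⁻¹ g'⁻¹)⁻¹ = (g'⁻¹ g⁻¹) τ (g'⁻¹ g⁻¹)⁻¹`
    have e1 : (g * g' * g⁻¹ * g'⁻¹) * τ = g * g' * ((g⁻¹ * g'⁻¹) * τ * (g⁻¹ * g'⁻¹)⁻¹) * (g⁻¹ * g'⁻¹) := by group
    have e2 : g * g' * ((g'⁻¹ * g⁻¹) * τ * (g'⁻¹ * g⁻¹)⁻¹) * (g⁻¹ * g'⁻¹) = τ * (g * g' * g⁻¹ * g'⁻¹) := by group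
    change (g * g' * g⁻¹ * g'⁻¹) * τ = τ * (g * g' * g⁻¹ * g'⁻¹)
    rw [e1, h3, e2]
  have h1 : g ∈ centralizer {τ} := hle (hE.symm ▸ hg)
  exact (mem_centralizer_singleton_iff.1 h1).symm

/-- the outcome: two commuting elements -/
structure OutAB (h : LinearMap.BilinForm K W) (NN : Subgroup (Module.End K W)ˣ) (J a b : (Module.End K W)ˣ)
    (v₁ v₂ v₃ : W) : Prop where
  ai : a ∈ isoms h
  bi : b ∈ isoms h
  an : ∀ n ∈ NN, a * n = n * a
  bn : ∀ n ∈ NN, b * n = n * b
  ab : a * b = b * a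
  a4 : a * (a * (a * a)) = 1
  b2 : b * b = 1
  h1 : h v₁ v₁ = 1
  h2 : h v₂ v₂ = 1
  h3 : h v₃ v₃ = 1
  a1 : a • v₁ = J • v₁
  a2 : a • v₂ = v₂
  a3 : a • v₃ = v₃
  b1 : b • v₁ = v₁
  b2' : b • v₂ = -v₂
  b3 : b • v₃ = v₃

/-- three planes -/
theorem three_planes (F : Full h NN J A S c) {v₁ v₂ v₃ : W} (h1 : v₁ ∈ S) (h2 : v₂ ∈ S) (h3 : v₃ ∈ S)
    (h12 : v₁ ≠ v₂) (h13 : v₁ ≠ v₃) (h23 : v₂ ≠ v₃) :
    ∃ a b : (Module.End K W)ˣ, OutAB h NN J a b v₁ v₂ v₃ := by
  have hEJ : ∀ u, F.E v₁ (J • u) = J • F.E v₁ u := fun u => F.E_smul v₁ F.D.J_mem u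
  have hEE : ∀ u, F.E v₁ (F.E v₁ u) = F.E v₁ u := fun u => congrArg (fun f : Module.End K W => f u) (F.E_idem h1)
  have hEE2 : ∀ u, F.E v₂ (F.E v₂ u) = F.E v₂ u := fun u => congrArg (fun f : Module.End K W => f u) (F.E_idem h2)
  have h12' : ∀ u, F.E v₁ (F.E v₂ u) = 0 := fun u => congrArg (fun f : Module.End K W => f u) (F.E_orth h1 h2 h12)
  have h21' : ∀ u, F.E v₂ (F.E v₁ u) = 0 := fun u => congrArg (fun f : Module.End K W => f u) (F.E_orth h2 h1 h12.symm)
  let a0 : Module.End K W := 1 - F.E v₁ + (J : Module.End K W) * F.E v₁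
  let a0' : Module.End K W := 1 - F.E v₁ - (J : Module.End K W) * F.E v₁
  have ha0 : ∀ u, a0 u = u - F.E v₁ u + J • F.E v₁ u := fun u => rfl
  have ha0' : ∀ u, a0' u = u - F.E v₁ u - J • F.E v₁ u := fun u => rfl
  have ha0a : a0 * a0' = 1 := by
    refine LinearMap.ext fun u => ?_
    change a0 (a0' u) = u
    rw [ha0, ha0', map_sub, map_sub, hEJ, hEE, sub_self, zero_sub, smul_neg, F.D.JJ]
    abel
  have ha0b : a0' * a0 = 1 := by
    refine LinearMap.ext fun u => ?_
    change a0' (a0 u) = u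
    rw [ha0', ha0, map_add, map_sub, hEJ, hEE, sub_self, zero_add, F.D.JJ]
    abel
  let a : (Module.End K W)ˣ := ⟨a0, a0', ha0a, ha0b⟩
  have ha : ∀ u, a • u = u - F.E v₁ u + J • F.E v₁ u := fun u => rfl
  let b0 : Module.End K W := 1 - (2 : K) • F.E v₂
  have hb0 : ∀ u, b0 u = u - (2 : K) • F.E v₂ u := fun u => rfl
  have hbb : b0 * b0 = 1 := by
    refine LinearMap.ext fun u => ?_
    change b0 (b0 u) = u
    rw [hb0, hb0, map_sub, LinearMap.map_smul, hEE2]
    generalize F.E v₂ u = w₂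
    module
  let b : (Module.End K W)ˣ := ⟨b0, b0, hbb, hbb⟩
  have hb : ∀ u, b • u = u - (2 : K) • F.E v₂ u := fun u => rfl
  have ev : ∀ {v : W}, v ∈ S → F.E v v = v := by
    intro v hv
    have := F.E_self hv (one_mem NN)
    rwa [one_smul] at this
  have evw : ∀ {v w : W}, v ∈ S → w ∈ S → v ≠ w → F.E v w = 0 := by
    intro v w hv hw hvw
    have := F.E_other hv hw hvw (one_mem NN)
    rwa [one_smul] at this
  have hsmJ : ∀ u v, h (J • u) v = - h u (J • v) := F.D.hJl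
  refine ⟨a, b, ⟨?_, ?_, ?_, ?_, ?_, ?_, ?_, F.Y.one _ h1, F.Y.one _ h2, F.Y.one _ h3, ?_, ?_, ?_, ?_, ?_, ?_⟩⟩
  · intro u v
    rw [ha, ha]
    have k1 : h (F.E v₁ u) v = h u (F.E v₁ v) := F.E_adj _ _ _
    have k2 : h (F.E v₁ u) (F.E v₁ v) = h u (F.E v₁ v) := by rw [F.E_adj, hEE]
    have k3 : h (J • F.E v₁ u) (J • F.E v₁ v) = h u (F.E v₁ v) := by rw [F.D.hJ, k2]
    have k4 : h (J • F.E v₁ u) v = - h u (J • F.E v₁ v) := by rw [hsmJ, F.E_adj, hEJ]
    have k5 : h (J • F.E v₁ u) (F.E v₁ v) = - h u (J • F.E v₁ v) := by rw [hsmJ, F.E_adj, hEJ, hEE]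
    have k6 : h (F.E v₁ u) (J • F.E v₁ v) = h u (J • F.E v₁ v) := by rw [F.E_adj, hEJ, hEE]
    simp only [map_add, map_sub, LinearMap.add_apply, LinearMap.sub_apply, k1, k2, k3, k4, k5, k6]
    ring
  · intro u v
    rw [hb, hb]
    have k1 : h (F.E v₂ u) v = h u (F.E v₂ v) := F.E_adj _ _ _
    have k2 : h (F.E v₂ u) (F.E v₂ v) = h u (F.E v₂ v) := by rw [F.E_adj, hEE2]
    simp only [map_sub, LinearMap.sub_apply, LinearMap.map_smul, LinearMap.smul_apply, smul_eq_mul, k1, k2]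
    ring
  · intro n hn
    refine Units.ext (LinearMap.ext fun u => ?_)
    change a • n • u = n • a • u
    rw [ha, ha, F.E_smul v₁ hn, smul_add, smul_sub, ← mul_smul J n, ← F.D.cen n hn, mul_smul]
  · intro n hn
    refine Units.ext (LinearMap.ext fun u => ?_)
    change b • n • u = n • b • u
    rw [hb, hb, F.E_smul v₂ hn, smul_sub, smul_comm n (2 : K)]
  · refine Units.ext (LinearMap.ext fun u => ?_)
    change a • b • u = b • a • u
    rw [ha (b • u), hb (a • u), hb u, ha u]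
    have k1 : F.E v₁ (u - (2 : K) • F.E v₂ u) = F.E v₁ u := by
      rw [map_sub, LinearMap.map_smul, h12', smul_zero, sub_zero]
    have k2 : F.E v₂ (u - F.E v₁ u + J • F.E v₁ u) = F.E v₂ u := by
      rw [map_add, map_sub, h21', F.E_smul v₂ F.D.J_mem, h21', smul_zero, sub_zero, add_zero]
    rw [k1, k2]
    abel
  · refine Units.ext (LinearMap.ext fun u => ?_)
    change a • a • a • a • u = u
    have h5 : ∀ u, a • a • u = u - (2 : K) • F.E v₁ u := by
      intro u
      rw [ha, ha, map_add, map_sub, hEJ, hEE, sub_self, zero_add, F.D.JJ]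
      generalize J • F.E v₁ u = w₁
      generalize F.E v₁ u = w₂
      module
    rw [h5, h5, map_sub, LinearMap.map_smul, hEE]
    generalize F.E v₁ u = w₂
    module
  · exact Units.ext hbb
  · rw [ha, ev h1, sub_self, zero_add]
  · rw [ha, evw h1 h2 h12, smul_zero, sub_zero, add_zero]
  · rw [ha, evw h1 h3 h13, smul_zero, sub_zero, add_zero]
  · rw [hb, evw h2 h1 h12.symm, smul_zero, sub_zero]
  · rw [hb, ev h2]
    module
  · rw [hb, evw h2 h3 h23, smul_zero, sub_zero]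

/-- the outcome: the anti-isometry `t` -/
structure OutT (h : LinearMap.BilinForm K W) (NN EE : Subgroup (Module.End K W)ˣ) (J t : (Module.End K W)ˣ) : Prop where
  anti : ∀ u v, h (t • u) (t • v) = - h u v
  tJ : t * J = -(J * t)
  tn : ∀ n ∈ NN, t * n = n * t ∨ t * n = -(n * t)
  te : ∀ e ∈ EE, t * e = e * t

/-- from an isometry `τ` to `(α + β J) τ` -/
theorem outT_of (D : Dat h NN J) {EE : Subgroup (Module.End K W)ˣ} (hc : EE ≤ cen h NN) {τ : (Module.End K W)ˣ}
    (hτ : τ ∈ isoms h) (hτJ : τ * J = -(J * τ)) (hτn : ∀ n ∈ NN, τ * n = n * τ ∨ τ * n = -(n * τ))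
    (hτe : ∀ e ∈ EE, τ * e = e * τ) {α β : K} (hαβ : α ^ 2 + β ^ 2 = -1) : ∃ t, OutT h NN EE J t := by
  let p : Module.End K W := α • (1 : Module.End K W) + β • (J : Module.End K W)
  let p' : Module.End K W := -α • (1 : Module.End K W) + β • (J : Module.End K W)
  have hp : ∀ u, p u = α • u + β • J • u := fun u => rfl
  have hp' : ∀ u, p' u = -α • u + β • J • u := fun u => rfl
  have hpp : p * p' = 1 := by
    refine LinearMap.ext fun u => ?_
    change p (p' u) = u
    rw [hp, hp', smul_add J, smul_comm J (-α), smul_comm J β, D.JJ]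
    generalize J • u = w₁
    have : α • (-α • u + β • w₁) + β • (-α • w₁ + β • -u) = (-(α ^ 2 + β ^ 2)) • u := by module
    rw [this, hαβ, neg_neg, one_smul]
  have hpp' : p' * p = 1 := by
    refine LinearMap.ext fun u => ?_
    change p' (p u) = u
    rw [hp, hp', smul_add J, smul_comm J α, smul_comm J β, D.JJ]
    generalize J • u = w₁
    have : -α • (α • u + β • w₁) + β • (α • w₁ + β • -u) = (-(α ^ 2 + β ^ 2)) • u := by module
    rw [this, hαβ, neg_neg, one_smul]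
  let P : (Module.End K W)ˣ := ⟨p, p', hpp, hpp'⟩
  have hP : ∀ u, P • u = α • u + β • J • u := fun u => (show P • u = p u from rfl).trans (hp u)
  have hPc : ∀ g : (Module.End K W)ˣ, g * J = J * g → g * P = P * g := by
    intro g hg
    refine Units.ext (LinearMap.ext fun u => ?_)
    change g • P • u = P • g • u
    rw [hP, hP, smul_add, smul_comm g α, smul_comm g β, ← mul_smul g J, hg, mul_smul]
  have hPJ : P * J = J * P := (hPc J rfl).symm
  refine ⟨P * τ, ⟨fun u v => ?_, ?_, fun n hn => ?_, fun e he => ?_⟩⟩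
  · rw [mul_smul, mul_smul, hP, hP]
    have k1 : h (J • τ • u) (τ • v) = - h (τ • u) (J • τ • v) := D.hJl _ _
    have k2 : h (J • τ • u) (J • τ • v) = h (τ • u) (τ • v) := D.hJ _ _
    have k3 : h (τ • u) (τ • v) = h u v := hτ u v
    simp only [map_add, LinearMap.add_apply, LinearMap.map_smul, LinearMap.smul_apply, smul_eq_mul, k1, k2, k3]
    linear_combination (h u v) * hαβ
  · rw [mul_assoc, hτJ, mul_neg, ← mul_assoc, hPJ, mul_assoc]
  · have hn' : n * P = P * n := hPc n (D.cen n hn)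
    rcases hτn n hn with h1 | h1
    · left
      rw [mul_assoc, h1, ← mul_assoc, ← hn', mul_assoc]
    · right
      rw [mul_assoc, h1, mul_neg, ← mul_assoc, ← hn', mul_assoc]
  · have he' : e * P = P * e := hPc e ((mem_cen.1 (hc he)).2 J D.J_mem).symm
    rw [mul_assoc, hτe e he, ← mul_assoc, ← he', mul_assoc]

/-- **the structure lemma, alternating case** -/
theorem str_alt [Finite K] [Finite W] [Nontrivial W] (D : Dat h NN J) {EE : Subgroup (Module.End K W)ˣ}
    (hE : ⁅EE, EE⁆ = EE) (hc : EE ≤ cen h NN) :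
    (∃ (a b : (Module.End K W)ˣ) (v₁ v₂ v₃ : W), OutAB h NN J a b v₁ v₂ v₃) ∨ ∃ t, OutT h NN EE J t := by
  classical
  obtain ⟨α, β, hαβ⟩ := exists_two_sq D.two (-1 : K)
  obtain ⟨A, S, c, F⟩ := exists_full D
  by_cases h3 : 2 < S.card
  · obtain ⟨v₁, h1, v₂, h2, v₃, h3, h12, h13, h23⟩ := Finset.two_lt_card.1 h3
    obtain ⟨a, b, hab⟩ := three_planes F h1 h2 h3 h12 h13 h23
    exact Or.inl ⟨a, b, v₁, v₂, v₃, hab⟩
  · right
    by_cases hd : ∀ v ∈ S, ∀ w ∈ S, v ≠ w → ∀ n ∈ NN, ¬ Dat.Same F.M (n • w) v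
    · -- different orbits: `EE` is trivial
      have hcomm := F.comm_of_distinct hd
      have hE1 : ∀ e ∈ EE, e = 1 := by
        have h4 : ⁅EE, EE⁆ ≤ ⊥ := by
          rw [commutator_le]
          intro g hg g' hg'
          rw [mem_bot, commutatorElement_eq_one_iff_mul_comm]
          exact hcomm g (hc hg) g' (hc hg')
        intro e he
        exact mem_bot.1 (h4 (hE.symm ▸ he))
      refine outT_of D hc (τ := F.Tu) F.Tu_iso ?_ ?_ ?_ hαβ
      · rcases F.Tu_comm D.J_mem with ⟨h5, h6⟩ | ⟨h5, h6⟩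
        · exfalso
          rw [F.cJ] at h5
          have h7 : (2 : K) = 0 := by linear_combination -h5
          exact D.two h7
        · exact h6
      · intro n hn
        rcases F.Tu_comm hn with ⟨_, h6⟩ | ⟨_, h6⟩
        · exact Or.inl h6
        · exact Or.inr h6
      · intro e he
        rw [hE1 e he, one_mul, mul_one]
    · push Not at hd
      obtain ⟨v, hv, w, hw, hvw, n, hn, hs⟩ := hd
      have hS : ∀ x ∈ S, x = v ∨ x = w := by
        intro x hx
        by_contra hcon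
        push Not at hcon
        exact h3 (Finset.two_lt_card.2 ⟨x, hx, v, hv, w, hw, hcon.1, hcon.2, hvw⟩)
      obtain ⟨F', X⟩ := replace F hv hw hvw hS hn hs
      refine outT_of D hc (τ := F'.Tu * F'.Ru X) (mul_mem F'.Tu_iso (F'.Ru_iso X)) ?_ ?_
        (fun e he => perfect_comm F' X hE hc he) hαβ
      · rw [mul_assoc, F'.Ru_comm X D.J_mem, ← mul_assoc]
        rcases F'.Tu_comm D.J_mem with ⟨h5, h6⟩ | ⟨h5, h6⟩
        · exfalso
          rw [F'.cJ] at h5
          have h7 : (2 : K) = 0 := by linear_combination -h5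
          exact D.two h7
        · rw [h6, neg_mul, mul_assoc]
      · intro n hn
        rcases F'.Tu_comm hn with ⟨_, h6⟩ | ⟨_, h6⟩
        · left
          rw [mul_assoc, F'.Ru_comm X hn, ← mul_assoc, h6, mul_assoc]
        · right
          rw [mul_assoc, F'.Ru_comm X hn, ← mul_assoc, h6, neg_mul, mul_assoc]

end Cfsg.Agent.H105.C3
end

-- part: H105/C3/Gl
section
/-!
# S1920, case B, the symplectic row: lifts and gluing (helper105)

* `lin_psp` : `PSp m F` as a quotient of `Sp(V)`, in the form `Lin`;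
* `gl z g h` : `g` on `{z = 1}`, `h` on `{z = -1}`.
-/

set_option autoImplicit false

namespace Cfsg.Agent.H105.C3

open Subgroup Cfsg.Agent.H415.C3 Cfsg.Agent.H847.Bs
open Cfsg.Agent.H548.BS (spFrm isSp spHom spHom_injective range_spHom spHom_apply)

/-- **`PSp`** -/
theorem lin_psp {F : Type} [Field F] {m : ℕ} {G : Type*} [Group G] (e : G ≃* Cfsg.PSp m F) :
    ∃ π : ↥(spFrm (F := F) m).Iso →* G, Lin (spFrm (F := F) m).Iso π := by
  let e1 : Matrix.symplecticGroup (Fin m) F ≃* ↥(spFrm (F := F) m).Iso :=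
    (MonoidHom.ofInjective (spHom_injective m)).trans (MulEquiv.subgroupCongr (range_spHom m))
  have he1 : ∀ A, ((e1 A : ↥(spFrm (F := F) m).Iso) : (Fin m ⊕ Fin m → F) ≃ₗ[F] (Fin m ⊕ Fin m → F)) = spHom m A :=
    fun A => rfl
  let q : Matrix.symplecticGroup (Fin m) F →* Cfsg.PSp m F :=
    QuotientGroup.mk' (Subgroup.center (Matrix.symplecticGroup (Fin m) F))
  have hq : Function.Surjective q := QuotientGroup.mk'_surjective _
  let π : ↥(spFrm (F := F) m).Iso →* G := e.symm.toMonoidHom.comp (q.comp e1.symm.toMonoidHom)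
  refine ⟨π, ⟨?_, ?_⟩⟩
  · exact e.symm.surjective.comp (hq.comp e1.symm.surjective)
  · intro g
    obtain ⟨A, rfl⟩ := e1.surjective g
    have h1 : π (e1 A) = e.symm (q A) := by
      change e.symm (q (e1.symm (e1 A))) = _
      rw [e1.symm_apply_apply]
    rw [h1, MulEquiv.map_eq_one_iff, he1]
    have h2 : q A = 1 ↔ A ∈ Subgroup.center (Matrix.symplecticGroup (Fin m) F) := QuotientGroup.eq_one_iff A
    rw [h2, LieClassical.SympCenter.mem_center_iff]
    constructor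
    · rintro ⟨a, ha⟩
      refine ⟨a, fun v => ?_⟩
      rw [spHom_apply, ha, Matrix.smul_mulVec, Matrix.one_mulVec]
    · rintro ⟨a, ha⟩
      refine ⟨a, Matrix.ext_iff_mulVec.2 fun v => ?_⟩
      rw [Matrix.smul_mulVec, Matrix.one_mulVec, ← ha v, spHom_apply]

section glue

variable {K V : Type*} [Field K] [AddCommGroup V] [Module K V]

/-- the linear map `g` on `{z = 1}`, `h` on `{z = -1}` -/
noncomputable def glf (z g h : V ≃ₗ[K] V) : V →ₗ[K] V :=
  (2 : K)⁻¹ • ((g : V →ₗ[K] V) ∘ₗ (LinearMap.id + (z : V →ₗ[K] V)) + (h : V →ₗ[K] V) ∘ₗ (LinearMap.id - (z : V →ₗ[K] V)))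

theorem glf_apply (z g h : V ≃ₗ[K] V) (v : V) :
    glf z g h v = (2 : K)⁻¹ • (g (v + z v) + h (v - z v)) := rfl

variable {z : V ≃ₗ[K] V}

theorem z_z (hz : z * z = 1) (v : V) : z (z v) = v := by
  have := congrArg (fun f : V ≃ₗ[K] V => f v) hz
  exact this

theorem comm_app {g h : V ≃ₗ[K] V} (hg : g * h = h * g) (v : V) : g (h v) = h (g v) := by
  have := congrArg (fun f : V ≃ₗ[K] V => f v) hg
  exact this

theorem half_add (h2 : (2 : K) ≠ 0) (v : V) : (2 : K)⁻¹ • (v + v) = v := by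
  rw [← two_smul K v, smul_smul, inv_mul_cancel₀ h2, one_smul]

theorem glf_comp (h2 : (2 : K) ≠ 0) (hz : z * z = 1) {g h g' h' : V ≃ₗ[K] V} (hg : g' * z = z * g') (hh : h' * z = z * h')
    (v : V) : glf z g h (glf z g' h' v) = glf z (g * g') (h * h') v := by
  have e1 : glf z g' h' v + z (glf z g' h' v) = g' (v + z v) := by
    rw [glf_apply, map_smul, map_add z, ← comm_app hg, ← comm_app hh, map_add z v, map_sub z v, z_z hz, ← smul_add]
    have : g' (v + z v) + h' (v - z v) + (g' (z v + v) + h' (z v - v)) = g' (v + z v) + g' (v + z v) := by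
      rw [add_comm (z v) v, ← neg_sub v (z v), map_neg]; abel
    rw [this, half_add h2]
  have e2 : glf z g' h' v - z (glf z g' h' v) = h' (v - z v) := by
    rw [glf_apply, map_smul, map_add z, ← comm_app hg, ← comm_app hh, map_add z v, map_sub z v, z_z hz, ← smul_sub]
    have : g' (v + z v) + h' (v - z v) - (g' (z v + v) + h' (z v - v)) = h' (v - z v) + h' (v - z v) := by
      rw [add_comm (z v) v, ← neg_sub v (z v), map_neg]; abel
    rw [this, half_add h2]
  rw [glf_apply z g h, e1, e2, glf_apply]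
  rfl

theorem glf_one (h2 : (2 : K) ≠ 0) (v : V) : glf z 1 1 v = v := by
  rw [glf_apply]
  change (2 : K)⁻¹ • ((v + z v) + (v - z v)) = v
  rw [show (v + z v) + (v - z v) = v + v by abel, half_add h2]

theorem comm_inv {g : V ≃ₗ[K] V} (hg : g * z = z * g) : g⁻¹ * z = z * g⁻¹ :=
  ((show Commute g z from hg).inv_left).eq

/-- `g` on `{z = 1}`, `h` on `{z = -1}` -/
noncomputable def gl (h2 : (2 : K) ≠ 0) (hz : z * z = 1) {g h : V ≃ₗ[K] V} (hg : g * z = z * g) (hh : h * z = z * h) :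
    V ≃ₗ[K] V :=
  LinearEquiv.ofLinearMap (glf z g h) (glf z g⁻¹ h⁻¹)
    (by
      ext v
      change glf z g h (glf z g⁻¹ h⁻¹ v) = v
      rw [glf_comp h2 hz (comm_inv hg) (comm_inv hh), mul_inv_cancel, mul_inv_cancel, glf_one h2])
    (by
      ext v
      change glf z g⁻¹ h⁻¹ (glf z g h v) = v
      rw [glf_comp h2 hz hg hh, inv_mul_cancel, inv_mul_cancel, glf_one h2])

variable (h2 : (2 : K) ≠ 0) (hz : z * z = 1) {g h : V ≃ₗ[K] V} (hg : g * z = z * g) (hh : h * z = z * h)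

include h2 in
theorem gl_apply (v : V) : gl h2 hz hg hh v = (2 : K)⁻¹ • (g (v + z v) + h (v - z v)) := rfl

theorem gl_pos {v : V} (hv : z v = v) : gl h2 hz hg hh v = g v := by
  rw [gl_apply, hv, sub_self, map_zero, add_zero, map_add, half_add h2]

theorem gl_neg {v : V} (hv : z v = -v) : gl h2 hz hg hh v = h v := by
  rw [gl_apply, hv, add_neg_cancel, map_zero, zero_add, sub_neg_eq_add, map_add, half_add h2]

/-- linear maps agreeing on `{z = 1}` and `{z = -1}` -/
theorem ext_pm (h2 : (2 : K) ≠ 0) (hz : z * z = 1) {a b : V ≃ₗ[K] V} (h1 : ∀ v, z v = v → a v = b v)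
    (h3 : ∀ v, z v = -v → a v = b v) : a = b := by
  ext v
  have hp : z (v + z v) = v + z v := by rw [map_add, z_z hz, add_comm]
  have hm : z (v - z v) = -(v - z v) := by rw [map_sub, z_z hz, neg_sub]
  have e : v = (2 : K)⁻¹ • ((v + z v) + (v - z v)) := by
    rw [show (v + z v) + (v - z v) = v + v by abel, half_add h2]
  generalize v + z v = a' at hp e
  generalize v - z v = b' at hm e
  rw [e, map_smul, map_smul, map_add, map_add, h1 _ hp, h3 _ hm]

/-- isometries -/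
theorem gl_mem {Φ : Frm K V} (hΦ : IsSp Φ) (hzΦ : z ∈ Φ.Iso) (hgΦ : g ∈ Φ.Iso) (hhΦ : h ∈ Φ.Iso) :
    gl h2 hz hg hh ∈ Φ.Iso := by
  have key : ∀ a b : V, z a = a → z b = -b → Φ.B a b = 0 ∧ Φ.B b a = 0 := by
    intro a b ha hb
    have h1 := hzΦ.1 a b
    have h3 := hzΦ.1 b a
    have e1 : ∀ x y : V, Φ.B x (-y) = - Φ.B x y := by
      intro x y
      rw [← neg_one_smul K y, Φ.smul_right, hΦ.s, neg_one_mul]
    have e2 : ∀ x y : V, Φ.B (-x) y = - Φ.B x y := by
      intro x y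
      rw [← neg_one_smul K x, Φ.smul_left, neg_one_mul]
    rw [ha, hb, e1] at h1
    rw [ha, hb, e2] at h3
    constructor
    · have h4 : (2 : K) * Φ.B a b = 0 := by linear_combination (-1 : K) * h1
      exact (mul_eq_zero.1 h4).resolve_left h2
    · have h4 : (2 : K) * Φ.B b a = 0 := by linear_combination (-1 : K) * h3
      exact (mul_eq_zero.1 h4).resolve_left h2
  refine ⟨fun v w => ?_, fun v => by rw [hΦ.q, hΦ.q]⟩
  have hp : ∀ v : V, z (v + z v) = v + z v := fun v => by rw [map_add, z_z hz, add_comm]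
  have hm : ∀ v : V, z (v - z v) = -(v - z v) := fun v => by rw [map_sub, z_z hz, neg_sub]
  have e : ∀ v : V, v = (2 : K)⁻¹ • ((v + z v) + (v - z v)) := fun v => by
    rw [show (v + z v) + (v - z v) = v + v by abel, half_add h2]
  rw [gl_apply, gl_apply]
  conv_rhs => rw [e v, e w]
  have hpv := hp v
  have hpw := hp w
  have hmv := hm v
  have hmw := hm w
  generalize v + z v = a1 at hpv
  generalize v - z v = b1 at hmv
  generalize w + z w = a2 at hpw
  generalize w - z w = b2 at hmw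
  rw [Φ.smul_left, Φ.smul_right, hΦ.s, Φ.smul_left, Φ.smul_right, hΦ.s]
  congr 2
  rw [Φ.add_left, Φ.add_right, Φ.add_right, Φ.add_left, Φ.add_right, Φ.add_right, hgΦ.1, hhΦ.1,
    (key _ _ hpv hmw).1, (key _ _ hpw hmv).2,
    (key (g a1) (h b2) (by rw [← comm_app hg, hpv]) (by rw [← comm_app hh, hmw, map_neg])).1,
    (key (g a2) (h b1) (by rw [← comm_app hg, hpw]) (by rw [← comm_app hh, hmv, map_neg])).2]

end glue

end Cfsg.Agent.H105.C3
end

-- part: H105/C3/PspOne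
section
/-!
# S1920, case B, the symplectic row: first step (helper105)

* `mem_A_of`, `T1h`, `T5h` : the lemmas T1 and T5 for the lifts;
* `s_comm` : `sh` commutes with `Nh`; `s_sq` : `sh * sh = zh` or `sh * sh = -zh`.
-/

set_option autoImplicit false
set_option linter.unusedSectionVars false

namespace Cfsg.Agent.H105.C3

open Subgroup Cfsg.Agent.H415.C3 Cfsg.Agent.H847.Bs

section lifts

variable {G : Type*} [Group G] {K V : Type*} [Field K] [AddCommGroup V] [Module K V]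
variable {Gh : Subgroup (V ≃ₗ[K] V)} {π : ↥Gh →* G}

theorem isSc_iff {a b : V ≃ₗ[K] V} : IsSc (a * b⁻¹) ↔ ∃ c : K, ∀ v, a v = c • b v := by
  constructor
  · rintro ⟨c, hc⟩
    refine ⟨c, fun v => ?_⟩
    have h1 := hc (b v)
    have h3 : (a * b⁻¹) (b v) = a v := congrArg a (b.symm_apply_apply v)
    rw [← h3, h1]
  · rintro ⟨c, hc⟩
    refine ⟨c, fun v => ?_⟩
    have h3 : (a * b⁻¹) v = a (b⁻¹ v) := rfl
    have h4 : b (b⁻¹ v) = v := b.apply_symm_apply v
    rw [h3, hc, h4]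

theorem pi_eq_iff (L : Lin Gh π) {a b : V ≃ₗ[K] V} (ha : a ∈ Gh) (hb : b ∈ Gh) :
    π ⟨a, ha⟩ = π ⟨b, hb⟩ ↔ ∃ c : K, ∀ v, a v = c • b v := by
  rw [← mul_inv_eq_one, ← map_inv, ← map_mul, L.ker, ← isSc_iff]
  rfl

variable {N0 A E : Subgroup G} {z s x r : G} {ψ : ↥A →* Equiv.Perm (Fin 6)}
variable {Nh Eh : Subgroup (V ≃ₗ[K] V)} {zh sh xh rh : V ≃ₗ[K] V}

/-- `g` commutes with `Nh` up to scalars and `zh` -/
def CN (Nh : Subgroup (V ≃ₗ[K] V)) (zh g : V ≃ₗ[K] V) : Prop :=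
  ∀ n ∈ Nh, ∃ c : K, (∀ v, g (n v) = c • n (g v)) ∨ (∀ v, g (n v) = c • zh (n (g v)))

theorem Nh_le (LK : LKit Gh π N0 A E z s x r Nh Eh zh sh xh rh) : Nh ≤ Gh := fun n hn => ((LK.mem_Nh n).1 hn).1

theorem exists_lift (L : Lin Gh π) (LK : LKit Gh π N0 A E z s x r Nh Eh zh sh xh rh) {n : G} (hn : n ∈ N0) :
    ∃ m ∈ Nh, ∃ h : m ∈ Gh, π ⟨m, h⟩ = n := by
  obtain ⟨⟨m, hm⟩, h⟩ := L.surj n
  exact ⟨m, (LK.mem_Nh m).2 ⟨hm, h ▸ hn⟩, hm, h⟩

theorem mem_A_of (K0 : Kit N0 A E z s x r ψ) (L : Lin Gh π) (LK : LKit Gh π N0 A E z s x r Nh Eh zh sh xh rh)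
    {g : V ≃ₗ[K] V} (hg : g ∈ Gh) (h : CN Nh zh g) : π ⟨g, hg⟩ ∈ A := by
  rw [K0.mem_A]
  intro n0 hn0
  obtain ⟨n, hn, hnG, rfl⟩ := exists_lift L LK hn0
  obtain ⟨c, hc | hc⟩ := h n hn
  · left
    have h1 := (pi_eq_iff L (mul_mem hg hnG) (mul_mem hnG hg)).2 ⟨c, hc⟩
    rw [← map_mul, ← map_mul]
    exact h1
  · right
    have hzG : zh ∈ Gh := Nh_le LK LK.zN
    have h1 := (pi_eq_iff L (mul_mem hg hnG) (mul_mem hzG (mul_mem hnG hg))).2 ⟨c, hc⟩
    have h2 : z = π ⟨zh, hzG⟩ := (LK.pi_z hzG).symm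
    rw [h2, ← map_mul, ← map_mul, ← map_mul]
    exact h1

/-- **T1 for lifts** -/
theorem T1h (K0 : Kit N0 A E z s x r ψ) (L : Lin Gh π) (LK : LKit Gh π N0 A E z s x r Nh Eh zh sh xh rh)
    {g : V ≃ₗ[K] V} (hg : g ∈ Gh) (h : CN Nh zh g) (hE : ∀ e ∈ Eh, ∀ v, g (e v) = e (g v)) :
    ∃ c : K, ∀ v, g (sh v) = c • sh (g v) := by
  have hsG : sh ∈ Gh := Nh_le LK LK.sN
  have h1 := K0.T1 (mem_A_of K0 L LK hg h) (fun e he => by
    obtain ⟨e', he', hpe⟩ := LK.Eh_surj e he
    have heG := LK.Eh_le he'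
    rw [← hpe heG, ← map_mul, ← map_mul]
    refine congrArg π (Subtype.ext ?_)
    ext v
    exact hE e' he' v)
  have h2 : s = π ⟨sh, hsG⟩ := (LK.pi_s hsG).symm
  rw [h2, ← map_mul, ← map_mul] at h1
  exact (pi_eq_iff L (mul_mem hg hsG) (mul_mem hsG hg)).1 h1

/-- **T5 for lifts** -/
theorem T5h [Finite G] (K0 : Kit N0 A E z s x r ψ) (L : Lin Gh π)
    (LK : LKit Gh π N0 A E z s x r Nh Eh zh sh xh rh) {a b : V ≃ₗ[K] V} (ha : a ∈ Gh) (hb : b ∈ Gh)
    (han : ∀ n ∈ Nh, a * n = n * a) (hbn : ∀ n ∈ Nh, b * n = n * b) (hab : a * b = b * a) (ha4 : a ^ 4 = 1)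
    (hb2 : b ^ 2 = 1)
    (h : ∀ (i j : ℕ) (k : ℤ) (c : K), (∀ v, (a ^ i * b ^ j) v = c • (sh ^ k) v) → 4 ∣ i ∧ 2 ∣ j) : False := by
  have hsG : sh ∈ Gh := Nh_le LK LK.sN
  have cen : ∀ g : V ≃ₗ[K] V, ∀ hg : g ∈ Gh, (∀ n ∈ Nh, g * n = n * g) → ∀ n ∈ N0, π ⟨g, hg⟩ * n = n * π ⟨g, hg⟩ := by
    intro g hg hgn n hn
    obtain ⟨m, hm, hmG, rfl⟩ := exists_lift L LK hn
    rw [← map_mul, ← map_mul]
    exact congrArg π (Subtype.ext (hgn m hm))
  refine K0.T5 (a := π ⟨a, ha⟩) (b := π ⟨b, hb⟩) (cen a ha han) (cen b hb hbn) ?_ ?_ ?_ ?_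
  · rw [← map_mul, ← map_mul]
    exact congrArg π (Subtype.ext hab)
  · rw [← map_pow, ← map_one π]
    exact congrArg π (Subtype.ext ha4)
  · rw [← map_pow, ← map_one π]
    exact congrArg π (Subtype.ext hb2)
  · rintro i j ⟨k, hk⟩
    have h2 : s = π ⟨sh, hsG⟩ := (LK.pi_s hsG).symm
    have hk' : s ^ k = π ⟨a, ha⟩ ^ i * π ⟨b, hb⟩ ^ j := hk
    rw [h2, ← map_zpow, ← map_pow, ← map_pow, ← map_mul] at hk'
    obtain ⟨c, hc⟩ := (pi_eq_iff L (mul_mem (pow_mem ha i) (pow_mem hb j)) (zpow_mem hsG k)).1 hk'.symm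
    exact h i j k c hc

end lifts

section symp

variable {G : Type*} [Group G] {K V : Type*} [Field K] [AddCommGroup V] [Module K V]
variable {Φ : Frm K V} {π : ↥Φ.Iso →* G}
variable {N0 A E : Subgroup G} {z s x r : G} {ψ : ↥A →* Equiv.Perm (Fin 6)}
variable {Nh Eh : Subgroup (V ≃ₗ[K] V)} {zh sh xh rh : V ≃ₗ[K] V}

/-- scalars in `Sp(V)` are `±1` -/
theorem sc_sq (hΦ : IsSp Φ) {c : K} {g h : V ≃ₗ[K] V} (hg : g ∈ Φ.Iso) (hh : h ∈ Φ.Iso) (hc : ∀ v, g v = c • h v)
    [Nontrivial V] : c = 1 ∨ c = -1 := by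
  obtain ⟨v, hv⟩ := exists_ne (0 : V)
  obtain ⟨w, hw⟩ : ∃ w, Φ.B v w ≠ 0 := by
    by_contra hcon
    push Not at hcon
    exact hv (hΦ.nd v hcon)
  have h1 := hg.1 v w
  rw [hc, hc, Φ.smul_left, Φ.smul_right, hΦ.s, hh.1] at h1
  have h2 : (c * c - 1) * Φ.B v w = 0 := by linear_combination h1
  have h3 : c * c = 1 := sub_eq_zero.1 ((mul_eq_zero.1 h2).resolve_right hw)
  exact mul_self_eq_one_iff.1 h3

theorem nontriv (LK : LKit Φ.Iso π N0 A E z s x r Nh Eh zh sh xh rh) : Nontrivial V := by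
  by_contra h
  rw [not_nontrivial_iff_subsingleton] at h
  exact LK.z_ne ⟨1, fun v => Subsingleton.elim _ _⟩

/-- **the square of `sh`** -/
theorem s_sq' (hΦ : IsSp Φ) (LK : LKit Φ.Iso π N0 A E z s x r Nh Eh zh sh xh rh) :
    (∀ v, sh (sh v) = zh v) ∨ (∀ v, sh (sh v) = - zh v) := by
  have := nontriv LK
  obtain ⟨c, -, hc⟩ := LK.s_sq
  have hsG : sh ∈ Φ.Iso := Nh_le LK LK.sN
  have hzG : zh ∈ Φ.Iso := Nh_le LK LK.zN
  rcases sc_sq hΦ (mul_mem hsG hsG) hzG hc with h | h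
  · left
    intro v
    have := hc v
    rw [h, one_smul] at this
    exact this
  · right
    intro v
    have := hc v
    rw [h, neg_one_smul] at this
    exact this

/-- the involution `ζ = - sh²` : its fixed space is `{sh² = -1}` -/
theorem exists_zeta (h2 : (2 : K) ≠ 0) (hΦ : IsSp Φ) (LK : LKit Φ.Iso π N0 A E z s x r Nh Eh zh sh xh rh) :
    ∃ ζ : V ≃ₗ[K] V, ζ ∈ Φ.Iso ∧ ζ * ζ = 1 ∧ (∀ v, sh (sh v) = - ζ v) ∧ ((∀ v, ζ v = zh v) ∨ (∀ v, ζ v = - zh v)) ∧
      (∃ v, v ≠ 0 ∧ ζ v = v) ∧ (∃ v, v ≠ 0 ∧ ζ v = -v) := by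
  have hsG : sh ∈ Φ.Iso := Nh_le LK LK.sN
  have hzG : zh ∈ Φ.Iso := Nh_le LK LK.zN
  let m1 : V ≃ₗ[K] V := LinearEquiv.neg K
  have hm1 : ∀ v, m1 v = -v := fun v => rfl
  have hm1G : m1 ∈ Φ.Iso := by
    refine ⟨fun v w => ?_, fun v => by rw [hΦ.q, hΦ.q]⟩
    rw [hm1, hm1, ← neg_one_smul K v, ← neg_one_smul K w, Φ.smul_left, Φ.smul_right, hΦ.s]
    ring
  let ζ : V ≃ₗ[K] V := m1 * (sh * sh)
  have hζ : ∀ v, ζ v = - sh (sh v) := fun v => rfl
  have hzz : ∀ v, zh (zh v) = v := z_z LK.z_sq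
  have h4 : (∀ v, ζ v = zh v) ∨ (∀ v, ζ v = - zh v) := by
    rcases s_sq' hΦ LK with h | h
    · right
      intro v
      rw [hζ, h]
    · left
      intro v
      rw [hζ, h, neg_neg]
  have h5 : ζ * ζ = 1 := by
    ext v
    change ζ (ζ v) = v
    rcases h4 with h | h
    · rw [h, h, hzz]
    · rw [h, h, map_neg, neg_neg, hzz]
  refine ⟨ζ, mul_mem hm1G (mul_mem hsG hsG), h5, fun v => ?_, h4, ?_, ?_⟩
  · rw [hζ, neg_neg]
  · by_contra hcon
    push Not at hcon
    apply LK.z_ne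
    have h6 : ∀ v, ζ v = -v := by
      intro v
      by_contra hv
      refine hcon (v + ζ v) (fun h => hv ?_) ?_
      · rw [eq_neg_iff_add_eq_zero, add_comm]; exact h
      · rw [map_add, z_z h5, add_comm]
    rcases h4 with h | h
    · exact ⟨-1, fun v => by rw [← h, h6, neg_one_smul]⟩
    · exact ⟨1, fun v => by rw [one_smul, ← neg_inj, ← h, h6]⟩
  · by_contra hcon
    push Not at hcon
    apply LK.z_ne
    have h6 : ∀ v, ζ v = v := by
      intro v
      by_contra hv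
      refine hcon (v - ζ v) (fun h => hv (sub_eq_zero.1 h).symm) ?_
      rw [map_sub, z_z h5, neg_sub]
    rcases h4 with h | h
    · exact ⟨1, fun v => by rw [← h, h6, one_smul]⟩
    · exact ⟨-1, fun v => by rw [neg_one_smul, ← neg_inj, ← h, h6, neg_neg]⟩

end symp

end Cfsg.Agent.H105.C3
end

-- part: H105/C3/PspTwo
section
/-!
# S1920, case B, the symplectic row: second step (helper105)

`ζ = - sh²`, `V_c = {ζ = 1} = {sh² = -1}`, `V_r = {ζ = -1} = {sh² = 1}`.
* `CN_of` : isometries of `V_c`, extended by `1`;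
* `s_comm'` : `sh` commutes with `Nh`;
* `no_t` : there is no isometry `t` of `V_c` with `t sh = - sh t`, `t n = ± n t`, commuting with `Eh`;
* `no_ab` : there are no `a`, `b` (from T5).
-/

set_option autoImplicit false
set_option linter.unusedSectionVars false
set_option linter.unusedVariables false

namespace Cfsg.Agent.H105.C3

open Subgroup Cfsg.Agent.H415.C3 Cfsg.Agent.H847.Bs

variable {G : Type*} [Group G] {K V : Type*} [Field K] [AddCommGroup V] [Module K V]
variable {Φ : Frm K V} {π : ↥Φ.Iso →* G}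
variable {N0 A E : Subgroup G} {z s x r : G} {ψ : ↥A →* Equiv.Perm (Fin 6)}
variable {Nh Eh : Subgroup (V ≃ₗ[K] V)} {zh sh xh rh ζ : V ≃ₗ[K] V}

/-- the data of `ζ` -/
structure Zt (Φ : Frm K V) (zh sh ζ : V ≃ₗ[K] V) : Prop where
  mem : ζ ∈ Φ.Iso
  sq : ζ * ζ = 1
  s_sq : ∀ v, sh (sh v) = - ζ v
  eq : (∀ v, ζ v = zh v) ∨ (∀ v, ζ v = - zh v)
  pos : ∃ v, v ≠ 0 ∧ ζ v = v
  neg : ∃ v, v ≠ 0 ∧ ζ v = -v

theorem exists_Zt (h2 : (2 : K) ≠ 0) (hΦ : IsSp Φ) (LK : LKit Φ.Iso π N0 A E z s x r Nh Eh zh sh xh rh) :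
    ∃ ζ, Zt Φ zh sh ζ := by
  obtain ⟨ζ, h1, h3, h4, h5, h6, h7⟩ := exists_zeta h2 hΦ LK
  exact ⟨ζ, h1, h3, h4, h5, h6, h7⟩

namespace Zt

theorem comm (Z : Zt Φ zh sh ζ) {g : V ≃ₗ[K] V} (h : ∀ v, g (zh v) = zh (g v)) (v : V) : g (ζ v) = ζ (g v) := by
  rcases Z.eq with h1 | h1
  · rw [h1, h1, h]
  · rw [h1, h1, map_neg, h]

theorem zh_eq (Z : Zt Φ zh sh ζ) : (∀ v, zh v = ζ v) ∨ (∀ v, zh v = - ζ v) := by
  rcases Z.eq with h1 | h1
  · exact Or.inl fun v => (h1 v).symm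
  · exact Or.inr fun v => by rw [h1, neg_neg]

end Zt

variable (LK : LKit Φ.Iso π N0 A E z s x r Nh Eh zh sh xh rh) (Z : Zt Φ zh sh ζ)

include LK in
theorem n_zh {n : V ≃ₗ[K] V} (hn : n ∈ Nh) (v : V) : n (zh v) = zh (n v) :=
  (comm_app (LK.z_comm n hn) v).symm

include LK Z in
theorem n_ζ {n : V ≃ₗ[K] V} (hn : n ∈ Nh) (v : V) : n (ζ v) = ζ (n v) := Z.comm (n_zh LK hn) v

include LK Z in
theorem e_ζ {e : V ≃ₗ[K] V} (he : e ∈ Eh) (v : V) : e (ζ v) = ζ (e v) :=
  Z.comm (fun v => comm_app (LK.Eh_comm e he zh LK.zN) v) v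

include LK Z in
/-- isometries of `V_c`, extended by `1` -/
theorem CN_of (h2 : (2 : K) ≠ 0) {a : V ≃ₗ[K] V} (haζ : ∀ v, a (ζ v) = ζ (a v)) (har : ∀ v, ζ v = -v → a v = v)
    (h : ∀ n ∈ Nh, (∀ v, ζ v = v → a (n v) = n (a v)) ∨ (∀ v, ζ v = v → a (n v) = - n (a v))) : CN Nh zh a := by
  intro n hn
  have hr : ∀ v, ζ v = -v → a (n v) = n (a v) := by
    intro v hv
    rw [har v hv, har]
    rw [← n_ζ LK Z hn, hv, map_neg]
  have ext' : ∀ f g : V →ₗ[K] V, (∀ v, ζ v = v → f v = g v) → (∀ v, ζ v = -v → f v = g v) → ∀ v, f v = g v := by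
    intro f g h1 h3 v
    have hp : ζ (v + ζ v) = v + ζ v := by rw [map_add, z_z Z.sq, add_comm]
    have hm : ζ (v - ζ v) = -(v - ζ v) := by rw [map_sub, z_z Z.sq, neg_sub]
    have e : v = (2 : K)⁻¹ • ((v + ζ v) + (v - ζ v)) := by
      rw [show (v + ζ v) + (v - ζ v) = v + v by abel, half_add h2]
    generalize v + ζ v = a' at hp e
    generalize v - ζ v = b' at hm e
    rw [e, map_smul, map_smul, map_add, map_add, h1 _ hp, h3 _ hm]
  rcases h n hn with h1 | h1
  · refine ⟨1, Or.inl fun v => ?_⟩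
    rw [one_smul]
    exact ext' ((a : V →ₗ[K] V) ∘ₗ n) ((n : V →ₗ[K] V) ∘ₗ a) h1 hr v
  · have key : ∀ v, a (n v) = - ζ (n (a v)) := by
      intro v
      refine ext' ((a : V →ₗ[K] V) ∘ₗ n) (-((ζ : V →ₗ[K] V) ∘ₗ (n : V →ₗ[K] V) ∘ₗ a)) (fun v hv => ?_) (fun v hv => ?_) v
      · change a (n v) = - ζ (n (a v))
        rw [h1 v hv, ← n_ζ LK Z hn, ← haζ, hv]
      · change a (n v) = - ζ (n (a v))
        rw [hr v hv, ← n_ζ LK Z hn, ← haζ, hv, map_neg, map_neg, neg_neg]
    rcases Z.eq with h3 | h3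
    · refine ⟨-1, Or.inr fun v => ?_⟩
      rw [key, h3, neg_one_smul]
    · refine ⟨1, Or.inr fun v => ?_⟩
      rw [key, h3, one_smul, neg_neg]

include Z in
theorem sh_ne_zero_of_neg : ∃ v, v ≠ 0 ∧ ζ v = -v ∧ sh v ≠ 0 := by
  obtain ⟨v, hv, hv'⟩ := Z.neg
  exact ⟨v, hv, hv', fun h => hv (sh.map_eq_zero_iff.1 h)⟩

variable (K0 : Kit N0 A E z s x r ψ) (L : Lin Φ.Iso π)

include LK Z in
theorem s_ζ (v : V) : sh (ζ v) = ζ (sh v) := n_ζ LK Z LK.sN v

include LK Z K0 L in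
/-- T1 on `V_c` -/
theorem T1c (h2 : (2 : K) ≠ 0) {a : V ≃ₗ[K] V} (ha : a ∈ Φ.Iso) (haζ : ∀ v, a (ζ v) = ζ (a v))
    (har : ∀ v, ζ v = -v → a v = v)
    (h : ∀ n ∈ Nh, (∀ v, ζ v = v → a (n v) = n (a v)) ∨ (∀ v, ζ v = v → a (n v) = - n (a v)))
    (hE : ∀ e ∈ Eh, ∀ v, ζ v = v → a (e v) = e (a v)) : ∀ v, ζ v = v → a (sh v) = sh (a v) := by
  have hE' : ∀ e ∈ Eh, ∀ v, a (e v) = e (a v) := by
    intro e he v
    have : a * e = e * a := by
      refine ext_pm h2 Z.sq (hE e he) fun v hv => ?_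
      change a (e v) = e (a v)
      rw [har v hv, har]
      rw [← e_ζ LK Z he, hv, map_neg]
    exact comm_app this v
  obtain ⟨c, hc⟩ := T1h K0 L LK ha (CN_of LK Z h2 haζ har h) hE'
  obtain ⟨w, hw, hwζ, hsw⟩ := sh_ne_zero_of_neg Z
  have h3 := hc w
  rw [har w hwζ, har (sh w) (by rw [← s_ζ LK Z, hwζ, map_neg])] at h3
  have hc1 : c = 1 := by
    have h4 : (c - 1) • sh w = 0 := by rw [sub_smul, one_smul, ← h3, sub_self]
    exact sub_eq_zero.1 ((smul_eq_zero.1 h4).resolve_right hsw)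
  intro v _
  rw [hc, hc1, one_smul]

include LK Z K0 L in
/-- **`sh` commutes with `Nh`** -/
theorem s_comm' (h2 : (2 : K) ≠ 0) (hΦ : IsSp Φ) {n : V ≃ₗ[K] V} (hn : n ∈ Nh) (v : V) : n (sh v) = sh (n v) := by
  rcases LK.s_comm n hn with h | h
  · exact h v
  · exfalso
    have hnG : n ∈ Φ.Iso := Nh_le LK hn
    have hnζ : n * ζ = ζ * n := by
      ext v
      exact n_ζ LK Z hn v
    let g : V ≃ₗ[K] V := gl h2 Z.sq (g := n) (h := 1) hnζ (by rw [one_mul, mul_one])
    have hgp : ∀ v, ζ v = v → g v = n v := fun v hv => gl_pos h2 Z.sq _ _ hv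
    have hgn : ∀ v, ζ v = -v → g v = v := fun v hv => gl_neg h2 Z.sq _ _ hv
    have hgG : g ∈ Φ.Iso := gl_mem h2 Z.sq _ _ hΦ Z.mem hnG (one_mem _)
    have hgζ : ∀ v, g (ζ v) = ζ (g v) := by
      intro v
      have : g * ζ = ζ * g := by
        refine ext_pm h2 Z.sq (fun v hv => ?_) fun v hv => ?_
        · change g (ζ v) = ζ (g v)
          rw [hv, hgp v hv, ← n_ζ LK Z hn, hv]
        · change g (ζ v) = ζ (g v)
          rw [hv, map_neg, hgn v hv, hv]
      exact comm_app this v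
    obtain ⟨v, hv, hvζ⟩ := Z.pos
    have h3 := T1c LK Z K0 L h2 hgG hgζ hgn (fun m hm => ?_) (fun e he v hv => ?_) v hvζ
    · rw [hgp v hvζ, hgp (sh v) (by rw [← s_ζ LK Z, hvζ])] at h3
      have h5 : n (sh v) = - sh (n v) := h v
      have h4 : sh (n v) + sh (n v) = 0 := by
        nth_rw 1 [← h3]
        rw [h5, neg_add_cancel]
      rw [← two_smul K, smul_eq_zero] at h4
      have h6 := h4.resolve_left h2
      exact hv (n.map_eq_zero_iff.1 (sh.map_eq_zero_iff.1 h6))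
    · -- commutators
      have hmζ : ∀ v, ζ v = v → ζ (m v) = m v := fun v hv => by rw [← n_ζ LK Z hm, hv]
      obtain ⟨c, hc, h3⟩ := LK.comm n hn m hm
      have key : ∃ d : K, (d = 1 ∨ d = -1) ∧ ∀ v, ζ v = v → n (m v) = d • m (n v) := by
        rcases h3 with h3 | h3
        · exact ⟨c, hc, fun v _ => h3 v⟩
        · rcases Z.zh_eq with h4 | h4
          · refine ⟨c, hc, fun v hv => ?_⟩
            have h5 : n (m v) = c • zh (m (n v)) := h3 v
            rw [h5, h4, ← n_ζ LK Z hm, ← n_ζ LK Z hn, hv]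
          · refine ⟨-c, by rcases hc with rfl | rfl <;> simp, fun v hv => ?_⟩
            have h5 : n (m v) = c • zh (m (n v)) := h3 v
            rw [h5, h4, ← n_ζ LK Z hm, ← n_ζ LK Z hn, hv, smul_neg, neg_smul]
      obtain ⟨d, hd, h5⟩ := key
      rcases hd with rfl | rfl
      · left
        intro v hv
        rw [hgp _ (hmζ v hv), hgp v hv, h5 v hv, one_smul]
      · right
        intro v hv
        rw [hgp _ (hmζ v hv), hgp v hv, h5 v hv, neg_one_smul]
    · rw [hgp v hv, hgp (e v) (by rw [← e_ζ LK Z he, hv])]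
      exact (comm_app (LK.Eh_comm e he n hn) v).symm

include LK Z K0 L in
/-- **there is no `t`** -/
theorem no_t (h2 : (2 : K) ≠ 0) {t : V ≃ₗ[K] V} (ht : t ∈ Φ.Iso) (htζ : ∀ v, t (ζ v) = ζ (t v))
    (htr : ∀ v, ζ v = -v → t v = v)
    (h : ∀ n ∈ Nh, (∀ v, ζ v = v → t (n v) = n (t v)) ∨ (∀ v, ζ v = v → t (n v) = - n (t v)))
    (hE : ∀ e ∈ Eh, ∀ v, ζ v = v → t (e v) = e (t v)) (hs : ∀ v, ζ v = v → t (sh v) = - sh (t v)) : False := by
  obtain ⟨v, hv, hvζ⟩ := Z.pos
  have h3 := T1c LK Z K0 L h2 ht htζ htr h hE v hvζ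
  rw [hs v hvζ] at h3
  have h4 : sh (t v) + sh (t v) = 0 := by
    nth_rw 1 [← h3]
    rw [neg_add_cancel]
  rw [← two_smul K, smul_eq_zero] at h4
  exact hv (t.map_eq_zero_iff.1 (sh.map_eq_zero_iff.1 (h4.resolve_left h2)))

include LK Z in
/-- even powers of `sh` on `V_c` -/
theorem s_pow_even (l : ℤ) {v : V} (hv : ζ v = v) : (sh ^ (2 * l)) v = (((-1 : Kˣ) ^ l : Kˣ) : K) • v := by
  have hsq : ∀ u, ζ u = u → (sh ^ (2 : ℤ)) u = -u := by
    intro u hu
    have : (sh ^ (2 : ℤ)) = sh * sh := by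
      rw [show (2 : ℤ) = 1 + 1 by norm_num, zpow_add, zpow_one]
    rw [this]
    change sh (sh u) = -u
    rw [Z.s_sq, hu]
  induction l using Int.induction_on with
  | zero => simp
  | succ l ih =>
    rw [mul_add, mul_one, add_comm, zpow_add]
    change (sh ^ (2 : ℤ)) ((sh ^ (2 * (l : ℤ))) v) = _
    rw [ih, map_smul, hsq v hv, add_comm, zpow_add]
    simp only [_root_.zpow_natCast, _root_.Units.val_pow_eq_pow_val, _root_.Units.val_neg, _root_.Units.val_one, _root_.smul_neg, _root_.zpow_ofNat, _root_.pow_one, _root_.neg_mul, _root_.one_mul, _root_.neg_smul]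
  | pred l ih =>
    have h5 : (sh ^ (2 : ℤ)) ((sh ^ (2 * (-(l : ℤ) - 1))) v) = (sh ^ (2 * (-(l : ℤ)))) v := by
      have : sh ^ (2 * (-(l : ℤ))) = sh ^ (2 : ℤ) * sh ^ (2 * (-(l : ℤ) - 1)) := by
        rw [← zpow_add]; congr 1; ring
      rw [this]
      rfl
    have h6 : ζ ((sh ^ (2 * (-(l : ℤ) - 1))) v) = (sh ^ (2 * (-(l : ℤ) - 1))) v := by
      have : Commute (sh ^ (2 * (-(l : ℤ) - 1))) ζ := by
        refine Commute.zpow_left ?_ _
        change sh * ζ = ζ * sh
        ext v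
        exact s_ζ LK Z v
      have h3 : (sh ^ (2 * (-(l : ℤ) - 1))) (ζ v) = ζ ((sh ^ (2 * (-(l : ℤ) - 1))) v) := comm_app this.eq v
      rw [← h3, hv]
    rw [hsq _ h6, ih] at h5
    rw [← neg_eq_iff_eq_neg.2 h5.symm, zpow_sub, ← neg_smul]
    simp only [_root_.zpow_neg, _root_.zpow_natCast, _root_.Units.val_inv_eq_inv_val, _root_.Units.val_pow_eq_pow_val, _root_.Units.val_neg, _root_.Units.val_one, _root_.neg_smul, _root_.zpow_ofNat, _root_.pow_one, _root_.inv_neg, _root_.inv_one, _root_.mul_neg, _root_.mul_one]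

include LK Z K0 L in
/-- **there are no `a`, `b`** : `a = sh` on `W₁`, `b = -1` on `W₂`, both trivial on `W₃` -/
theorem no_ab [Finite G] (h2 : (2 : K) ≠ 0) (hΦ : IsSp Φ) {a b : V ≃ₗ[K] V} (ha : a ∈ Φ.Iso) (hb : b ∈ Φ.Iso)
    (han : ∀ n ∈ Nh, ∀ v, a (n v) = n (a v)) (hbn : ∀ n ∈ Nh, ∀ v, b (n v) = n (b v))
    (hab : ∀ v, a (b v) = b (a v)) {w₁ w₂ w₃ : V} (h1 : w₁ ≠ 0) (h1' : w₂ ≠ 0) (h1'' : Φ.B w₃ (sh w₃) ≠ 0)
    (hz1 : ζ w₁ = w₁) (hz2 : ζ w₂ = w₂) (hz3 : ζ w₃ = w₃)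
    (ha1 : a w₁ = sh w₁) (hb1 : b w₁ = w₁) (ha2 : a w₂ = w₂) (hb2 : b w₂ = -w₂) (ha3 : a w₃ = w₃) (hb3 : b w₃ = w₃)
    (ha4 : ∀ v, a (a (a (a v))) = v) (hb22 : ∀ v, b (b v) = v) (hash : ∀ v, a (sh v) = sh (a v)) : False := by
  have ha4' : a ^ 4 = 1 := by
    ext v
    exact ha4 v
  have hb2' : b ^ 2 = 1 := by
    ext v
    exact hb22 v
  have hw3 : w₃ ≠ 0 := by
    rintro rfl
    exact h1'' (hΦ.alt _ ▸ (by rw [map_zero]))
  refine T5h K0 L LK ha hb (fun n hn => LinearEquiv.ext (han n hn)) (fun n hn => LinearEquiv.ext (hbn n hn))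
    (LinearEquiv.ext hab) ha4' hb2' fun i j k c hc => ?_
  have hpow : ∀ (g : V ≃ₗ[K] V) (w : V), g w = w → ∀ i : ℕ, (g ^ i) w = w := by
    intro g w hg i
    induction i with
    | zero => rfl
    | succ i ih =>
      rw [pow_succ]
      change (g ^ i) (g w) = w
      rw [hg, ih]
  have e3 : w₃ = c • (sh ^ k) w₃ := by
    rw [← hc w₃]
    change w₃ = (a ^ i) ((b ^ j) w₃)
    rw [hpow b w₃ hb3, hpow a w₃ ha3]
  obtain ⟨l, hl | hl⟩ := Int.even_or_odd' k
  · -- even
    subst hl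
    rw [s_pow_even LK Z l hz3, smul_smul] at e3
    have hδ : c * (((-1 : Kˣ) ^ l : Kˣ) : K) = 1 := by
      have h4 : (c * (((-1 : Kˣ) ^ l : Kˣ) : K) - 1) • w₃ = 0 := by rw [sub_smul, one_smul, ← e3, sub_self]
      exact sub_eq_zero.1 ((smul_eq_zero.1 h4).resolve_right hw3)
    have key : ∀ w, ζ w = w → (a ^ i) ((b ^ j) w) = w := by
      intro w hw
      have h4 := hc w
      rw [s_pow_even LK Z l hw, smul_smul, hδ, one_smul] at h4
      exact h4
    have k1 := key w₁ hz1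
    have k2 := key w₂ hz2
    rw [hpow b w₁ hb1] at k1
    have hcomm : (a ^ i) ((b ^ j) w₂) = (b ^ j) ((a ^ i) w₂) := by
      have : Commute (a ^ i) (b ^ j) := (show Commute a b from LinearEquiv.ext hab).pow_pow i j
      exact comm_app this.eq w₂
    rw [hcomm, hpow a w₂ ha2] at k2
    constructor
    · have a2 : (a ^ 2) w₁ = - w₁ := by
        change a (a w₁) = - w₁
        rw [ha1, hash, ha1, Z.s_sq, hz1]
      have a1 : ∀ m : ℕ, m < 4 → (a ^ m) w₁ = w₁ → m = 0 := by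
        intro m hm h
        have hne : ∀ u : V, u ≠ 0 → -u ≠ u := by
          intro u hu h
          have h4 : u + u = 0 := by nth_rw 1 [← h]; rw [neg_add_cancel]
          rw [← two_smul K, smul_eq_zero] at h4
          exact hu (h4.resolve_left h2)
        interval_cases m
        · rfl
        · exfalso
          have h4 : a w₁ = w₁ := h
          have h5 : (a ^ 2) w₁ = w₁ := hpow a w₁ h4 2
          rw [a2] at h5
          exact hne _ h1 h5
        · exfalso
          rw [a2] at h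
          exact hne _ h1 h
        · exfalso
          have h4 : (a ^ 3) w₁ = a ((a ^ 2) w₁) := rfl
          rw [h4, a2, map_neg] at h
          have h5 : a w₁ = - w₁ := by rw [← h, neg_neg, h]
          have h6 : (a ^ 2) w₁ = a (a w₁) := rfl
          rw [a2, h5, map_neg, h5, neg_neg] at h6
          exact hne _ h1 h6
      have h3 : (a ^ (i % 4)) w₁ = w₁ := by
        have h4 : a ^ i = a ^ (i % 4) := by
          conv_lhs => rw [← Nat.div_add_mod i 4]
          rw [pow_add, pow_mul, ha4', one_pow, one_mul]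
        rw [← h4]
        exact k1
      exact Nat.dvd_of_mod_eq_zero (a1 _ (Nat.mod_lt _ (by norm_num)) h3)
    · rcases Nat.even_or_odd j with hj | hj
      · exact hj.two_dvd
      · exfalso
        obtain ⟨m, rfl⟩ := hj
        rw [pow_add, pow_mul, hb2', one_pow, one_mul, pow_one, hb2] at k2
        have h4 : w₂ + w₂ = 0 := by nth_rw 1 [← k2]; rw [neg_add_cancel]
        rw [← two_smul K, smul_eq_zero] at h4
        exact h1' (h4.resolve_left h2)
  · -- odd
    exfalso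
    subst hl
    have h4 : (sh ^ (2 * l + 1)) w₃ = (sh ^ (2 * l)) (sh w₃) := by
      rw [zpow_add, zpow_one]; rfl
    rw [h4, s_pow_even LK Z l (by rw [← s_ζ LK Z, hz3]), smul_smul] at e3
    apply h1''
    nth_rw 1 [e3]
    rw [Φ.smul_left, hΦ.alt, mul_zero]

end Cfsg.Agent.H105.C3
end

-- part: H105/C3/PspThree
section
/-!
# S1920, case B, the symplectic row: restriction to `V_c` and extension (helper105)

* `Wc ζ` : the fixed space of `ζ`; `res` : restriction of elements commuting with `ζ`; `ex` : extension by `1`;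
* `psp_false` : there is no lifted kit in `Sp(V)`.
-/

set_option autoImplicit false
set_option linter.unusedSectionVars false
set_option linter.unusedVariables false

namespace Cfsg.Agent.H105.C3

open Subgroup Cfsg.Agent.H415.C3 Cfsg.Agent.H847.Bs Cfsg.Agent.H527.C3

section transport

variable {K V : Type*} [Field K] [AddCommGroup V] [Module K V]

/-- the fixed space of `ζ` -/
def Wc (ζ : V ≃ₗ[K] V) : Submodule K V where
  carrier := {v | ζ v = v}
  add_mem' := by
    intro a b ha hb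
    change ζ (a + b) = a + b
    rw [map_add, ha, hb]
  zero_mem' := map_zero ζ
  smul_mem' := by
    intro c a ha
    change ζ (c • a) = c • a
    rw [map_smul, ha]

variable {ζ : V ≃ₗ[K] V}

theorem mem_Wc {v : V} : v ∈ Wc ζ ↔ ζ v = v := Iff.rfl

theorem cen_app (g : ↥(centralizer {ζ})) (v : V) : (g : V ≃ₗ[K] V) (ζ v) = ζ ((g : V ≃ₗ[K] V) v) :=
  comm_app (mem_centralizer_singleton_iff.1 g.2) v

theorem mem_cen' {g : V ≃ₗ[K] V} (h : ∀ v, g (ζ v) = ζ (g v)) : g ∈ centralizer {ζ} :=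
  mem_centralizer_singleton_iff.2 (LinearEquiv.ext h)

/-- restriction to the fixed space of `ζ` -/
noncomputable def res0 (ζ : V ≃ₗ[K] V) : ↥(centralizer {ζ}) →* Module.End K (Wc ζ) where
  toFun g := ((g : V ≃ₗ[K] V) : V →ₗ[K] V).restrict (p := Wc ζ) (q := Wc ζ) fun v hv => by
    change ζ ((g : V ≃ₗ[K] V) v) = (g : V ≃ₗ[K] V) v
    rw [← cen_app, mem_Wc.1 hv]
  map_one' := by
    ext v
    rfl
  map_mul' g g' := by
    ext v
    rfl

/-- restriction to the fixed space of `ζ` -/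
noncomputable def res (ζ : V ≃ₗ[K] V) : ↥(centralizer {ζ}) →* (Module.End K (Wc ζ))ˣ := (res0 ζ).toHomUnits

theorem res_apply (g : ↥(centralizer {ζ})) (w : Wc ζ) : ((res ζ g • w : Wc ζ) : V) = (g : V ≃ₗ[K] V) w := rfl

/-- projection to the fixed space -/
noncomputable def prj (hz : ζ * ζ = 1) : V →ₗ[K] Wc ζ where
  toFun v := ⟨(2 : K)⁻¹ • (v + ζ v), by
    change ζ ((2 : K)⁻¹ • (v + ζ v)) = (2 : K)⁻¹ • (v + ζ v)
    rw [map_smul, map_add, z_z hz, add_comm]⟩
  map_add' a b := by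
    apply Subtype.ext
    change (2 : K)⁻¹ • (a + b + ζ (a + b)) = (2 : K)⁻¹ • (a + ζ a) + (2 : K)⁻¹ • (b + ζ b)
    rw [map_add]
    module
  map_smul' c a := by
    apply Subtype.ext
    change (2 : K)⁻¹ • (c • a + ζ (c • a)) = c • ((2 : K)⁻¹ • (a + ζ a))
    rw [map_smul]
    module

theorem prj_apply (hz : ζ * ζ = 1) (v : V) : ((prj hz v : Wc ζ) : V) = (2 : K)⁻¹ • (v + ζ v) := rfl

theorem prj_pos (h2 : (2 : K) ≠ 0) (hz : ζ * ζ = 1) (w : Wc ζ) : prj hz (w : V) = w := by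
  apply Subtype.ext
  rw [prj_apply, mem_Wc.1 w.2, half_add h2]

theorem prj_neg (hz : ζ * ζ = 1) {v : V} (hv : ζ v = -v) : prj hz v = 0 := by
  apply Subtype.ext
  rw [prj_apply, hv, add_neg_cancel, smul_zero]
  rfl

/-- extension by `1` -/
noncomputable def ex0 (hz : ζ * ζ = 1) (f : Module.End K (Wc ζ)) : V →ₗ[K] V :=
  (Wc ζ).subtype ∘ₗ f ∘ₗ prj hz + (LinearMap.id - (Wc ζ).subtype ∘ₗ prj hz)

theorem ex0_apply (hz : ζ * ζ = 1) (f : Module.End K (Wc ζ)) (v : V) :
    ex0 hz f v = (f (prj hz v) : V) + (v - (prj hz v : V)) := rfl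

theorem ex0_pos (h2 : (2 : K) ≠ 0) (hz : ζ * ζ = 1) (f : Module.End K (Wc ζ)) (w : Wc ζ) :
    ex0 hz f (w : V) = f w := by
  rw [ex0_apply, prj_pos h2, sub_self, add_zero]

theorem ex0_neg (hz : ζ * ζ = 1) (f : Module.End K (Wc ζ)) {v : V} (hv : ζ v = -v) : ex0 hz f v = v := by
  rw [ex0_apply, prj_neg hz hv, map_zero]
  simp

theorem lin_ext (h2 : (2 : K) ≠ 0) (hz : ζ * ζ = 1) {f g : V →ₗ[K] V} (h1 : ∀ w : Wc ζ, f (w : V) = g (w : V))
    (h3 : ∀ v, ζ v = -v → f v = g v) (v : V) : f v = g v := by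
  have hp : ζ (v + ζ v) = v + ζ v := by rw [map_add, z_z hz, add_comm]
  have hm : ζ (v - ζ v) = -(v - ζ v) := by rw [map_sub, z_z hz, neg_sub]
  have e : v = (2 : K)⁻¹ • ((v + ζ v) + (v - ζ v)) := by
    rw [show (v + ζ v) + (v - ζ v) = v + v by abel, half_add h2]
  generalize v + ζ v = a' at hp e
  generalize v - ζ v = b' at hm e
  rw [e, map_smul, map_smul, map_add, map_add, h1 ⟨a', hp⟩, h3 _ hm]

theorem ex0_comp (h2 : (2 : K) ≠ 0) (hz : ζ * ζ = 1) (f g : Module.End K (Wc ζ)) (v : V) :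
    ex0 hz f (ex0 hz g v) = ex0 hz (f * g) v := by
  refine lin_ext h2 hz (f := ex0 hz f ∘ₗ ex0 hz g) (g := ex0 hz (f * g)) (fun w => ?_) (fun v hv => ?_) v
  · change ex0 hz f (ex0 hz g w) = _
    rw [ex0_pos h2, ex0_pos h2, ex0_pos h2]
    rfl
  · change ex0 hz f (ex0 hz g v) = _
    rw [ex0_neg hz g hv, ex0_neg hz f hv, ex0_neg hz _ hv]

theorem ex0_one (h2 : (2 : K) ≠ 0) (hz : ζ * ζ = 1) (v : V) : ex0 hz (1 : Module.End K (Wc ζ)) v = v := by
  refine lin_ext h2 hz (f := ex0 hz 1) (g := LinearMap.id) (fun w => ?_) (fun v hv => ?_) v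
  · rw [ex0_pos h2]; rfl
  · rw [ex0_neg hz _ hv]; rfl

/-- extension by `1` -/
noncomputable def ex (h2 : (2 : K) ≠ 0) (hz : ζ * ζ = 1) (f : (Module.End K (Wc ζ))ˣ) : V ≃ₗ[K] V :=
  LinearEquiv.ofLinearMap (ex0 hz f) (ex0 hz ((f⁻¹ : (Module.End K (Wc ζ))ˣ) : Module.End K (Wc ζ)))
    (by
      ext v
      change ex0 hz _ (ex0 hz _ v) = v
      rw [ex0_comp h2, Units.mul_inv, ex0_one h2])
    (by
      ext v
      change ex0 hz _ (ex0 hz _ v) = v
      rw [ex0_comp h2, Units.inv_mul, ex0_one h2])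

variable (h2 : (2 : K) ≠ 0) (hz : ζ * ζ = 1) (f : (Module.End K (Wc ζ))ˣ)

theorem ex_pos (w : Wc ζ) : ex h2 hz f (w : V) = ((f • w : Wc ζ) : V) := ex0_pos h2 hz f w

theorem ex_neg {v : V} (hv : ζ v = -v) : ex h2 hz f v = v := ex0_neg hz f hv

theorem ex_ζ (v : V) : ex h2 hz f (ζ v) = ζ (ex h2 hz f v) := by
  refine lin_ext h2 hz (f := (ex h2 hz f : V →ₗ[K] V) ∘ₗ (ζ : V →ₗ[K] V)) (g := (ζ : V →ₗ[K] V) ∘ₗ ex h2 hz f)
    (fun w => ?_) (fun v hv => ?_) v
  · change ex h2 hz f (ζ w) = ζ (ex h2 hz f w)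
    rw [mem_Wc.1 w.2, ex_pos h2, mem_Wc.1 (f • w).2]
  · change ex h2 hz f (ζ v) = ζ (ex h2 hz f v)
    rw [hv, map_neg, ex_neg h2 hz f hv, hv]

/-- `ζ ∈ Iso`: the two eigenspaces are orthogonal -/
theorem orth_pm {Φ : Frm K V} (hΦ : IsSp Φ) (h2 : (2 : K) ≠ 0) (hzΦ : ζ ∈ Φ.Iso) {a b : V} (ha : ζ a = a) (hb : ζ b = -b) :
    Φ.B a b = 0 ∧ Φ.B b a = 0 := by
  have h1 := hzΦ.1 a b
  have h3 := hzΦ.1 b a
  have e1 : ∀ x y : V, Φ.B x (-y) = - Φ.B x y := by
    intro x y
    rw [← neg_one_smul K y, Φ.smul_right, hΦ.s, neg_one_mul]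
  have e2 : ∀ x y : V, Φ.B (-x) y = - Φ.B x y := by
    intro x y
    rw [← neg_one_smul K x, Φ.smul_left, neg_one_mul]
  rw [ha, hb, e1] at h1
  rw [ha, hb, e2] at h3
  constructor
  · have h4 : (2 : K) * Φ.B a b = 0 := by linear_combination (-1 : K) * h1
    exact (mul_eq_zero.1 h4).resolve_left h2
  · have h4 : (2 : K) * Φ.B b a = 0 := by linear_combination (-1 : K) * h3
    exact (mul_eq_zero.1 h4).resolve_left h2

theorem ex_mem {Φ : Frm K V} (hΦ : IsSp Φ) (hzΦ : ζ ∈ Φ.Iso)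
    (hf : ∀ u w : Wc ζ, Φ.B ((f • u : Wc ζ) : V) ((f • w : Wc ζ) : V) = Φ.B (u : V) (w : V)) : ex h2 hz f ∈ Φ.Iso := by
  refine ⟨fun v w => ?_, fun v => by rw [hΦ.q, hΦ.q]⟩
  have hp : ∀ v : V, ζ (v + ζ v) = v + ζ v := fun v => by rw [map_add, z_z hz, add_comm]
  have hm : ∀ v : V, ζ (v - ζ v) = -(v - ζ v) := fun v => by rw [map_sub, z_z hz, neg_sub]
  have e : ∀ v : V, v = (2 : K)⁻¹ • ((v + ζ v) + (v - ζ v)) := fun v => by
    rw [show (v + ζ v) + (v - ζ v) = v + v by abel, half_add h2]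
  rw [e v, e w]
  have hpv := hp v
  have hpw := hp w
  have hmv := hm v
  have hmw := hm w
  generalize v + ζ v = a1 at hpv
  generalize v - ζ v = b1 at hmv
  generalize w + ζ w = a2 at hpw
  generalize w - ζ w = b2 at hmw
  have k1 : ex h2 hz f a1 = ((f • (⟨a1, hpv⟩ : Wc ζ) : Wc ζ) : V) := ex_pos h2 hz f ⟨a1, hpv⟩
  have k2 : ex h2 hz f a2 = ((f • (⟨a2, hpw⟩ : Wc ζ) : Wc ζ) : V) := ex_pos h2 hz f ⟨a2, hpw⟩
  rw [map_smul, map_smul, map_add, map_add, ex_neg h2 hz f hmv, ex_neg h2 hz f hmw, k1, k2]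
  rw [Φ.smul_left, Φ.smul_right, hΦ.s, Φ.smul_left, Φ.smul_right, hΦ.s]
  congr 2
  rw [Φ.add_left, Φ.add_right, Φ.add_right, Φ.add_left, Φ.add_right, Φ.add_right, hf,
    (orth_pm hΦ h2 hzΦ hpv hmw).1, (orth_pm hΦ h2 hzΦ hpw hmv).2,
    (orth_pm hΦ h2 hzΦ (mem_Wc.1 (f • (⟨a1, hpv⟩ : Wc ζ)).2) hmw).1,
    (orth_pm hΦ h2 hzΦ (mem_Wc.1 (f • (⟨a2, hpw⟩ : Wc ζ)).2) hmv).2]

theorem perf_map {X Y : Type*} [Group X] [Group Y] {C H : Subgroup X} (hH : ⁅H, H⁆ = H) (hle : H ≤ C) (φ : ↥C →* Y) :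
    ⁅(H.subgroupOf C).map φ, (H.subgroupOf C).map φ⁆ = (H.subgroupOf C).map φ := by
  have h1 : ⁅H.subgroupOf C, H.subgroupOf C⁆ = H.subgroupOf C := by
    apply Subgroup.map_injective C.subtype_injective
    rw [Subgroup.map_commutator, Subgroup.map_subgroupOf_eq_of_le hle, hH]
  rw [← Subgroup.map_commutator, h1]

end transport

end Cfsg.Agent.H105.C3
end

-- part: H105/C3/PspFour
section
/-!
# S1920, case B, the symplectic row: the contradiction (helper105)

`psp_false` : there is no lifted kit in `Sp(V)`, odd characteristic.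
-/

set_option autoImplicit false
set_option linter.unusedSectionVars false
set_option linter.unusedVariables false

namespace Cfsg.Agent.H105.C3

open Subgroup Cfsg.Agent.H415.C3 Cfsg.Agent.H847.Bs Cfsg.Agent.H527.C3

variable {G : Type*} [Group G] {K V : Type*} [Field K] [AddCommGroup V] [Module K V]
variable {Φ : Frm K V} {π : ↥Φ.Iso →* G}
variable {N0 A E : Subgroup G} {z s x r : G} {ψ : ↥A →* Equiv.Perm (Fin 6)}
variable {Nh Eh : Subgroup (V ≃ₗ[K] V)} {zh sh xh rh ζ : V ≃ₗ[K] V}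

/-- the symmetric form `h(u, w) = B(u, sh w)` on `V_c` -/
noncomputable def hc (hΦ : IsSp Φ) (ζ sh : V ≃ₗ[K] V) : LinearMap.BilinForm K (Wc ζ) :=
  LinearMap.mk₂ K (fun u w => Φ.B (u : V) (sh (w : V)))
    (fun u v w => Φ.add_left _ _ _)
    (fun c u w => Φ.smul_left _ _ _)
    (fun u v w => by
      change Φ.B (u : V) (sh ((v : V) + (w : V))) = _
      rw [map_add, Φ.add_right])
    (fun c u w => by
      change Φ.B (u : V) (sh (c • (w : V))) = _
      rw [map_smul, Φ.smul_right, hΦ.s, smul_eq_mul])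

theorem B_neg_right (hΦ : IsSp Φ) (x y : V) : Φ.B x (-y) = - Φ.B x y := by
  rw [← neg_one_smul K y, Φ.smul_right, hΦ.s, neg_one_mul]

theorem B_neg_left (hΦ : IsSp Φ) (x y : V) : Φ.B (-x) y = - Φ.B x y := by
  rw [← neg_one_smul K x, Φ.smul_left, neg_one_mul]

theorem B_swap (hΦ : IsSp Φ) (x y : V) : Φ.B y x = - Φ.B x y := by
  have h := hΦ.alt (x + y)
  rw [Φ.add_left, Φ.add_right, Φ.add_right, hΦ.alt, hΦ.alt, zero_add, add_zero] at h
  linear_combination h

variable (LK : LKit Φ.Iso π N0 A E z s x r Nh Eh zh sh xh rh) (Z : Zt Φ zh sh ζ)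

include LK Z in
theorem Nh_cen : Nh ≤ centralizer {ζ} := fun _ hn => mem_cen' (n_ζ LK Z hn)

include LK Z in
theorem Eh_cen : Eh ≤ centralizer {ζ} := fun _ he => mem_cen' (e_ζ LK Z he)

/-- the restriction of `Nh` -/
noncomputable def NNc (Nh : Subgroup (V ≃ₗ[K] V)) (ζ : V ≃ₗ[K] V) : Subgroup (Module.End K (Wc ζ))ˣ :=
  (Nh.subgroupOf (centralizer {ζ})).map (res ζ)

theorem mem_NNc {f : (Module.End K (Wc ζ))ˣ} :
    f ∈ NNc Nh ζ ↔ ∃ n ∈ Nh, ∃ h : n ∈ centralizer {ζ}, res ζ ⟨n, h⟩ = f := by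
  constructor
  · rintro ⟨⟨n, hn⟩, hn', rfl⟩
    exact ⟨n, mem_subgroupOf.1 hn', hn, rfl⟩
  · rintro ⟨n, hn, h, rfl⟩
    exact ⟨⟨n, h⟩, mem_subgroupOf.2 hn, rfl⟩

include LK Z in
theorem exists_c {n : V ≃ₗ[K] V} (hn : n ∈ Nh) {c : K} (hc : c = 1 ∨ c = -1) {a : V → V}
    (ha : (∀ v, n v = c • a v) ∨ (∀ v, n v = c • zh (a v))) (hζ : ∀ v, ζ v = v → ζ (a v) = a v) :
    (∀ v, ζ v = v → n v = a v) ∨ (∀ v, ζ v = v → n v = - a v) := by
  have key : ∃ d : K, (d = 1 ∨ d = -1) ∧ ∀ v, ζ v = v → n v = d • a v := by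
    rcases ha with h3 | h3
    · exact ⟨c, hc, fun v _ => h3 v⟩
    · rcases Z.zh_eq with h4 | h4
      · refine ⟨c, hc, fun v hv => ?_⟩
        rw [h3 v, h4, hζ v hv]
      · refine ⟨-c, by rcases hc with rfl | rfl <;> simp, fun v hv => ?_⟩
        rw [h3 v, h4, hζ v hv, smul_neg, neg_smul]
  obtain ⟨d, hd, h5⟩ := key
  rcases hd with rfl | rfl
  · left
    intro v hv
    rw [h5 v hv, one_smul]
  · right
    intro v hv
    rw [h5 v hv, neg_one_smul]

variable (K0 : Kit N0 A E z s x r ψ) (L : Lin Φ.Iso π)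

/-- **there is no lifted kit in `Sp(V)`** -/
theorem psp_false [Finite G] [Finite K] [Finite V] (h2 : (2 : K) ≠ 0) (hΦ : IsSp Φ) (K0 : Kit N0 A E z s x r ψ)
    (L : Lin Φ.Iso π) (LK : LKit Φ.Iso π N0 A E z s x r Nh Eh zh sh xh rh) : False := by
  classical
  obtain ⟨ζ, Z⟩ := exists_Zt h2 hΦ LK
  have hVn := nontriv LK
  have hs : ∀ n ∈ Nh, ∀ v, n (sh v) = sh (n v) := fun n hn v => s_comm' LK Z K0 L h2 hΦ hn v
  have hsC : sh ∈ centralizer {ζ} := Nh_cen LK Z LK.sN
  let J : (Module.End K (Wc ζ))ˣ := res ζ ⟨sh, hsC⟩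
  have hJ : ∀ w : Wc ζ, ((J • w : Wc ζ) : V) = sh (w : V) := fun w => rfl
  have hJ2 : J * J = -1 := by
    refine Units.ext (LinearMap.ext fun w => Subtype.ext ?_)
    change sh (sh (w : V)) = -(w : V)
    rw [Z.s_sq, mem_Wc.1 w.2]
  have hJN : J ∈ NNc Nh ζ := mem_NNc.2 ⟨sh, LK.sN, hsC, rfl⟩
  have hsΦ : sh ∈ Φ.Iso := Nh_le LK LK.sN
  -- skew-adjointness of `sh` on `V_c`
  have hskew : ∀ u w : Wc ζ, Φ.B (sh (u : V)) (w : V) = - Φ.B (u : V) (sh (w : V)) := by
    intro u w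
    have h3 := hsΦ.1 (sh (u : V)) (w : V)
    rw [Z.s_sq, mem_Wc.1 u.2, B_neg_left hΦ] at h3
    exact h3.symm
  let h := hc hΦ ζ sh
  have hh : ∀ u w : Wc ζ, h u w = Φ.B (u : V) (sh (w : V)) := fun _ _ => rfl
  have hB : ∀ u w : Wc ζ, Φ.B (u : V) (w : V) = - h u (J • w) := by
    intro u w
    rw [hh, hJ, Z.s_sq, mem_Wc.1 w.2, B_neg_right hΦ, neg_neg]
  have hD : Dat h (NNc Nh ζ) J := by
    refine ⟨h2, fun u v => ?_, fun u hu => ?_, ?_, ?_, hJN, hJ2, ?_, ?_, ?_⟩
    · rw [hh, hh, B_swap hΦ (sh (u : V)) (v : V), hskew, neg_neg]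
    · -- nondegenerate
      have h3 : (u : V) = 0 := by
        apply hΦ.nd
        intro v
        have hp : ζ (v + ζ v) = v + ζ v := by rw [map_add, z_z Z.sq, add_comm]
        have hm : ζ (v - ζ v) = -(v - ζ v) := by rw [map_sub, z_z Z.sq, neg_sub]
        have e : v = (2 : K)⁻¹ • ((v + ζ v) + (v - ζ v)) := by
          rw [show (v + ζ v) + (v - ζ v) = v + v by abel, half_add h2]
        generalize v + ζ v = a' at hp e
        generalize v - ζ v = b' at hm e
        rw [e, Φ.smul_right, Φ.add_right, (orth_pm hΦ h2 Z.mem (mem_Wc.1 u.2) hm).1, add_zero]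
        have h4 : Φ.B (u : V) a' = - h u (J • ⟨a', hp⟩) := hB u ⟨a', hp⟩
        rw [h4, hu, neg_zero, mul_zero]
      exact Subtype.ext h3
    · -- isometries
      intro f hf u w
      obtain ⟨n, hn, hnC, rfl⟩ := mem_NNc.1 hf
      rw [hh, hh, res_apply, res_apply]
      change Φ.B (n (u : V)) (sh (n (w : V))) = _
      rw [← hs n hn, (Nh_le LK hn).1]
    · rw [← hJ2]
      exact mul_mem hJN hJN
    · -- squares
      intro f hf
      obtain ⟨n, hn, hnC, rfl⟩ := mem_NNc.1 hf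
      obtain ⟨c, hc0, hc1⟩ := LK.sq n hn
      have hnΦ : n ∈ Φ.Iso := Nh_le LK hn
      have hzΦ : zh ∈ Φ.Iso := Nh_le LK LK.zN
      have hcc : c = 1 ∨ c = -1 := by
        rcases hc1 with hc1 | hc1
        · exact sc_sq hΦ (mul_mem hnΦ hnΦ) (one_mem _) hc1
        · exact sc_sq hΦ (mul_mem hnΦ hnΦ) hzΦ hc1
      rcases exists_c LK Z (mul_mem hn hn) hcc (a := id) hc1 (fun v hv => hv) with h3 | h3
      · left
        refine Units.ext (LinearMap.ext fun w => Subtype.ext ?_)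
        exact h3 (w : V) w.2
      · right
        refine Units.ext (LinearMap.ext fun w => Subtype.ext ?_)
        exact h3 (w : V) w.2
    · -- commutators
      intro f hf g hg
      obtain ⟨n, hn, hnC, rfl⟩ := mem_NNc.1 hf
      obtain ⟨m, hm, hmC, rfl⟩ := mem_NNc.1 hg
      obtain ⟨c, hcc, hc1⟩ := LK.comm n hn m hm
      rcases exists_c LK Z (mul_mem hn hm) hcc (a := fun v => m (n v)) hc1
        (fun v hv => by rw [← n_ζ LK Z hm, ← n_ζ LK Z hn, hv]) with h3 | h3
      · left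
        refine Units.ext (LinearMap.ext fun w => Subtype.ext ?_)
        exact h3 (w : V) w.2
      · right
        refine Units.ext (LinearMap.ext fun w => Subtype.ext ?_)
        exact h3 (w : V) w.2
    · intro f hf
      obtain ⟨n, hn, hnC, rfl⟩ := mem_NNc.1 hf
      refine Units.ext (LinearMap.ext fun w => Subtype.ext ?_)
      exact hs n hn (w : V)
  -- `EE`
  let EE : Subgroup (Module.End K (Wc ζ))ˣ := (Eh.subgroupOf (centralizer {ζ})).map (res ζ)
  have hEE : ⁅EE, EE⁆ = EE := perf_map LK.Eh_perf (Eh_cen LK Z) (res ζ)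
  have hEc : EE ≤ cen h (NNc Nh ζ) := by
    rintro _ ⟨⟨e, heC⟩, he', rfl⟩
    have he : e ∈ Eh := mem_subgroupOf.1 he'
    rw [mem_cen]
    constructor
    · intro u w
      rw [hh, hh, res_apply, res_apply]
      change Φ.B (e (u : V)) (sh (e (w : V))) = _
      rw [← comm_app (LK.Eh_comm e he sh LK.sN), (LK.Eh_le he).1]
    · intro f hf
      obtain ⟨n, hn, hnC, rfl⟩ := mem_NNc.1 hf
      refine Units.ext (LinearMap.ext fun w => Subtype.ext ?_)
      exact (comm_app (LK.Eh_comm e he n hn) (w : V)).symm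
  have hfE : Finite (Module.End K (Wc ζ)) := Finite.of_injective (fun f => (f : Wc ζ → Wc ζ)) DFunLike.coe_injective
  have hfin : Fintype ↥(NNc Nh ζ) := Fintype.ofFinite _
  have hWn : Nontrivial (Wc ζ) := by
    obtain ⟨v, hv, hvζ⟩ := Z.pos
    exact ⟨⟨v, hvζ⟩, 0, fun h3 => hv (congrArg Subtype.val h3)⟩
  -- commutation of the extension with elements of `Nh`
  have hexn : ∀ (f : (Module.End K (Wc ζ))ˣ) (n : V ≃ₗ[K] V) (hnC : n ∈ centralizer {ζ}),
      f * res ζ ⟨n, hnC⟩ = res ζ ⟨n, hnC⟩ * f → ∀ v, ex h2 Z.sq f (n v) = n (ex h2 Z.sq f v) := by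
    intro f n hnC hf v
    have hnζ : ∀ v, n (ζ v) = ζ (n v) := fun v => cen_app ⟨n, hnC⟩ v
    refine lin_ext h2 Z.sq (f := (ex h2 Z.sq f : V →ₗ[K] V) ∘ₗ (n : V →ₗ[K] V))
      (g := (n : V →ₗ[K] V) ∘ₗ (ex h2 Z.sq f : V →ₗ[K] V)) (fun w => ?_) (fun v hv => ?_) v
    · change ex h2 Z.sq f (n w) = n (ex h2 Z.sq f w)
      rw [ex_pos h2]
      have h3 : n (w : V) = ((res ζ ⟨n, hnC⟩ • w : Wc ζ) : V) := rfl
      rw [h3, ex_pos h2, ← mul_smul, hf, mul_smul, res_apply]
    · change ex h2 Z.sq f (n v) = n (ex h2 Z.sq f v)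
      rw [ex_neg h2 Z.sq f hv, ex_neg h2 Z.sq f (by rw [← hnζ, hv, map_neg])]
  -- isometries of `h` commuting with `J` are isometries of `Φ`
  have hisoJ : ∀ f : (Module.End K (Wc ζ))ˣ, f ∈ isoms h → f * J = J * f → ex h2 Z.sq f ∈ Φ.Iso := by
    intro f hf hfJ
    refine ex_mem h2 Z.sq f hΦ Z.mem fun u w => ?_
    rw [hB, hB, ← mul_smul J f, ← hfJ, mul_smul, hf]
  rcases str_alt hD hEE hEc with ⟨a, b, v₁, v₂, v₃, O⟩ | ⟨t, O⟩
  · have haJ : a * J = J * a := O.an J hJN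
    have hbJ : b * J = J * b := O.bn J hJN
    have v1 : (v₁ : V) ≠ 0 := by
      intro h3
      have h4 := O.h1
      rw [hh, h3, show Φ.B (0 : V) (sh 0) = 0 by rw [map_zero]; exact hΦ.alt 0] at h4
      exact zero_ne_one h4
    have v2 : (v₂ : V) ≠ 0 := by
      intro h3
      have h4 := O.h2
      rw [hh, h3, show Φ.B (0 : V) (sh 0) = 0 by rw [map_zero]; exact hΦ.alt 0] at h4
      exact zero_ne_one h4
    have v3 : Φ.B (v₃ : V) (sh (v₃ : V)) ≠ 0 := by
      have h4 := O.h3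
      rw [hh] at h4
      rw [h4]
      exact one_ne_zero
    have hnN : ∀ n (hn : n ∈ Nh), res ζ ⟨n, Nh_cen LK Z hn⟩ ∈ NNc Nh ζ := fun n hn => mem_NNc.2 ⟨n, hn, _, rfl⟩
    refine no_ab LK Z K0 L h2 hΦ (a := ex h2 Z.sq a) (b := ex h2 Z.sq b) (hisoJ a O.ai haJ) (hisoJ b O.bi hbJ)
      (fun n hn => hexn a n (Nh_cen LK Z hn) (O.an _ (hnN n hn)))
      (fun n hn => hexn b n (Nh_cen LK Z hn) (O.bn _ (hnN n hn))) (fun v => ?_) v1 v2 v3 v₁.2 v₂.2 v₃.2
      ?_ ?_ ?_ ?_ ?_ ?_ (fun v => ?_) (fun v => ?_) (hexn a sh hsC haJ)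
    · refine lin_ext h2 Z.sq (f := (ex h2 Z.sq a : V →ₗ[K] V) ∘ₗ (ex h2 Z.sq b : V →ₗ[K] V))
        (g := (ex h2 Z.sq b : V →ₗ[K] V) ∘ₗ (ex h2 Z.sq a : V →ₗ[K] V)) (fun w => ?_) (fun v hv => ?_) v
      · change ex h2 Z.sq a (ex h2 Z.sq b w) = ex h2 Z.sq b (ex h2 Z.sq a w)
        rw [ex_pos h2, ex_pos h2, ex_pos h2, ex_pos h2, ← mul_smul, ← mul_smul, O.ab]
      · change ex h2 Z.sq a (ex h2 Z.sq b v) = ex h2 Z.sq b (ex h2 Z.sq a v)
        rw [ex_neg h2 _ b hv, ex_neg h2 _ a hv, ex_neg h2 _ b hv]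
    · rw [ex_pos h2, O.a1]; rfl
    · rw [ex_pos h2, O.b1]
    · rw [ex_pos h2, O.a2]
    · rw [ex_pos h2, O.b2']; rfl
    · rw [ex_pos h2, O.a3]
    · rw [ex_pos h2, O.b3]
    · refine lin_ext h2 Z.sq (f := (ex h2 Z.sq a : V →ₗ[K] V) ∘ₗ (ex h2 Z.sq a : V →ₗ[K] V) ∘ₗ
        (ex h2 Z.sq a : V →ₗ[K] V) ∘ₗ (ex h2 Z.sq a : V →ₗ[K] V)) (g := LinearMap.id) (fun w => ?_) (fun v hv => ?_) v
      · change ex h2 Z.sq a (ex h2 Z.sq a (ex h2 Z.sq a (ex h2 Z.sq a w))) = w
        have h4 : a * a * a * a = 1 := by rw [← O.a4]; group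
        rw [ex_pos h2, ex_pos h2, ex_pos h2, ex_pos h2, ← mul_smul, ← mul_smul, ← mul_smul, h4, one_smul]
      · change ex h2 Z.sq a (ex h2 Z.sq a (ex h2 Z.sq a (ex h2 Z.sq a v))) = v
        rw [ex_neg h2 _ a hv, ex_neg h2 _ a hv, ex_neg h2 _ a hv, ex_neg h2 _ a hv]
    · refine lin_ext h2 Z.sq (f := (ex h2 Z.sq b : V →ₗ[K] V) ∘ₗ (ex h2 Z.sq b : V →ₗ[K] V)) (g := LinearMap.id)
        (fun w => ?_) (fun v hv => ?_) v
      · change ex h2 Z.sq b (ex h2 Z.sq b w) = w
        rw [ex_pos h2, ex_pos h2, ← mul_smul, O.b2, one_smul]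
      · change ex h2 Z.sq b (ex h2 Z.sq b v) = v
        rw [ex_neg h2 _ b hv, ex_neg h2 _ b hv]
  · refine no_t LK Z K0 L h2 (t := ex h2 Z.sq t) ?_ (ex_ζ h2 Z.sq t) (fun v hv => ex_neg h2 Z.sq t hv) ?_ ?_ ?_
    · refine ex_mem h2 Z.sq t hΦ Z.mem fun u w => ?_
      have h3 : J • t • w = -(t • J • w) := by
        rw [← mul_smul, ← mul_smul, O.tJ, Units.neg_smul, neg_neg]
      rw [hB, hB, h3, map_neg, O.anti, neg_neg]
    · intro n hn
      have hnC := Nh_cen LK Z hn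
      rcases O.tn (res ζ ⟨n, hnC⟩) (mem_NNc.2 ⟨n, hn, hnC, rfl⟩) with h3 | h3
      · left
        intro v hv
        have h4 : ex h2 Z.sq t v = ((t • (⟨v, hv⟩ : Wc ζ) : Wc ζ) : V) := ex_pos h2 Z.sq t ⟨v, hv⟩
        have h5 : n v = ((res ζ ⟨n, hnC⟩ • (⟨v, hv⟩ : Wc ζ) : Wc ζ) : V) := rfl
        rw [h4, h5, ex_pos h2, ← mul_smul, h3, mul_smul, res_apply]
      · right
        intro v hv
        have h4 : ex h2 Z.sq t v = ((t • (⟨v, hv⟩ : Wc ζ) : Wc ζ) : V) := ex_pos h2 Z.sq t ⟨v, hv⟩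
        have h5 : n v = ((res ζ ⟨n, hnC⟩ • (⟨v, hv⟩ : Wc ζ) : Wc ζ) : V) := rfl
        rw [h4, h5, ex_pos h2, ← mul_smul, h3, Units.neg_smul, mul_smul]
        rfl
    · intro e he v hv
      have heC := Eh_cen LK Z he
      have h3 := O.te (res ζ ⟨e, heC⟩) ⟨⟨e, heC⟩, mem_subgroupOf.2 he, rfl⟩
      have h4 : ex h2 Z.sq t v = ((t • (⟨v, hv⟩ : Wc ζ) : Wc ζ) : V) := ex_pos h2 Z.sq t ⟨v, hv⟩
      have h5 : e v = ((res ζ ⟨e, heC⟩ • (⟨v, hv⟩ : Wc ζ) : Wc ζ) : V) := rfl
      rw [h4, h5, ex_pos h2, ← mul_smul, h3, mul_smul, res_apply]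
    · intro v hv
      have h4 : ex h2 Z.sq t v = ((t • (⟨v, hv⟩ : Wc ζ) : Wc ζ) : V) := ex_pos h2 Z.sq t ⟨v, hv⟩
      have h5 : sh v = ((J • (⟨v, hv⟩ : Wc ζ) : Wc ζ) : V) := rfl
      rw [h4, h5, ex_pos h2, ← mul_smul, O.tJ, Units.neg_smul, mul_smul]
      rfl

end Cfsg.Agent.H105.C3
end

-- part: H105/C3/RowPSp
section
/-!
# S1920, case B: the row `PSp_2m(F)` (helper105)

`psp_odd` : `|F|` odd; `row_psp_of` : the row, from the characteristic 2 case.
-/

set_option autoImplicit false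

open Subgroup Module

namespace Cfsg.Agent.H105.C3

open Cfsg.Agent.H415.C3 Cfsg.Agent.H847.Bs
open Cfsg.Agent.H13.Co3 (CB)
open Cfsg.Agent.H548.BS (spFrm isSp)

/-- **`PSp_2m(F)`, `|F|` odd, has no configuration `CB`.** -/
theorem psp_odd {G : Type*} [Group G] [Finite G] {F : Type} [Field F] [Finite F] (h2 : (2 : F) ≠ 0) {m : ℕ}
    (e : G ≃* Cfsg.PSp m F) {P N0 : Subgroup G} {z s : G}
    {ψ : ↥(normalizer (P : Set G)) →* Equiv.Perm (Fin 6)} (C : CB P N0 z s ψ) : False := by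
  obtain ⟨A, E, x, r, φ, Kt⟩ := exists_kit C
  obtain ⟨π, hL⟩ := lin_psp e
  have hVV : Finite ((Fin m ⊕ Fin m → F) ≃ₗ[F] (Fin m ⊕ Fin m → F)) :=
    Finite.of_injective (fun f : (Fin m ⊕ Fin m → F) ≃ₗ[F] (Fin m ⊕ Fin m → F) =>
      (f : (Fin m ⊕ Fin m → F) → (Fin m ⊕ Fin m → F))) DFunLike.coe_injective
  obtain ⟨Nh, Eh, zh, sh, xh, rh, L⟩ := exists_lkit hL h2 Kt
  exact psp_false h2 (isSp m) Kt hL L

universe u

open Cfsg in
/-- **The row `IsPSp`**, from the characteristic 2 case (`H738/C3/Char2Rows.false_of_lieTwo`). -/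
theorem row_psp_of (H : ∀ (G : Type u) [Group G] [Finite G] [IsSimpleGroup G] (P N0 : Subgroup G) (z s : G)
    (ψ : ↥(normalizer (P : Set G)) →* Equiv.Perm (Fin 6)), CB P N0 z s ψ → IsLieTypeChar 2 G → False) :
    Cfsg.Agent.H527.Co3.Row.{u} @IsPSp := by
  intro G _ _ _ hG P N0 z s ψ C
  obtain ⟨F, hF, hFf, n, hn, hn2, ⟨e⟩⟩ := hG
  by_cases h2 : (2 : F) = 0
  · have hch : CharP F 2 := CharTwo.of_one_ne_zero_of_two_eq_zero one_ne_zero h2
    exact H G P N0 z s ψ C (Or.inr (Or.inl ⟨F, hF, hFf, hch, n, hn, hn2, ⟨e⟩⟩))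
  · exact psp_odd h2 e C

end Cfsg.Agent.H105.C3
end

-- part: H858/Co3/EigLin
section
/-!
# S1920, EIG: linear algebra (helper858)

* `det_upper` : determinant of a triangular endomorphism of a plane;
* `elem_diag` : an element of finite odd order prime to the characteristic of `SL(M)`, `dim M = 2`, is `diag(ω, ω⁻¹)`;
* `pgroup_diag` : a finite `p`-group (`p` odd, not the characteristic) in `SL(M)` is `diag(lam, lam⁻¹)`;
* `half`, `half_ext` : halving by an anticommuting pair.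
-/

set_option autoImplicit false

open Subgroup Module

namespace Cfsg.Agent.H858.Co3

section plane

variable {k M : Type*} [Field k] [AddCommGroup M] [Module k M]

/-- determinant of a triangular endomorphism -/
theorem det_upper (b : Basis (Fin 2) k M) (f : M →ₗ[k] M) {α β δ : k} (h0 : f (b 0) = α • b 0)
    (h1 : f (b 1) = β • b 0 + δ • b 1) : LinearMap.det f = α * δ := by
  rw [← LinearMap.det_toMatrix b, Matrix.det_fin_two]
  simp only [LinearMap.toMatrix_apply, h0, h1, map_add, map_smul, Basis.repr_self, Finsupp.add_apply,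
    Finsupp.smul_apply, smul_eq_mul]
  simp

/-- a basis starting with a given nonzero vector -/
theorem exists_basis (hM : finrank k M = 2) {u : M} (hu : u ≠ 0) : ∃ b : Basis (Fin 2) k M, b 0 = u := by
  have hfin : FiniteDimensional k M := FiniteDimensional.of_finrank_pos (by omega)
  -- a vector outside the line
  have h1 : ∃ w : M, w ∉ Submodule.span k {u} := by
    by_contra hcon
    push Not at hcon
    have h2 : Submodule.span k {u} = ⊤ := by
      rw [eq_top_iff]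
      intro w _
      exact hcon w
    have h3 := finrank_span_singleton (K := k) hu
    rw [h2, finrank_top, hM] at h3
    omega
  obtain ⟨w, hw⟩ := h1
  have hli : LinearIndependent k ![u, w] := by
    rw [LinearIndependent.pair_iff]
    intro a c hac
    have hc : c = 0 := by
      by_contra hc
      apply hw
      rw [Submodule.mem_span_singleton]
      refine ⟨-(c⁻¹ * a), ?_⟩
      have h4 : c • w = -(a • u) := by
        rw [eq_neg_iff_add_eq_zero, add_comm]; exact hac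
      have h5 : w = c⁻¹ • (c • w) := by rw [smul_smul, inv_mul_cancel₀ hc, one_smul]
      rw [h5, h4, smul_neg, smul_smul, neg_smul]
    rw [hc, zero_smul, add_zero] at hac
    exact ⟨(smul_eq_zero.1 hac).resolve_right hu, hc⟩
  let b := basisOfLinearIndependentOfCardEqFinrank hli (by rw [hM]; rfl)
  exact ⟨b, by simp [b]⟩

/-- coordinates -/
theorem exists_coord (b : Basis (Fin 2) k M) (v : M) : ∃ x y : k, v = x • b 0 + y • b 1 := by
  refine ⟨b.repr v 0, b.repr v 1, ?_⟩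
  conv_lhs => rw [← b.sum_repr v, Fin.sum_univ_two]

theorem coord_inj (b : Basis (Fin 2) k M) {x y x' y' : k} (h : x • b 0 + y • b 1 = x' • b 0 + y' • b 1) :
    x = x' ∧ y = y' := by
  have h0 := congrArg (fun v => b.repr v 0) h
  have h1 := congrArg (fun v => b.repr v 1) h
  simp only [_root_.Fin.isValue, _root_.map_add, _root_.map_smul, _root_.Module.Basis.repr_self, _root_.Finsupp.smul_single, _root_.smul_eq_mul, _root_.mul_one, _root_.Finsupp.coe_add, _root_.Pi.add_apply, _root_.Finsupp.single_eq_same, _root_.ne_eq, _root_.zero_ne_one, _root_.not_false_eq_true, _root_.Finsupp.single_eq_of_ne, _root_.add_zero, _root_.one_ne_zero, _root_.zero_add] at h0 h1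
  exact ⟨h0, h1⟩

theorem pow_apply_smul (f : M →ₗ[k] M) {u : M} {ω : k} (h : f u = ω • u) (n : ℕ) : (f ^ n) u = ω ^ n • u := by
  induction n with
  | zero => simp
  | succ n ih => rw [pow_succ, Module.End.mul_apply, h, map_smul, ih, smul_smul, mul_comm, pow_succ]

/-- **an element of odd order prime to the characteristic** -/
theorem elem_diag [IsAlgClosed k] (hM : finrank k M = 2) (f : M →ₗ[k] M) {n : ℕ} (hn : Odd n) (hnk : (n : k) ≠ 0)
    (hf : f ^ n = 1) (hdet : LinearMap.det f = 1) (hf1 : f ≠ 1) :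
    ∃ b : Basis (Fin 2) k M, ∃ ω : k, ω ≠ 0 ∧ ω ≠ ω⁻¹ ∧ f (b 0) = ω • b 0 ∧ f (b 1) = ω⁻¹ • b 1 := by
  have hfin : FiniteDimensional k M := FiniteDimensional.of_finrank_pos (by omega)
  have hnt : Nontrivial M := Module.nontrivial_of_finrank_pos (R := k) (by omega)
  obtain ⟨ω, hω⟩ := Module.End.exists_eigenvalue f
  obtain ⟨u, hu⟩ := hω.exists_hasEigenvector
  have hfu : f u = ω • u := hu.apply_eq_smul
  have hu0 : u ≠ 0 := hu.2
  obtain ⟨b, rfl⟩ := exists_basis hM hu0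
  obtain ⟨β, δ, hβ⟩ := exists_coord b (f (b 1))
  have hωδ : ω * δ = 1 := by rw [← hdet]; exact (det_upper b f hfu hβ).symm
  have hω0 : ω ≠ 0 := left_ne_zero_of_mul_eq_one hωδ
  have hδ : δ = ω⁻¹ := eq_inv_of_mul_eq_one_right hωδ
  have hωn : ω ^ n = 1 := by
    have h1 := pow_apply_smul f hfu n
    rw [hf, Module.End.one_apply] at h1
    have h2 : (ω ^ n - 1) • b 0 = 0 := by rw [sub_smul, one_smul, ← h1, sub_self]
    exact sub_eq_zero.1 ((smul_eq_zero.1 h2).resolve_right hu0)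
  by_cases hω2 : ω = ω⁻¹
  · exfalso
    have hω1 : ω = 1 := by
      have h2 : ω * ω = 1 := by nth_rewrite 2 [hω2]; exact mul_inv_cancel₀ hω0
      obtain ⟨m, hm⟩ := hn
      rw [hm, pow_succ, pow_mul, pow_two, h2, one_pow, one_mul] at hωn
      exact hωn
    rw [hω1, inv_one] at hδ
    rw [hω1, one_smul] at hfu
    rw [hδ, one_smul] at hβ
    have h3 : ∀ m : ℕ, (f ^ m) (b 1) = b 1 + ((m : k) * β) • b 0 := by
      intro m
      induction m with
      | zero => simp only [_root_.pow_zero, _root_.Fin.isValue, _root_.Module.End.one_apply, _root_.Nat.cast_zero, _root_.MulZeroClass.zero_mul, _root_.zero_smul, _root_.add_zero]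
      | succ m ih =>
        rw [pow_succ', Module.End.mul_apply, ih, map_add, hβ, map_smul, hfu]
        push_cast
        rw [add_mul, one_mul, add_smul]
        abel
    have h4 := h3 n
    rw [hf, Module.End.one_apply] at h4
    have h5 : ((n : k) * β) • b 0 = 0 := by
      have h6 : b 1 + ((n : k) * β) • b 0 - b 1 = 0 := by rw [← h4, sub_self]
      rwa [add_sub_cancel_left] at h6
    have hβ0 : β = 0 := (mul_eq_zero.1 ((smul_eq_zero.1 h5).resolve_right hu0)).resolve_left hnk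
    apply hf1
    refine b.ext fun j => ?_
    rw [Module.End.one_apply]
    fin_cases j
    · exact hfu
    · change f (b 1) = b 1
      rw [hβ, hβ0, zero_smul, zero_add]
  · -- the second eigenvector
    have hd : ω⁻¹ - ω ≠ 0 := sub_ne_zero.2 (Ne.symm hω2)
    set κ : k := β / (ω⁻¹ - ω) with hκ
    have hκ' : κ * (ω⁻¹ - ω) = β := by rw [hκ]; exact div_mul_cancel₀ _ hd
    set w : M := b 1 + κ • b 0 with hw
    have hfw : f w = ω⁻¹ • w := by
      rw [hw, map_add, map_smul, hfu, hβ, hδ, smul_add, smul_smul, smul_smul, ← hκ']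
      have : (κ * (ω⁻¹ - ω)) • b 0 + ω⁻¹ • b 1 + (κ * ω) • b 0 = ω⁻¹ • b 1 + (κ * (ω⁻¹ - ω) + κ * ω) • b 0 := by
        rw [add_smul]; abel
      rw [this]
      congr 2
      ring
    have hli : LinearIndependent k ![b 0, w] := by
      rw [LinearIndependent.pair_iff]
      intro a c hac
      have h6 : (a + c * κ) • b 0 + c • b 1 = (0 : k) • b 0 + (0 : k) • b 1 := by
        rw [zero_smul, zero_smul, add_zero, ← hac, hw, smul_add, smul_smul, add_smul]
        abel
      obtain ⟨h7, h8⟩ := coord_inj b h6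
      rw [h8, zero_mul, add_zero] at h7
      exact ⟨h7, h8⟩
    let b' := basisOfLinearIndependentOfCardEqFinrank hli (by rw [hM]; rfl)
    refine ⟨b', ω, hω0, hω2, ?_, ?_⟩
    · have : b' 0 = b 0 := by simp only [b', _root_.Nat.succ_eq_add_one, _root_.Nat.reduceAdd, _root_.Fin.isValue, _root_.coe_basisOfLinearIndependentOfCardEqFinrank, _root_.Matrix.cons_val_zero]
      rw [this]; exact hfu
    · have : b' 1 = w := by simp only [b', _root_.Nat.succ_eq_add_one, _root_.Nat.reduceAdd, _root_.Fin.isValue, _root_.coe_basisOfLinearIndependentOfCardEqFinrank, _root_.Matrix.cons_val_one, _root_.Matrix.cons_val_fin_one]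
      rw [this]; exact hfw

/-- **a finite `p`-group of odd order prime to the characteristic in `SL(M)`** -/
theorem pgroup_diag [IsAlgClosed k] (hM : finrank k M = 2) {p : ℕ} [hpf : Fact p.Prime] (hp2 : p ≠ 2)
    (hpk : (p : k) ≠ 0) {P : Type*} [Group P] [Finite P] (hP : IsPGroup p P) (φ : P →* (M →ₗ[k] M))
    (hdet : ∀ g, LinearMap.det (φ g) = 1) :
    ∃ b : Basis (Fin 2) k M, ∃ lam : P →* kˣ, ∀ g, φ g (b 0) = (lam g : k) • b 0 ∧
      φ g (b 1) = (((lam g)⁻¹ : kˣ) : k) • b 1 := by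
  have hfin : FiniteDimensional k M := FiniteDimensional.of_finrank_pos (by omega)
  by_cases htriv : ∀ g, φ g = 1
  · refine ⟨finBasisOfFinrankEq k M hM, 1, fun g => ?_⟩
    simp only [htriv g, _root_.Fin.isValue, _root_.Module.End.one_apply, _root_.MonoidHom.one_apply, _root_.Units.val_one, _root_.one_smul, _root_.inv_one, _root_.and_self]
  -- the image
  let Q : Subgroup (M →ₗ[k] M)ˣ := φ.toHomUnits.range
  have hQ : IsPGroup p Q := hP.of_surjective φ.toHomUnits.rangeRestrict φ.toHomUnits.rangeRestrict_surjective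
  have hQn : Nontrivial Q := by
    push Not at htriv
    obtain ⟨g, hg⟩ := htriv
    refine ⟨⟨⟨φ.toHomUnits g, ⟨g, rfl⟩⟩, 1, fun h => hg ?_⟩⟩
    have h1 := congrArg (fun q : Q => ((q : (M →ₗ[k] M)ˣ) : M →ₗ[k] M)) h
    simpa only [_root_.MonoidHom.coe_toHomUnits, _root_.OneMemClass.coe_one, _root_.Units.val_one] using h1
  have hQf : Finite Q := Finite.of_surjective φ.toHomUnits.rangeRestrict φ.toHomUnits.rangeRestrict_surjective
  have hc := hQ.center_nontrivial
  obtain ⟨⟨c, hcc⟩, hc1⟩ := exists_ne (1 : Subgroup.center Q)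
  have hcQ : c ≠ 1 := fun h => hc1 (Subtype.ext h)
  set f : M →ₗ[k] M := ((c : (M →ₗ[k] M)ˣ) : M →ₗ[k] M) with hf
  have hf1 : f ≠ 1 := fun h => hcQ (Subtype.ext (Units.ext h))
  obtain ⟨m, hm⟩ := hQ c
  have hfm : f ^ p ^ m = 1 := by
    have h1 := congrArg (fun q : Q => ((q : (M →ₗ[k] M)ˣ) : M →ₗ[k] M)) hm
    simpa only [_root_.SubmonoidClass.coe_pow, _root_.Units.val_pow_eq_pow_val, _root_.OneMemClass.coe_one, _root_.Units.val_one] using h1
  have hfdet : LinearMap.det f = 1 := by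
    obtain ⟨g, hg⟩ := c.2
    rw [hf, ← hg]
    exact hdet g
  have hodd : Odd (p ^ m) := (hpf.out.odd_of_ne_two hp2).pow
  obtain ⟨b, ω, hω0, hω, hb0, hb1⟩ := elem_diag hM f hodd (by push_cast; exact pow_ne_zero _ hpk) hfm hfdet hf1
  have hd : ω⁻¹ - ω ≠ 0 := sub_ne_zero.2 (Ne.symm hω)
  have key : ∀ g, ∃ a : kˣ, φ g (b 0) = (a : k) • b 0 ∧ φ g (b 1) = ((a⁻¹ : kˣ) : k) • b 1 := by
    intro g
    have hcom : ∀ v, f (φ g v) = φ g (f v) := by
      intro v
      have h1 := (Subgroup.mem_center_iff.1 hcc) ⟨φ.toHomUnits g, ⟨g, rfl⟩⟩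
      have h2 := congrArg (fun q : Q => ((q : (M →ₗ[k] M)ˣ) : M →ₗ[k] M) v) h1
      simpa only [_root_.Subgroup.coe_mul, _root_.Units.val_mul, _root_.MonoidHom.coe_toHomUnits, _root_.Module.End.mul_apply] using h2.symm
    obtain ⟨x, y, hxy⟩ := exists_coord b (φ g (b 0))
    obtain ⟨x', y', hxy'⟩ := exists_coord b (φ g (b 1))
    have hy : y = 0 := by
      have h1 := hcom (b 0)
      rw [hb0, map_smul, hxy, map_add, map_smul, map_smul, hb0, hb1, smul_smul, smul_smul, smul_add, smul_smul,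
        smul_smul] at h1
      have h2 := (coord_inj b h1).2
      have h3 : y * (ω⁻¹ - ω) = 0 := by rw [mul_sub, h2, mul_comm y ω, sub_self]
      exact (mul_eq_zero.1 h3).resolve_right hd
    have hx' : x' = 0 := by
      have h1 := hcom (b 1)
      rw [hb1, map_smul, hxy', map_add, map_smul, map_smul, hb0, hb1, smul_smul, smul_smul, smul_add, smul_smul,
        smul_smul] at h1
      have h2 := (coord_inj b h1).1
      have h3 : x' * (ω⁻¹ - ω) = 0 := by rw [mul_sub, h2, mul_comm x' ω⁻¹, sub_self]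
      exact (mul_eq_zero.1 h3).resolve_right hd
    rw [hy, zero_smul, add_zero] at hxy
    have hdx : x * y' = 1 := by rw [← hdet g]; exact (det_upper b (φ g) hxy hxy').symm
    rw [hx', zero_smul, zero_add] at hxy'
    refine ⟨Units.mk0 x (left_ne_zero_of_mul_eq_one hdx), hxy, ?_⟩
    rw [hxy']
    congr 1
    simp only [Units.val_inv_eq_inv_val, Units.val_mk0]
    exact eq_inv_of_mul_eq_one_right hdx
  choose lam hlam using key
  refine ⟨b, MonoidHom.mk' lam fun g h => ?_, fun g => hlam g⟩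
  have h1 := (hlam (g * h)).1
  rw [map_mul, Module.End.mul_apply, (hlam h).1, map_smul, (hlam g).1, smul_smul, mul_comm] at h1
  exact Units.ext (smul_left_injective k (b.ne_zero 0) h1.symm)

/-- two endomorphisms agree if they agree on a basis -/
theorem eq_one_of_lam (b : Basis (Fin 2) k M) {f : M →ₗ[k] M} {a : kˣ} (h0 : f (b 0) = (a : k) • b 0)
    (h1 : f (b 1) = ((a⁻¹ : kˣ) : k) • b 1) (ha : a = 1) : f = 1 := by
  refine b.ext fun j => ?_
  subst ha
  rw [Module.End.one_apply]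
  fin_cases j
  · exact h0.trans (by simp only [_root_.Units.val_one, _root_.Fin.isValue, _root_.one_smul, _root_.Fin.zero_eta])
  · exact h1.trans (by simp only [_root_.inv_one, _root_.Units.val_one, _root_.Fin.isValue, _root_.one_smul, _root_.Fin.mk_one])

end plane

/-! ### `A₆` is not a section of `SL₂` in characteristic `≠ 3` -/

/-- `(0 1 2)` -/
def t1 : Equiv.Perm (Fin 6) := Equiv.swap 0 1 * Equiv.swap 1 2

/-- `(3 4 5)` -/
def t2 : Equiv.Perm (Fin 6) := Equiv.swap 3 4 * Equiv.swap 4 5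

theorem cent_t : ∀ τ : Equiv.Perm (Fin 6), τ * t1 = t1 * τ → τ * t2 = t2 * τ → τ ^ 3 = 1 ∧ Equiv.Perm.sign τ = 1 := by
  simp only [↓Cfsg.Agent.PermCode.M, Cfsg.Agent.PermCode.P6.R, Cfsg.Agent.PermCode.B]
  decide +kernel

theorem not_cyc : ∀ τ : Equiv.Perm (Fin 6), τ ^ 3 = 1 → (t1 = 1 ∨ t1 = τ ∨ t1 = τ ^ 2) →
    (t2 = 1 ∨ t2 = τ ∨ t2 = τ ^ 2) → False := by
  simp only [↓Cfsg.Agent.PermCode.M, Cfsg.Agent.PermCode.P6.R, Cfsg.Agent.PermCode.B]
  decide +kernel

theorem zpow_three {Γ : Type*} [Group Γ] {τ : Γ} (h : τ ^ 3 = 1) (n : ℤ) : τ ^ n = 1 ∨ τ ^ n = τ ∨ τ ^ n = τ ^ 2 := by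
  have h3 : τ ^ (3 : ℤ) = 1 := by exact_mod_cast h
  have h4 : τ ^ n = τ ^ (n % 3) := by
    conv_lhs => rw [← Int.emod_add_mul_ediv n 3, zpow_add, zpow_mul, h3, one_zpow, mul_one]
  have h5 : n % 3 = 0 ∨ n % 3 = 1 ∨ n % 3 = 2 := by omega
  rcases h5 with h5 | h5 | h5
  · left; rw [h4, h5, zpow_zero]
  · right; left; rw [h4, h5, zpow_one]
  · right; right; rw [h4, h5]; exact_mod_cast rfl

/-- **`A₆` is not a section of a finite subgroup of `SL₂(k)`, `char k ≠ 3`** -/
theorem contra3 {k M : Type*} [Field k] [IsAlgClosed k] [AddCommGroup M] [Module k M] (hM : finrank k M = 2)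
    (h3 : (3 : k) ≠ 0) {D : Type*} [Group D] [Finite D] (φ : D →* (M →ₗ[k] M)) (hdet : ∀ g, LinearMap.det (φ g) = 1)
    (ψ : D →* Equiv.Perm (Fin 6)) (hker : ∀ g, φ g = 1 → ψ g = 1)
    (himg : ∀ π : Equiv.Perm (Fin 6), Equiv.Perm.sign π = 1 → ∃ g, ψ g = π) : False := by
  have : Fact (Nat.Prime 3) := ⟨Nat.prime_three⟩
  let T : Subgroup (Equiv.Perm (Fin 6)) := centralizer {t1, t2}
  have hT : ∀ τ, τ ∈ T ↔ τ * t1 = t1 * τ ∧ τ * t2 = t2 * τ := by
    intro τ
    simp only [T, mem_centralizer_iff, Set.mem_insert_iff, Set.mem_singleton_iff, forall_eq_or_imp, forall_eq]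
    constructor
    · rintro ⟨a, b⟩; exact ⟨a.symm, b.symm⟩
    · rintro ⟨a, b⟩; exact ⟨a.symm, b.symm⟩
  have ht1 : t1 ∈ T := (hT _).2 ⟨rfl, by decide⟩
  have ht2 : t2 ∈ T := (hT _).2 ⟨by decide, rfl⟩
  have hT3 : IsPGroup 3 T := by
    intro τ
    refine ⟨1, Subtype.ext ?_⟩
    have := (cent_t τ ((hT _).1 τ.2).1 ((hT _).1 τ.2).2).1
    simpa only [_root_.pow_one, _root_.SubmonoidClass.coe_pow, _root_.OneMemClass.coe_one] using this
  let F : Subgroup D := T.comap ψ
  let f : ↥F →* ↥T := (ψ.comp F.subtype).codRestrict T fun g => g.2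
  have hf : Function.Surjective f := by
    intro τ
    obtain ⟨g, hg⟩ := himg τ (cent_t τ ((hT _).1 τ.2).1 ((hT _).1 τ.2).2).2
    refine ⟨⟨g, ?_⟩, Subtype.ext hg⟩
    change ψ g ∈ T
    rw [hg]; exact τ.2
  obtain ⟨P⟩ : Nonempty (Sylow 3 ↥F) := inferInstance
  have hPT : (P.mapSurjective hf : Subgroup ↥T) = ⊤ :=
    ((P.mapSurjective hf).is_maximal' (Q := ⊤) (hT3.to_subgroup _) le_top).symm
  have hex : ∀ τ : ↥T, ∃ g : ↥(P : Subgroup ↥F), f g = τ := by
    intro τ
    have h1 : τ ∈ (P.mapSurjective hf : Subgroup ↥T) := by rw [hPT]; trivial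
    rw [Sylow.coe_mapSurjective, Subgroup.mem_map] at h1
    obtain ⟨g, hg, hg'⟩ := h1
    exact ⟨⟨g, hg⟩, hg'⟩
  obtain ⟨g1, hg1⟩ := hex ⟨t1, ht1⟩
  obtain ⟨g2, hg2⟩ := hex ⟨t2, ht2⟩
  let j : ↥(P : Subgroup ↥F) →* D := F.subtype.comp (P : Subgroup ↥F).subtype
  obtain ⟨b, lam, hlam⟩ := pgroup_diag hM (by norm_num) (by exact_mod_cast h3) P.isPGroup' (φ.comp j)
    (fun g => hdet _)
  have hfr : Finite lam.range := Finite.of_surjective lam.rangeRestrict lam.rangeRestrict_surjective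
  obtain ⟨⟨y, ⟨g0, rfl⟩⟩, hy⟩ := IsCyclic.exists_generator (α := lam.range)
  have hgen : ∀ g, ∃ n : ℤ, ψ (j g) = ψ (j g0) ^ n := by
    intro g
    obtain ⟨n, hn⟩ := mem_zpowers_iff.1 (hy ⟨lam g, ⟨g, rfl⟩⟩)
    have h1 : lam g0 ^ n = lam g := by simpa using congrArg Subtype.val hn
    refine ⟨n, ?_⟩
    have h2 : lam (g * g0 ^ (-n)) = 1 := by rw [map_mul, map_zpow, ← h1, ← zpow_add, add_neg_cancel, zpow_zero]
    have h3 := hker _ (eq_one_of_lam b (hlam (g * g0 ^ (-n))).1 (hlam (g * g0 ^ (-n))).2 h2)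
    rw [map_mul, map_mul, map_zpow, map_zpow, zpow_neg, mul_inv_eq_one] at h3
    exact h3
  have hτ : ψ (j g0) ^ 3 = 1 := by
    have h1 : ψ (j g0) ∈ T := (g0 : ↥F).2
    exact (cent_t _ ((hT _).1 h1).1 ((hT _).1 h1).2).1
  have e1 : ψ (j g1) = t1 := congrArg Subtype.val hg1
  have e2 : ψ (j g2) = t2 := congrArg Subtype.val hg2
  obtain ⟨n1, hn1⟩ := hgen g1
  obtain ⟨n2, hn2⟩ := hgen g2
  refine not_cyc _ hτ ?_ ?_
  · rw [← e1, hn1]; exact zpow_three hτ n1
  · rw [← e2, hn2]; exact zpow_three hτ n2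

/-! ### anticommuting pairs -/

section half

variable {K V : Type*} [Field K] [AddCommGroup V] [Module K V]

theorem finrank_le_of_inj [FiniteDimensional K V] (B : V →ₗ[K] V) (hB : Function.Injective B) {X Y : Submodule K V}
    (h : ∀ x ∈ X, B x ∈ Y) : finrank K X ≤ finrank K Y := by
  have h1 := LinearMap.finrank_le_finrank_of_injective (f := B.restrict h) (by
    intro x y hxy
    apply Subtype.ext
    apply hB
    have := congrArg Subtype.val hxy
    simpa using this)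
  exact h1

/-- the joint eigenspace -/
def eig (X : Submodule K V) (A : V →ₗ[K] V) (α : K) : Submodule K V := X ⊓ LinearMap.ker (A - α • (1 : V →ₗ[K] V))

theorem mem_eig {X : Submodule K V} {A : V →ₗ[K] V} {α : K} {v : V} : v ∈ eig X A α ↔ v ∈ X ∧ A v = α • v := by
  rw [eig, Submodule.mem_inf, LinearMap.mem_ker, LinearMap.sub_apply, LinearMap.smul_apply, Module.End.one_apply,
    sub_eq_zero]

/-- a vector is the sum of two eigenvectors -/
theorem split (h2 : (2 : K) ≠ 0) {α : K} (hα : α ≠ 0) (A : V →ₗ[K] V) (U : Submodule K V)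
    (hAU : ∀ u ∈ U, A u ∈ U) (hAA : ∀ u ∈ U, A (A u) = (α * α) • u) {u : V} (hu : u ∈ U) :
    ∃ x ∈ eig U A α, ∃ y ∈ eig U A (-α), u = x + y := by
  refine ⟨(2 : K)⁻¹ • (u + α⁻¹ • A u), ?_, (2 : K)⁻¹ • (u - α⁻¹ • A u), ?_, ?_⟩
  · rw [mem_eig]
    refine ⟨U.smul_mem _ (U.add_mem hu (U.smul_mem _ (hAU u hu))), ?_⟩
    rw [map_smul, map_add, map_smul, hAA u hu, smul_comm α, smul_add α, smul_smul, smul_smul, ← mul_assoc,
      inv_mul_cancel₀ hα, one_mul, mul_inv_cancel₀ hα, one_smul, add_comm]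
  · rw [mem_eig]
    refine ⟨U.smul_mem _ (U.sub_mem hu (U.smul_mem _ (hAU u hu))), ?_⟩
    rw [map_smul, map_sub, map_smul, hAA u hu, smul_comm (-α), smul_sub (-α), smul_smul, smul_smul, ← mul_assoc,
      inv_mul_cancel₀ hα, one_mul, neg_mul, mul_inv_cancel₀ hα, neg_one_smul, neg_smul]
    congr 1
    abel
  · rw [← smul_add]
    have : u + α⁻¹ • A u + (u - α⁻¹ • A u) = (2 : K) • u := by rw [two_smul]; abel
    rw [this, smul_smul, inv_mul_cancel₀ h2, one_smul]

theorem eig_disj (h2 : (2 : K) ≠ 0) {α : K} (hα : α ≠ 0) (A : V →ₗ[K] V) (U : Submodule K V) :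
    eig U A α ⊓ eig U A (-α) = ⊥ := by
  rw [eq_bot_iff]
  rintro u ⟨hu1, hu2⟩
  replace hu1 := (mem_eig.1 hu1).2
  replace hu2 := (mem_eig.1 hu2).2
  rw [hu1] at hu2
  have h3 : (2 * α) • u = 0 := by
    rw [two_mul, add_smul]
    nth_rewrite 1 [hu2]
    rw [neg_smul, neg_add_cancel]
  exact (smul_eq_zero.1 h3).resolve_left (mul_ne_zero h2 hα)

/-- halving -/
theorem half [FiniteDimensional K V] (h2 : (2 : K) ≠ 0) {α : K} (hα : α ≠ 0) (A B : V →ₗ[K] V)
    (hB : Function.Injective B) (U : Submodule K V)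
    (hAU : ∀ u ∈ U, A u ∈ U) (hBU : ∀ u ∈ U, B u ∈ U) (hAA : ∀ u ∈ U, A (A u) = (α * α) • u)
    (hAB : ∀ u ∈ U, A (B u) = -B (A u)) :
    finrank K U = 2 * finrank K ↥(eig U A α) := by
  have hXY : finrank K (eig U A α) ≤ finrank K (eig U A (-α)) := finrank_le_of_inj B hB fun u hu => by
    rw [mem_eig] at hu ⊢
    exact ⟨hBU u hu.1, by rw [hAB u hu.1, hu.2, map_smul, neg_smul]⟩
  have hYX : finrank K (eig U A (-α)) ≤ finrank K (eig U A α) := finrank_le_of_inj B hB fun u hu => by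
    rw [mem_eig] at hu ⊢
    exact ⟨hBU u hu.1, by rw [hAB u hu.1, hu.2, map_smul, neg_smul, neg_neg]⟩
  have hsup : eig U A α ⊔ eig U A (-α) = U := by
    apply le_antisymm (sup_le inf_le_left inf_le_left)
    intro u hu
    obtain ⟨x, hx, y, hy, rfl⟩ := split h2 hα A U hAU hAA hu
    exact Submodule.add_mem_sup hx hy
  have h3 := Submodule.finrank_sup_add_finrank_inf_eq (eig U A α) (eig U A (-α))
  rw [eig_disj h2 hα, hsup, finrank_bot, add_zero] at h3
  omega

/-- an operator which commutes with `B` and vanishes on the eigenspace of `A` vanishes -/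
theorem half_ext (h2 : (2 : K) ≠ 0) {α : K} (hα : α ≠ 0) (A B T : V →ₗ[K] V) (hB : Function.Injective B)
    (U : Submodule K V) (hAU : ∀ u ∈ U, A u ∈ U) (hBU : ∀ u ∈ U, B u ∈ U)
    (hAA : ∀ u ∈ U, A (A u) = (α * α) • u) (hAB : ∀ u ∈ U, A (B u) = -B (A u))
    (hTB : ∀ u ∈ U, T (B u) = B (T u)) (hT : ∀ u ∈ eig U A α, T u = 0) : ∀ u ∈ U, T u = 0 := by
  intro u hu
  obtain ⟨x, hx, y, hy, rfl⟩ := split h2 hα A U hAU hAA hu
  have hyU := (mem_eig.1 hy).1
  have h1 : T (B y) = 0 := hT _ (mem_eig.2 ⟨hBU y hyU, by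
    rw [hAB y hyU, (mem_eig.1 hy).2, map_smul, neg_smul, neg_neg]⟩)
  rw [hTB y hyU] at h1
  have h4 : T y = 0 := hB (by rw [h1, map_zero])
  rw [map_add, hT x hx, h4, add_zero]

/-- **two commuting anticommuting pairs** -/
theorem quad [FiniteDimensional K V] (h2 : (2 : K) ≠ 0) {α γ : K} (hα : α ≠ 0) (hγ : γ ≠ 0) (A B C D : V →ₗ[K] V)
    (hB : Function.Injective B) (hD : Function.Injective D) (X : Submodule K V)
    (hAX : ∀ u ∈ X, A u ∈ X) (hBX : ∀ u ∈ X, B u ∈ X) (hCX : ∀ u ∈ X, C u ∈ X) (hDX : ∀ u ∈ X, D u ∈ X)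
    (hAA : ∀ u ∈ X, A (A u) = (α * α) • u) (hCC : ∀ u ∈ X, C (C u) = (γ * γ) • u)
    (hAB : ∀ u ∈ X, A (B u) = -B (A u)) (hCD : ∀ u ∈ X, C (D u) = -D (C u))
    (hAC : ∀ u ∈ X, A (C u) = C (A u)) (hAD : ∀ u ∈ X, A (D u) = D (A u)) :
    finrank K X = 4 * finrank K ↥(eig (eig X A α) C γ) ∧
    ∀ T : V →ₗ[K] V, (∀ u ∈ X, T (B u) = B (T u)) → (∀ u ∈ X, T (D u) = D (T u)) →
      (∀ u ∈ eig (eig X A α) C γ, T u = 0) → ∀ u ∈ X, T u = 0 := by
  have hC1 : ∀ u ∈ eig X A α, C u ∈ eig X A α := by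
    intro u hu
    rw [mem_eig] at hu ⊢
    exact ⟨hCX u hu.1, by rw [hAC u hu.1, hu.2, map_smul]⟩
  have hD1 : ∀ u ∈ eig X A α, D u ∈ eig X A α := by
    intro u hu
    rw [mem_eig] at hu ⊢
    exact ⟨hDX u hu.1, by rw [hAD u hu.1, hu.2, map_smul]⟩
  have hle : ∀ u ∈ eig X A α, u ∈ X := fun u hu => (mem_eig.1 hu).1
  refine ⟨?_, fun T hTB hTD hT => ?_⟩
  · have e1 := half h2 hα A B hB X hAX hBX hAA hAB
    have e2 := half h2 hγ C D hD (eig X A α) hC1 hD1 (fun u hu => hCC u (hle u hu)) (fun u hu => hCD u (hle u hu))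
    omega
  · refine half_ext h2 hα A B T hB X hAX hBX hAA hAB hTB ?_
    exact half_ext h2 hγ C D T hD (eig X A α) hC1 hD1 (fun u hu => hCC u (hle u hu))
      (fun u hu => hCD u (hle u hu)) (fun u hu => hTD u (hle u hu)) hT

end half

/-! ### restriction of a representation -/

section res

variable {K V Γ : Type*} [Field K] [AddCommGroup V] [Module K V] [Group Γ]

/-- the restriction of a representation to an invariant subspace -/
def res (ρ : Γ →* (V →ₗ[K] V)) (U : Submodule K V) (h : ∀ g, ∀ u ∈ U, ρ g u ∈ U) : Γ →* (↥U →ₗ[K] ↥U) where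
  toFun g := (ρ g).restrict (h g)
  map_one' := by
    ext u
    simp only [_root_.map_one, _root_.LinearMap.coe_restrict_apply, _root_.Module.End.one_apply]
  map_mul' g g' := by
    ext u
    simp only [_root_.map_mul, _root_.LinearMap.coe_restrict_apply, _root_.Module.End.mul_apply]

/-- a perfect group acts with determinant 1 -/
theorem det_one (hΓ : commutator Γ = ⊤) (ρ : Γ →* (V →ₗ[K] V)) (g : Γ) : LinearMap.det (ρ g) = 1 := by
  let f : Γ →* Kˣ := (((LinearMap.det (M := V) (A := K)) : (V →ₗ[K] V) →* K).comp ρ).toHomUnits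
  have h1 : g ∈ commutator Γ := by rw [hΓ]; trivial
  have h2 : f g = 1 := Abelianization.commutator_subset_ker f h1
  have h3 := congrArg Units.val h2
  simpa only [f, _root_.MonoidHom.coe_toHomUnits, _root_.MonoidHom.coe_comp, _root_.Function.comp_apply, _root_.Units.val_one] using h3

end res

end Cfsg.Agent.H858.Co3
end

-- part: H858/Co3/EigGen
section
/-!
# S1920, EIG: generators of `N0 = 4 ∘ 2^{1+4}` (helper858)

`kit_gens` : `a, b, c, d ∈ N0` with `a² = c² = 1`, `[a,b] = [c,d] = z`, the other pairs commute.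
-/

set_option autoImplicit false

open Subgroup

namespace Cfsg.Agent.H858.Co3

open Cfsg.Agent.H415.C3

variable {G : Type*} [Group G] {N0 A E : Subgroup G} {z s x r : G} {ψ : ↥A →* Equiv.Perm (Fin 6)}

/-- a coset of `⟨s⟩` contains an involution -/
theorem kit_sq (K : Kit N0 A E z s x r ψ) {n : G} (hn : n ∈ N0) :
    ∃ m ∈ N0, m * m = 1 ∧ (m = n ∨ m = n * s) := by
  rcases K.sq n hn with h | h
  · exact ⟨n, hn, h, Or.inl rfl⟩
  · refine ⟨n * s, mul_mem hn K.sN, ?_, Or.inr rfl⟩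
    calc n * s * (n * s) = n * (s * n) * s := by group
      _ = n * (n * s) * s := by rw [K.s_cen n hn]
      _ = (n * n) * (s * s) := by group
      _ = 1 := by rw [h, K.s_sq, K.z_sq]

theorem kit_ns (K : Kit N0 A E z s x r ψ) {n : G} {m : G} (hm : m ∈ N0) (h : n * m ≠ m * n) :
    (n * s) * m ≠ m * (n * s) := by
  intro h1
  apply h
  have h2 : (n * s) * m = n * m * s := by rw [mul_assoc, ← K.s_cen m hm]; group
  rw [h2, ← mul_assoc] at h1
  exact mul_right_cancel h1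

theorem kit_cs (K : Kit N0 A E z s x r ψ) {n : G} {m : G} (hm : m ∈ N0) (h : m * n = n * m) :
    m * (n * s) = (n * s) * m := by
  calc m * (n * s) = (m * n) * s := by group
    _ = n * (m * s) := by rw [h]; group
    _ = n * s * m := by rw [K.s_cen m hm]; group

/-- product of two elements not commuting with `b` -/
theorem kit_mul (K : Kit N0 A E z s x r ψ) {n a b : G} (hn : n ∈ N0) (ha : a ∈ N0) (hb : b ∈ N0)
    (h1 : n * b ≠ b * n) (h2 : a * b ≠ b * a) : (n * a) * b = b * (n * a) := by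
  have e1 := (K.comm n hn b hb).resolve_left h1
  have e2 := (K.comm a ha b hb).resolve_left h2
  have hz := K.z_comm (K.N_A hn)
  calc (n * a) * b = n * (a * b) := by group
    _ = (n * z) * (b * a) := by rw [e2]; group
    _ = z * (n * b) * a := by rw [hz]; group
    _ = (z * z) * (b * (n * a)) := by rw [e1]; group
    _ = b * (n * a) := by rw [K.z_sq, one_mul]

theorem card_s_le [Finite G] (K : Kit N0 A E z s x r ψ) : Nat.card (zpowers s) ≤ 4 := by
  rw [Nat.card_zpowers]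
  exact Nat.le_of_dvd (by norm_num) (orderOf_dvd_of_pow_eq_one K.s_four)

/-- **generators** -/
theorem kit_gens [Finite G] (K : Kit N0 A E z s x r ψ) : ∃ a ∈ N0, ∃ b ∈ N0, ∃ c ∈ N0, ∃ d ∈ N0,
    a * a = 1 ∧ c * c = 1 ∧ a * b = z * (b * a) ∧ c * d = z * (d * c) ∧ a * c = c * a ∧ a * d = d * a ∧
    b * c = c * b ∧ b * d = d * b := by
  -- `a`, `b`
  have h1 : ∃ a0 ∈ N0, ∃ b ∈ N0, a0 * b ≠ b * a0 := by
    by_contra hcon
    push Not at hcon
    have h2 : N0 ≤ zpowers s := fun n hn => K.cen n hn fun m hm => hcon n hn m hm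
    have h3 := Subgroup.card_le_of_le h2
    rw [K.card] at h3
    have := card_s_le K
    omega
  obtain ⟨a0, ha0, b, hb, hab⟩ := h1
  obtain ⟨a, ha, haa, hae⟩ := kit_sq K ha0
  have hab' : a * b ≠ b * a := by
    rcases hae with rfl | rfl
    · exact hab
    · exact kit_ns K hb hab
  -- adjusting
  have hadj : ∀ n ∈ N0, ∃ i : Fin 4, (n * (![1, a, b, a * b] i)) ∈ N0 ∧
      (n * (![1, a, b, a * b] i)) * a = a * (n * (![1, a, b, a * b] i)) ∧
      (n * (![1, a, b, a * b] i)) * b = b * (n * (![1, a, b, a * b] i)) := by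
    intro n hn
    by_cases h1 : n * b = b * n
    · by_cases h2 : n * a = a * n
      · refine ⟨0, ?_, ?_, ?_⟩
        · simpa using hn
        · simpa only [_root_.Nat.succ_eq_add_one, _root_.Nat.reduceAdd, _root_.Fin.isValue, _root_.Matrix.cons_val_zero, _root_.mul_one] using h2
        · simpa using h1
      · refine ⟨2, ?_, ?_, ?_⟩
        · simpa using mul_mem hn hb
        · simpa using kit_mul K hn hb ha h2 (fun h => hab' h.symm)
        · change (n * b) * b = b * (n * b)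
          rw [← mul_assoc, ← h1]
    · have h1' := kit_mul K hn ha hb h1 hab'
      by_cases h2 : (n * a) * a = a * (n * a)
      · refine ⟨1, ?_, ?_, ?_⟩
        · simpa using mul_mem hn ha
        · simpa only [_root_.Nat.succ_eq_add_one, _root_.Nat.reduceAdd, _root_.Fin.isValue, _root_.Matrix.cons_val_one, _root_.Matrix.cons_val_zero] using h2
        · simpa using h1'
      · have h3 := kit_mul K (mul_mem hn ha) hb ha h2 (fun h => hab' h.symm)
        refine ⟨3, ?_, ?_, ?_⟩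
        · change n * (a * b) ∈ N0
          exact mul_mem hn (mul_mem ha hb)
        · change (n * (a * b)) * a = a * (n * (a * b))
          rw [← mul_assoc n]; exact h3
        · change (n * (a * b)) * b = b * (n * (a * b))
          rw [← mul_assoc n, ← mul_assoc b, ← h1']
  -- `c`, `d`
  have h5 : ∃ c0 ∈ N0, ∃ d ∈ N0, c0 * a = a * c0 ∧ c0 * b = b * c0 ∧ d * a = a * d ∧ d * b = b * d ∧
      c0 * d ≠ d * c0 := by
    by_contra hcon
    push Not at hcon
    have hcom : ∀ p, p ∈ N0 → p * a = a * p → p * b = b * p → p ∈ zpowers s := by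
      intro p hp hpa hpb
      refine K.cen p hp fun n hn => ?_
      obtain ⟨i, hi, hia, hib⟩ := hadj n hn
      have h6 := hcon p hp _ hi hpa hpb hia hib
      have h7 : p * (![1, a, b, a * b] i) = (![1, a, b, a * b] i) * p := by
        fin_cases i
        · simp
        · exact hpa
        · exact hpb
        · change p * (a * b) = (a * b) * p
          rw [← mul_assoc, hpa, mul_assoc, hpb, mul_assoc]
      have h8 : p * n * (![1, a, b, a * b] i) = n * p * (![1, a, b, a * b] i) := by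
        rw [mul_assoc, h6, mul_assoc n p, h7, mul_assoc]
      exact mul_right_cancel h8
    choose F hF using hadj
    let f : ↥N0 → ↥(zpowers s) × Fin 4 := fun n =>
      (⟨n * (![1, a, b, a * b] (F n n.2)), hcom _ (hF n n.2).1 (hF n n.2).2.1 (hF n n.2).2.2⟩, F n n.2)
    have hf : Function.Injective f := by
      intro n m hnm
      have h6 : F n n.2 = F m m.2 := congrArg Prod.snd hnm
      have h7 : (n : G) * (![1, a, b, a * b] (F n n.2)) = m * (![1, a, b, a * b] (F m m.2)) :=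
        congrArg (fun p => ((p.1 : ↥(zpowers s)) : G)) hnm
      rw [h6] at h7
      exact Subtype.ext (mul_right_cancel h7)
    have h6 := Nat.card_le_card_of_injective f hf
    rw [Nat.card_prod, K.card, Nat.card_eq_fintype_card (α := Fin 4), Fintype.card_fin] at h6
    have := card_s_le K
    omega
  obtain ⟨c0, hc0, d, hd, hca, hcb, hda, hdb, hcd⟩ := h5
  obtain ⟨c, hc, hcc, hce⟩ := kit_sq K hc0
  have hcd' : c * d ≠ d * c := by
    rcases hce with rfl | rfl
    · exact hcd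
    · exact kit_ns K hd hcd
  have hac : a * c = c * a := by
    rcases hce with rfl | rfl
    · exact hca.symm
    · exact kit_cs K ha hca.symm
  have hbc : b * c = c * b := by
    rcases hce with rfl | rfl
    · exact hcb.symm
    · exact kit_cs K hb hcb.symm
  exact ⟨a, ha, b, hb, c, hc, d, hd, haa, hcc, (K.comm a ha b hb).resolve_left hab',
    (K.comm c hc d hd).resolve_left hcd', hac, hda.symm, hbc, hdb.symm⟩

end Cfsg.Agent.H858.Co3
end

-- part: H858/Co3/EigMul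
section
/-!
# S1920, EIG: the multiplicity spaces (helper858)

`mulspace` : for `i² = -1` a plane `U` in the `i`-eigenspace of `s`, stable under all operators commuting with `N0`;
an operator commuting with `N0` and vanishing on `U` vanishes on the `i`-eigenspace.
-/

set_option autoImplicit false

open Subgroup Module

namespace Cfsg.Agent.H858.Co3

open Cfsg.Agent.H415.C3

variable {G : Type*} [Group G] {N0 A E : Subgroup G} {z s x r : G} {ψ : ↥A →* Equiv.Perm (Fin 6)}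
variable {k V : Type*} [Field k] [AddCommGroup V] [Module k V]

theorem mem_H {z g : G} : g ∈ centralizer ({z} : Set G) ↔ g * z = z * g := by
  rw [mem_centralizer_singleton_iff]

theorem N_H (K : Kit N0 A E z s x r ψ) : ∀ n ∈ N0, n ∈ centralizer ({z} : Set G) := fun n hn =>
  mem_H.2 (K.z_comm (K.N_A hn))

theorem E_H (K : Kit N0 A E z s x r ψ) : ∀ e ∈ E, e ∈ centralizer ({z} : Set G) := fun e he =>
  mem_H.2 (K.z_comm (K.E_A he))

theorem s_H (K : Kit N0 A E z s x r ψ) : s ∈ centralizer ({z} : Set G) := N_H K s K.sN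

theorem s_r (K : Kit N0 A E z s x r ψ) : s * r = r * s⁻¹ := by
  have h := K.r_s
  calc s * r = s * (r * s) * s⁻¹ := by group
    _ = r * s⁻¹ := by rw [h]; group

theorem r_H (K : Kit N0 A E z s x r ψ) : r ∈ centralizer ({z} : Set G) := by
  rw [mem_H]
  have hz : s⁻¹ * s⁻¹ = z := by
    have h1 : z⁻¹ = z := inv_eq_of_mul_eq_one_left K.z_sq
    rw [← mul_inv_rev, K.s_sq, h1]
  calc r * z = r * s * s := by rw [mul_assoc, K.s_sq]
    _ = s⁻¹ * (r * s) := by rw [← mul_assoc s⁻¹, ← K.r_s]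
    _ = (s⁻¹ * s⁻¹) * r := by rw [K.r_s, mul_assoc]
    _ = z * r := by rw [hz]

section R

variable (R : ↥(centralizer ({z} : Set G)) →* (V →ₗ[k] V))

theorem R_mul {x y w : G} (hx : x ∈ centralizer ({z} : Set G)) (hy : y ∈ centralizer ({z} : Set G))
    (hw : w ∈ centralizer ({z} : Set G)) (h : x * y = w) (v : V) : R ⟨x, hx⟩ (R ⟨y, hy⟩ v) = R ⟨w, hw⟩ v := by
  rw [← Module.End.mul_apply, ← map_mul]
  congr 2
  exact Subtype.ext h

theorem R_inj (g : ↥(centralizer ({z} : Set G))) : Function.Injective (R g) := by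
  intro u v huv
  have h3 : ∀ w : V, R g⁻¹ (R g w) = w := by
    intro w
    rw [← Module.End.mul_apply, ← map_mul, inv_mul_cancel, map_one, Module.End.one_apply]
  rw [← h3 u, ← h3 v, huv]

theorem R_com {x y : G} (hx : x ∈ centralizer ({z} : Set G)) (hy : y ∈ centralizer ({z} : Set G))
    (h : x * y = y * x) (v : V) : R ⟨x, hx⟩ (R ⟨y, hy⟩ v) = R ⟨y, hy⟩ (R ⟨x, hx⟩ v) := by
  rw [R_mul R hx hy (mul_mem hx hy) rfl v, R_mul R hy hx (mul_mem hx hy) h.symm v]

theorem R_anti {x y : G} (hx : x ∈ centralizer ({z} : Set G)) (hy : y ∈ centralizer ({z} : Set G))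
    (hz : z ∈ centralizer ({z} : Set G)) (hRz : ∀ v, R ⟨z, hz⟩ v = -v)
    (h : x * y = z * (y * x)) (v : V) : R ⟨x, hx⟩ (R ⟨y, hy⟩ v) = -R ⟨y, hy⟩ (R ⟨x, hx⟩ v) := by
  rw [R_mul R hx hy (mul_mem hx hy) rfl v, R_mul R hy hx (mul_mem hy hx) rfl v, ← hRz,
    R_mul R hz (mul_mem hy hx) (mul_mem hx hy) h.symm v]

end R

/-- **the multiplicity space** -/
theorem mulspace [Finite G] (K : Kit N0 A E z s x r ψ) (R : ↥(centralizer ({z} : Set G)) →* (V →ₗ[k] V))
    (hV : finrank k V = 16) (h2 : (2 : k) ≠ 0) (hz : z ∈ centralizer ({z} : Set G)) (hRz : ∀ v, R ⟨z, hz⟩ v = -v)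
    {i : k} (hi : i * i = -1) :
    ∃ U : Submodule k V, finrank k U = 2 ∧ (∀ u ∈ U, R ⟨s, s_H K⟩ u = i • u) ∧
      ∀ T : V →ₗ[k] V, (∀ n (hn : n ∈ N0), ∀ v, T (R ⟨n, N_H K n hn⟩ v) = R ⟨n, N_H K n hn⟩ (T v)) →
        (∀ u ∈ U, T u ∈ U) ∧ ((∀ u ∈ U, T u = 0) → ∀ v, R ⟨s, s_H K⟩ v = i • v → T v = 0) := by
  have hfin : FiniteDimensional k V := FiniteDimensional.of_finrank_pos (by omega)
  obtain ⟨a, ha, b, hb, c, hc, d, hd, haa, hcc, hab, hcd, hac, had, hbc, hbd⟩ := kit_gens K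
  have hi0 : i ≠ 0 := by
    rintro rfl
    rw [mul_zero] at hi
    exact absurd hi (by simp)
  have P1 : ∀ (h : (1 : G) ∈ centralizer ({z} : Set G)) (v : V), R ⟨1, h⟩ v = v := by
    intro h v
    have : R ⟨1, h⟩ = 1 := map_one R
    rw [this, Module.End.one_apply]
  have hs := s_H K
  have ha' := N_H K a ha
  have hb' := N_H K b hb
  have hc' := N_H K c hc
  have hd' := N_H K d hd
  set X : Submodule k V := eig ⊤ (R ⟨s, hs⟩) i with hX
  have mX : ∀ v, v ∈ X ↔ R ⟨s, hs⟩ v = i • v := by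
    intro v
    rw [hX, mem_eig]
    simp only [_root_.Submodule.mem_top, _root_.true_and]
  have hSS : ∀ v, R ⟨s, hs⟩ (R ⟨s, hs⟩ v) = (i * i) • v := by
    intro v
    rw [R_mul R hs hs hz K.s_sq, hRz, hi, neg_one_smul]
  have hdim : finrank k X = 8 := by
    have h1 := half h2 hi0 (R ⟨s, hs⟩) (R ⟨r, r_H K⟩) (R_inj R _) ⊤ (fun _ _ => trivial) (fun _ _ => trivial)
      (fun v _ => hSS v) (fun v _ => by
        refine R_anti R hs (r_H K) hz hRz ?_ v
        rw [s_r K, K.s_inv, ← mul_assoc, mem_H.1 (r_H K), mul_assoc])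
    rw [finrank_top, hV] at h1
    rw [hX]
    omega
  have inv : ∀ T : V →ₗ[k] V, (∀ v, T (R ⟨s, hs⟩ v) = R ⟨s, hs⟩ (T v)) → ∀ u ∈ X, T u ∈ X := by
    intro T hT u hu
    rw [mX] at hu ⊢
    rw [← hT, hu, map_smul]
  have hq := quad (α := 1) (γ := 1) h2 one_ne_zero one_ne_zero (R ⟨a, ha'⟩) (R ⟨b, hb'⟩) (R ⟨c, hc'⟩) (R ⟨d, hd'⟩)
    (R_inj R _) (R_inj R _) X (inv _ (R_com R _ _ (K.s_cen a ha))) (inv _ (R_com R _ _ (K.s_cen b hb)))
    (inv _ (R_com R _ _ (K.s_cen c hc))) (inv _ (R_com R _ _ (K.s_cen d hd)))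
    (fun u _ => by rw [R_mul R ha' ha' (one_mem _) haa, P1, one_mul, one_smul])
    (fun u _ => by rw [R_mul R hc' hc' (one_mem _) hcc, P1, one_mul, one_smul])
    (fun u _ => R_anti R ha' hb' hz hRz hab u) (fun u _ => R_anti R hc' hd' hz hRz hcd u)
    (fun u _ => R_com R ha' hc' hac u) (fun u _ => R_com R ha' hd' had u)
  refine ⟨eig (eig X (R ⟨a, ha'⟩) 1) (R ⟨c, hc'⟩) 1, by omega, ?_, ?_⟩
  · intro u hu
    exact (mX u).1 (mem_eig.1 (mem_eig.1 hu).1).1
  · intro T hT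
    refine ⟨?_, ?_⟩
    · intro u hu
      rw [mem_eig, mem_eig, mX] at hu ⊢
      obtain ⟨⟨h3, h4⟩, h5⟩ := hu
      refine ⟨⟨?_, ?_⟩, ?_⟩
      · rw [← hT s K.sN, h3, map_smul]
      · rw [← hT a ha, h4, map_smul]
      · rw [← hT c hc, h5, map_smul]
    · intro h0 v hv
      exact hq.2 T (fun u _ => hT b hb u) (fun u _ => hT d hd u) h0 v ((mX v).2 hv)

end Cfsg.Agent.H858.Co3
end

-- part: H858/Co3/Eig
section
/-!
# S1920, EIG (helper858)

`K : Kit N0 A E z s x r ψ`, `ρ` a representation of `C_G(z)` of dimension 16 over an algebraically closed field, `z = -1`,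
`E` faithful:
* `eig_ne3` : impossible in characteristic `≠ 2, 3`;
* `eig_ne5` : in characteristic `≠ 2, 5` the eigenvalues of the elements `s y` are not closed under `l ↦ l ^ e`.
-/

set_option autoImplicit false

open Subgroup Module
open scoped commutatorElement Pointwise

namespace Cfsg.Agent.H858.Co3

open Cfsg.Agent.H415.C3

variable {G : Type*} [Group G] {N0 A E : Subgroup G} {z s x r : G} {ψ : ↥A →* Equiv.Perm (Fin 6)}
variable {k V : Type*} [Field k] [AddCommGroup V] [Module k V]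

theorem comm_top {Γ : Type*} [Group Γ] {E : Subgroup Γ} (h : ⁅E, E⁆ = E) : commutator ↥E = ⊤ := by
  have h6 : (commutator ↥E).map E.subtype = E := by
    rw [commutator_def, Subgroup.map_commutator]
    simp only [← MonoidHom.range_eq_map, Subgroup.range_subtype]
    exact h
  refine Subgroup.map_injective E.subtype_injective ?_
  rw [h6, ← MonoidHom.range_eq_map, Subgroup.range_subtype]

theorem c3_e5 : c3 * e5 ≠ e5 * c3 := by decide

/-- two commuting normal subgroups with non trivial image -/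
theorem two_normal {D : Type*} [Group D] (ψ : D →* Equiv.Perm (Fin 6))
    (himg : ∀ π : Equiv.Perm (Fin 6), Equiv.Perm.sign π = 1 → ∃ g, ψ g = π)
    (heven : ∀ g, Equiv.Perm.sign (ψ g) = 1) (D₁ D₂ : Subgroup D) (hD₁ : D₁.Normal) (hD₂ : D₂.Normal)
    (hc : ∀ a ∈ D₁, ∀ b ∈ D₂, a * b = b * a) (h₁ : ∃ g ∈ D₁, ψ g ≠ 1) (h₂ : ∃ g ∈ D₂, ψ g ≠ 1) : False := by
  have key : ∀ D₁ : Subgroup D, D₁.Normal → (∃ g ∈ D₁, ψ g ≠ 1) → ∀ π : Equiv.Perm (Fin 6), Equiv.Perm.sign π = 1 →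
      ∃ g ∈ D₁, ψ g = π := by
    intro D₁ hD₁ h₁ π hπ
    have hsimple : IsSimpleGroup (alternatingGroup (Fin 6)) := alternatingGroup.isSimpleGroup (by simp)
    let S : Subgroup (Equiv.Perm (Fin 6)) := D₁.map ψ
    let T : Subgroup (alternatingGroup (Fin 6)) := S.subgroupOf (alternatingGroup (Fin 6))
    have hT : T.Normal := by
      refine ⟨fun a ha g => ?_⟩
      rw [mem_subgroupOf] at ha ⊢
      obtain ⟨u, hu, hua⟩ := ha
      obtain ⟨w, hw⟩ := himg g (Equiv.Perm.mem_alternatingGroup.1 g.2)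
      refine ⟨w * u * w⁻¹, hD₁.conj_mem u hu w, ?_⟩
      rw [map_mul, map_mul, map_inv, hua, hw]
      rfl
    rcases hsimple.eq_bot_or_eq_top_of_normal T hT with h | h
    · exfalso
      obtain ⟨g, hg, hne⟩ := h₁
      have h1 : (⟨ψ g, Equiv.Perm.mem_alternatingGroup.2 (heven g)⟩ : alternatingGroup (Fin 6)) ∈ T :=
        mem_subgroupOf.2 ⟨g, hg, rfl⟩
      rw [h, Subgroup.mem_bot] at h1
      exact hne (congrArg Subtype.val h1)
    · have h1 : (⟨π, Equiv.Perm.mem_alternatingGroup.2 hπ⟩ : alternatingGroup (Fin 6)) ∈ T := by rw [h]; trivial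
      exact mem_subgroupOf.1 h1
  obtain ⟨g1, hg1, hg1'⟩ := key D₁ hD₁ h₁ c3 sign_c3
  obtain ⟨g2, hg2, hg2'⟩ := key D₂ hD₂ h₂ e5 sign_e5
  apply c3_e5
  rw [← hg1', ← hg2', ← map_mul, ← map_mul, hc g1 hg1 g2 hg2]

/-! ### the representation of `E` -/

section rep

variable (K : Kit N0 A E z s x r ψ) (R : ↥(centralizer ({z} : Set G)) →* (V →ₗ[k] V))

/-- the restriction to `E` -/
def RE : ↥E →* (V →ₗ[k] V) := R.comp (inclusion (fun e he => E_H K e he))

theorem RE_apply (e : ↥E) (v : V) : RE K R e v = R ⟨e, E_H K e e.2⟩ v := rfl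

theorem RE_comm (e : ↥E) (n : G) (hn : n ∈ N0) (v : V) :
    RE K R e (R ⟨n, N_H K n hn⟩ v) = R ⟨n, N_H K n hn⟩ (RE K R e v) :=
  R_com R _ _ (K.E_comm e e.2 n hn) v

/-- the map to the permutations -/
def ψE : ↥E →* Equiv.Perm (Fin 6) := ψ.comp (inclusion K.E_A)

theorem ψE_img (π : Equiv.Perm (Fin 6)) (hπ : Equiv.Perm.sign π = 1) : ∃ g, ψE K g = π := by
  obtain ⟨e, he, h⟩ := K.E_img π hπ
  exact ⟨⟨e, he⟩, h (K.E_A he)⟩

theorem ψE_even (g : ↥E) : Equiv.Perm.sign (ψE K g) = 1 :=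
  K.even_of_comm (K.E_comm g g.2) (K.E_A g.2)

end rep

/-- everything about the two multiplicity spaces -/
theorem decomp [Finite G] (K : Kit N0 A E z s x r ψ) (R : ↥(centralizer ({z} : Set G)) →* (V →ₗ[k] V))
    (hV : finrank k V = 16) (h2 : (2 : k) ≠ 0) (hz : z ∈ centralizer ({z} : Set G)) (hRz : ∀ v, R ⟨z, hz⟩ v = -v)
    {i : k} (hi : i * i = -1) :
    ∃ U : Submodule k V, ∃ hU : ∀ e : ↥E, ∀ u ∈ U, RE K R e u ∈ U, finrank k U = 2 ∧
      (∀ u ∈ U, R ⟨s, s_H K⟩ u = i • u) ∧ (∀ e : ↥E, LinearMap.det (res (RE K R) U hU e) = 1) ∧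
      (∀ e : ↥E, res (RE K R) U hU e = 1 → ∀ v, R ⟨s, s_H K⟩ v = i • v → RE K R e v = v) ∧
      (∀ e : ↥E, ∀ α β : k, (∀ u ∈ U, RE K R e (RE K R e u) = (α + β) • RE K R e u - (α * β) • u) →
        ∀ v, v ≠ 0 → R ⟨s, s_H K⟩ v = i • v → ∀ m : k, RE K R e v = m • v → m = α ∨ m = β) := by
  obtain ⟨U, hU2, hUs, hUT⟩ := mulspace K R hV h2 hz hRz hi
  have hU : ∀ e : ↥E, ∀ u ∈ U, RE K R e u ∈ U := fun e =>
    (hUT (RE K R e) (fun n hn v => RE_comm K R e n hn v)).1
  refine ⟨U, hU, hU2, hUs, fun e => det_one (comm_top K.E_perf) _ e, fun e he v hv => ?_, fun e α β hu v hv0 hv m hm => ?_⟩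
  · have h1 := (hUT (RE K R e - 1) (fun n hn v => by
      rw [LinearMap.sub_apply, LinearMap.sub_apply, Module.End.one_apply, Module.End.one_apply, RE_comm K R e n hn,
        map_sub])).2 (fun u hu => by
      have h3 := congrArg (fun f : ↥U →ₗ[k] ↥U => ((f ⟨u, hu⟩ : ↥U) : V)) he
      rw [LinearMap.sub_apply, Module.End.one_apply, sub_eq_zero]
      exact h3) v hv
    rwa [LinearMap.sub_apply, Module.End.one_apply, sub_eq_zero] at h1
  · have h1 := (hUT (RE K R e * RE K R e - (α + β) • RE K R e + (α * β) • 1) (fun n hn v => by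
      simp only [LinearMap.sub_apply, LinearMap.add_apply, LinearMap.smul_apply, Module.End.one_apply,
        Module.End.mul_apply, RE_comm K R e n hn, map_sub, map_add, map_smul])).2 (fun u hu' => by
      simp only [LinearMap.sub_apply, LinearMap.add_apply, LinearMap.smul_apply, Module.End.one_apply,
        Module.End.mul_apply, hu u hu']
      abel) v hv
    simp only [LinearMap.sub_apply, LinearMap.add_apply, LinearMap.smul_apply, Module.End.one_apply,
        Module.End.mul_apply, hm, map_smul] at h1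
    have h2 : ((m - α) * (m - β)) • v = 0 := by
      rw [← h1, smul_smul, smul_smul, ← sub_smul, ← add_smul]
      congr 1
      ring
    rcases mul_eq_zero.1 ((smul_eq_zero.1 h2).resolve_right hv0) with h | h
    · exact Or.inl (sub_eq_zero.1 h)
    · exact Or.inr (sub_eq_zero.1 h)

/-- an element trivial on both eigenspaces is trivial -/
theorem triv_of [Finite G] (K : Kit N0 A E z s x r ψ) (R : ↥(centralizer ({z} : Set G)) →* (V →ₗ[k] V))
    (h2 : (2 : k) ≠ 0) (hz : z ∈ centralizer ({z} : Set G)) (hRz : ∀ v, R ⟨z, hz⟩ v = -v)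
    {i : k} (hi : i * i = -1) (e : ↥E) (h₁ : ∀ v, R ⟨s, s_H K⟩ v = i • v → RE K R e v = v)
    (h₂ : ∀ v, R ⟨s, s_H K⟩ v = (-i) • v → RE K R e v = v) : RE K R e = 1 := by
  have hi0 : i ≠ 0 := by
    rintro rfl
    rw [mul_zero] at hi
    exact absurd hi (by simp)
  have hSS : ∀ v, R ⟨s, s_H K⟩ (R ⟨s, s_H K⟩ v) = (i * i) • v := by
    intro v
    rw [R_mul R (s_H K) (s_H K) hz K.s_sq, hRz, hi, neg_one_smul]
  ext v
  obtain ⟨u, hu, w, hw, rfl⟩ := split h2 hi0 (R ⟨s, s_H K⟩) ⊤ (fun _ _ => trivial) (fun v _ => hSS v)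
    (u := v) trivial
  rw [map_add, h₁ u (mem_eig.1 hu).2, h₂ w (mem_eig.1 hw).2, Module.End.one_apply]

variable [IsAlgClosed k]

theorem exists_i (_h2 : (2 : k) ≠ 0) : ∃ i : k, i * i = -1 := by
  obtain ⟨i, hi⟩ := IsAlgClosed.exists_pow_nat_eq (-1 : k) (n := 2) (by norm_num)
  exact ⟨i, by rw [← pow_two, hi]⟩

/-- **EIG, characteristic `≠ 2, 3`** -/
theorem eig_ne3 [Finite G] (K : Kit N0 A E z s x r ψ)
    (ρ : ↥(centralizer ({z} : Set G)) →* (V ≃ₗ[k] V)) (hV : finrank k V = 16) (h2 : (2 : k) ≠ 0)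
    (h3 : (3 : k) ≠ 0) (hz : z ∈ centralizer ({z} : Set G)) (hρz : ∀ v, ρ ⟨z, hz⟩ v = -v)
    (hE : ∀ e (he : e ∈ centralizer ({z} : Set G)), e ∈ E → ρ ⟨e, he⟩ = 1 → e = 1) : False := by
  obtain ⟨i, hi⟩ := exists_i (k := k) h2
  set R : ↥(centralizer ({z} : Set G)) →* (V →ₗ[k] V) :=
    (LinearEquiv.automorphismGroup.toLinearMapMonoidHom (R := k) (M := V)).comp ρ with hR
  have hRρ : ∀ g v, R g v = ρ g v := fun g v => rfl
  have hRz : ∀ v, R ⟨z, hz⟩ v = -v := fun v => hρz v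
  have hi' : (-i) * (-i) = -1 := by rw [neg_mul_neg, hi]
  obtain ⟨U, hU, hU2, -, hUd, hU1, -⟩ := decomp K R hV h2 hz hRz hi
  obtain ⟨W, hW, hW2, -, hWd, hW1, -⟩ := decomp K R hV h2 hz hRz hi'
  by_cases c1 : ∀ g, res (RE K R) U hU g = 1 → ψE K g = 1
  · exact contra3 hU2 h3 _ hUd (ψE K) c1 (ψE_img K)
  by_cases c2 : ∀ g, res (RE K R) W hW g = 1 → ψE K g = 1
  · exact contra3 hW2 h3 _ hWd (ψE K) c2 (ψE_img K)
  push Not at c1 c2
  refine two_normal (ψE K) (ψE_img K) (ψE_even K) (res (RE K R) U hU).ker (res (RE K R) W hW).ker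
    (MonoidHom.normal_ker _) (MonoidHom.normal_ker _) ?_ c1 c2
  intro a ha b hb
  have hcom : a * b * (b * a)⁻¹ = 1 := by
    have e1 : a * b * (b * a)⁻¹ ∈ (res (RE K R) U hU).ker := by
      have : a * b * (b * a)⁻¹ = a * (b * a⁻¹ * b⁻¹) := by group
      rw [this]
      exact mul_mem ha ((MonoidHom.normal_ker _).conj_mem _ (inv_mem ha) b)
    have e2 : a * b * (b * a)⁻¹ ∈ (res (RE K R) W hW).ker := by
      have : a * b * (b * a)⁻¹ = (a * b * a⁻¹) * b⁻¹ := by group
      rw [this]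
      exact mul_mem ((MonoidHom.normal_ker _).conj_mem _ hb a) (inv_mem hb)
    have e3 := triv_of K R h2 hz hRz hi _ (hU1 _ e1) (hW1 _ e2)
    refine Subtype.ext (hE _ (E_H K _ (SetLike.coe_mem _)) (SetLike.coe_mem _) ?_)
    ext v
    exact congrArg (fun f : V →ₗ[k] V => f v) e3
  exact mul_inv_eq_one.1 hcom

/-! ### characteristic `≠ 5` -/

theorem pow5_mod {Γ : Type*} [Group Γ] {I : Γ} (hI : I ^ 4 = 1) (n : ℕ) : I ^ 5 ^ n = I := by
  have h : 5 ^ n % 4 = 1 := by rw [Nat.pow_mod]; norm_num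
  rw [← Nat.div_add_mod (5 ^ n) 4, h, pow_succ, pow_mul, hI, one_pow, one_mul]

theorem sep {Γ : Type*} [CommGroup Γ] {u v a b : Γ} {n : ℕ} (hu : u ^ 5 ^ n = u) (hv : v ^ 5 ^ n = v)
    (ha : a ^ 5 ^ n = 1) (hb : b ^ 5 ^ n = 1) (h : u * a = v * b) : u = v ∧ a = b := by
  have h1 := congrArg (fun g => g ^ 5 ^ n) h
  simp only [mul_pow, hu, hv, ha, hb, mul_one] at h1
  subst h1
  exact ⟨rfl, mul_left_cancel h⟩

theorem one_of_zpow {Γ : Type*} [Group Γ] {a : Γ} {n : ℕ} (ha : a ^ 5 ^ n = 1) {m : ℤ} (hm : m % 5 ≠ 0)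
    (h : a ^ m = 1) : a = 1 := by
  obtain ⟨j, -, hj⟩ := (Nat.dvd_prime_pow Nat.prime_five).1 (orderOf_dvd_of_pow_eq_one ha)
  rcases j with _ | j
  · rw [pow_zero, orderOf_eq_one_iff] at hj
    exact hj
  · exfalso
    have h1 : ((orderOf a : ℕ) : ℤ) ∣ m := orderOf_dvd_iff_zpow_eq_one.2 h
    rw [hj] at h1
    have h2 : (5 : ℤ) ∣ m := dvd_trans ⟨(5 : ℤ) ^ j, by push_cast; ring⟩ h1
    omega

/-- closure of the eigenvalues, abstractly -/
theorem alt {Γ : Type*} [CommGroup Γ] {I a b : Γ} {n : ℕ} (hI4 : I ^ 4 = 1) (hI2 : I ≠ I⁻¹) (ha : a ^ 5 ^ n = 1)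
    (hb : b ^ 5 ^ n = 1) (e : ℤ) (h : (I * a) ^ e = I * a ∨ (I * a) ^ e = I * a⁻¹ ∨ (I * a) ^ e = I⁻¹ * b ∨
      (I * a) ^ e = I⁻¹ * b⁻¹) :
    (e % 4 = 1 → a ^ e = a ∨ a ^ e = a⁻¹) ∧ (e % 4 = 3 → a ^ e = b ∨ a ^ e = b⁻¹) := by
  have hI4' : I ^ (4 : ℤ) = 1 := by exact_mod_cast hI4
  have hIe : I ^ e = I ^ (e % 4) := by
    conv_lhs => rw [← Int.emod_add_mul_ediv e 4, zpow_add, zpow_mul, hI4', one_zpow, mul_one]
  have p1 := pow5_mod hI4 n
  have p2 : (I⁻¹) ^ 5 ^ n = I⁻¹ := by rw [inv_pow, p1]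
  have qa : (a⁻¹) ^ 5 ^ n = 1 := by rw [inv_pow, ha, inv_one]
  have qb : (b⁻¹) ^ 5 ^ n = 1 := by rw [inv_pow, hb, inv_one]
  have qe : (a ^ e) ^ 5 ^ n = 1 := by rw [← zpow_natCast, ← zpow_mul, mul_comm, zpow_mul, zpow_natCast, ha, one_zpow]
  rw [mul_zpow] at h
  refine ⟨fun he => ?_, fun he => ?_⟩
  · rw [he, zpow_one] at hIe
    rw [hIe] at h
    rcases h with h | h | h | h
    · exact Or.inl (sep p1 p1 qe ha h).2
    · exact Or.inr (sep p1 p1 qe qa h).2
    · exact absurd (sep p1 p2 qe hb h).1 hI2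
    · exact absurd (sep p1 p2 qe qb h).1 hI2
  · have hI3 : I ^ (3 : ℤ) = I⁻¹ := by
      have : I ^ (3 : ℤ) * I = 1 := by rw [← zpow_add_one]; exact hI4'
      exact eq_inv_of_mul_eq_one_left this
    rw [he, hI3] at hIe
    rw [hIe] at h
    rcases h with h | h | h | h
    · exact absurd (sep p2 p1 qe ha h).1.symm hI2
    · exact absurd (sep p2 p1 qe qa h).1.symm hI2
    · exact Or.inl (sep p2 p2 qe hb h).2
    · exact Or.inr (sep p2 p2 qe qb h).2

omit [IsAlgClosed k] in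
theorem diag_rel {U : Type*} [AddCommGroup U] [Module k U] (b : Basis (Fin 2) k U) {f : U →ₗ[k] U} {α β : k}
    (h0 : f (b 0) = α • b 0) (h1 : f (b 1) = β • b 1) (u : U) : f (f u) = (α + β) • f u - (α * β) • u := by
  have h : f * f = (α + β) • f - (α * β) • (1 : U →ₗ[k] U) := by
    refine b.ext fun j => ?_
    rw [Module.End.mul_apply, LinearMap.sub_apply, LinearMap.smul_apply, LinearMap.smul_apply, Module.End.one_apply]
    have e0 : f (f (b 0)) = (α + β) • f (b 0) - (α * β) • b 0 := by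
      rw [h0, map_smul, h0, smul_smul, smul_smul, ← sub_smul]
      congr 1; ring
    have e1 : f (f (b 1)) = (α + β) • f (b 1) - (α * β) • b 1 := by
      rw [h1, map_smul, h1, smul_smul, smul_smul, ← sub_smul]
      congr 1; ring
    fin_cases j
    · exact e0
    · exact e1
  exact congrArg (fun g : U →ₗ[k] U => g u) h

theorem c5_one : c5 ^ 2 ≠ 1 := by decide

theorem odd1 : ∀ σ : Equiv.Perm (Fin 6), σ * c5 ^ 2 = c5 * σ → Equiv.Perm.sign σ = -1 := by (simp only [↓Cfsg.Agent.PermCode.M, Cfsg.Agent.PermCode.P6.R, Cfsg.Agent.PermCode.B]; decide +kernel)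

theorem odd4 : ∀ σ : Equiv.Perm (Fin 6), σ * c5 ^ 2 = c5 ^ 4 * σ → Equiv.Perm.sign σ = -1 := by (simp only [↓Cfsg.Agent.PermCode.M, Cfsg.Agent.PermCode.P6.R, Cfsg.Agent.PermCode.B]; decide +kernel)

theorem no_conj (σ : Equiv.Perm (Fin 6)) (hσ : Equiv.Perm.sign σ = 1) (m : ℤ) (hm : m % 5 = 0 ∨ m % 5 = 1 ∨ m % 5 = 4)
    (h : σ * c5 ^ 2 = c5 ^ m * σ) : False := by
  have h5 : c5 ^ (5 : ℤ) = 1 := by exact_mod_cast c5_pow
  have hme : c5 ^ m = c5 ^ (m % 5) := by
    conv_lhs => rw [← Int.emod_add_mul_ediv m 5, zpow_add, zpow_mul, h5, one_zpow, mul_one]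
  rw [hme] at h
  rcases hm with hm | hm | hm
  · rw [hm, zpow_zero, one_mul] at h
    exact c5_one (by simpa only [_root_.mul_eq_left] using h)
  · rw [hm, zpow_one] at h
    have := odd1 σ h
    rw [hσ] at this
    exact absurd this (by decide)
  · have h4 : c5 ^ (4 : ℤ) = c5 ^ 4 := by exact_mod_cast rfl
    rw [hm, h4] at h
    have := odd4 σ h
    rw [hσ] at this
    exact absurd this (by decide)

/-- a Sylow 5-subgroup containing `x` and a conjugate of `r x r⁻¹` -/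
theorem exists_syl [Finite G] (K : Kit N0 A E z s x r ψ) (hrx : r * x * r⁻¹ ∈ E) :
    ∃ P : Sylow 5 ↥E, (⟨x, K.xE⟩ : ↥E) ∈ P ∧ ∃ e0 : ↥E, e0 * ⟨r * x * r⁻¹, hrx⟩ * e0⁻¹ ∈ P := by
  have : Fact (Nat.Prime 5) := ⟨Nat.prime_five⟩
  obtain ⟨n, hn⟩ := K.x_five
  have pz : ∀ y : ↥E, y ^ 5 ^ n = 1 → ∃ P : Sylow 5 ↥E, y ∈ P := by
    intro y hy
    have h1 : IsPGroup 5 (zpowers y) := by
      rintro ⟨w, hw⟩
      obtain ⟨j, rfl⟩ := mem_zpowers_iff.1 hw
      refine ⟨n, Subtype.ext ?_⟩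
      change (y ^ j) ^ 5 ^ n = 1
      rw [← zpow_natCast, ← zpow_mul, mul_comm, zpow_mul, zpow_natCast, hy, one_zpow]
    obtain ⟨P, hP⟩ := h1.exists_le_sylow
    exact ⟨P, hP (mem_zpowers y)⟩
  obtain ⟨P, hP⟩ := pz ⟨x, K.xE⟩ (Subtype.ext hn)
  obtain ⟨Q, hQ⟩ := pz ⟨r * x * r⁻¹, hrx⟩ (Subtype.ext (by
    change (r * x * r⁻¹) ^ 5 ^ n = 1
    rw [conj_pow, hn, mul_one, mul_inv_cancel]))
  refine ⟨P, hP, ?_⟩
  obtain ⟨g, hg⟩ := MulAction.exists_smul_eq (↥E) Q P
  refine ⟨g, ?_⟩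
  rw [← hg]
  have h2 : MulAut.conj g • (⟨r * x * r⁻¹, hrx⟩ : ↥E) ∈ MulAut.conj g • (Q : Subgroup ↥E) :=
    Subgroup.smul_mem_pointwise_smul _ _ _ hQ
  rw [MulAut.smul_def, MulAut.conj_apply] at h2
  exact h2

/-- **EIG, characteristic `≠ 2, 5`** -/
theorem eig_ne5 [Finite G] (K : Kit N0 A E z s x r ψ)
    (ρ : ↥(centralizer ({z} : Set G)) →* (V ≃ₗ[k] V)) (hV : finrank k V = 16) (h2 : (2 : k) ≠ 0)
    (h5 : (5 : k) ≠ 0) (hz : z ∈ centralizer ({z} : Set G)) (hρz : ∀ v, ρ ⟨z, hz⟩ v = -v)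
    (hE : ∀ e (he : e ∈ centralizer ({z} : Set G)), e ∈ E → ρ ⟨e, he⟩ = 1 → e = 1)
    (e : ℤ) (he : (e % 4 = 1 ∧ e % 5 ≠ 1 ∧ e % 5 ≠ 4) ∨ (e % 4 = 3 ∧ e % 5 ≠ 2 ∧ e % 5 ≠ 3))
    (hself : ∀ g : ↥(centralizer ({z} : Set G)), (∃ m : ℕ, (g : G) ^ m = z) → ((orderOf g : ℕ) : k) ≠ 0 →
      ∀ l : k, Module.End.HasEigenvalue ((ρ g : V ≃ₗ[k] V) : V →ₗ[k] V) l →
        Module.End.HasEigenvalue ((ρ g : V ≃ₗ[k] V) : V →ₗ[k] V) (l ^ e)) : False := by
  have : Fact (Nat.Prime 5) := ⟨Nat.prime_five⟩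
  obtain ⟨i, hi⟩ := exists_i (k := k) h2
  set R : ↥(centralizer ({z} : Set G)) →* (V →ₗ[k] V) :=
    (LinearEquiv.automorphismGroup.toLinearMapMonoidHom (R := k) (M := V)).comp ρ with hR
  have hRρ : ∀ g v, R g v = ρ g v := fun g v => rfl
  have hRz : ∀ v, R ⟨z, hz⟩ v = -v := fun v => hρz v
  have hi' : (-i) * (-i) = -1 := by rw [neg_mul_neg, hi]
  have hi0 : i ≠ 0 := by
    rintro rfl
    rw [mul_zero] at hi
    exact absurd hi (by simp)
  obtain ⟨U, hU, hU2, hUs, hUd, hU1, hUe⟩ := decomp K R hV h2 hz hRz hi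
  obtain ⟨W, hW, hW2, hWs, hWd, hW1, hWe⟩ := decomp K R hV h2 hz hRz hi'
  -- faithfulness
  have faith : ∀ g : ↥E, res (RE K R) U hU g = 1 → res (RE K R) W hW g = 1 → g = 1 := by
    intro g hg1 hg2
    have e3 := triv_of K R h2 hz hRz hi g (hU1 g hg1) (hW1 g hg2)
    refine Subtype.ext (hE _ (E_H K _ (SetLike.coe_mem _)) (SetLike.coe_mem _) ?_)
    ext v
    exact congrArg (fun f : V →ₗ[k] V => f v) e3
  -- the Sylow subgroup
  have hrx : r * x * r⁻¹ ∈ E := ((mem_normalizer_iff.1 K.rE) x).1 K.xE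
  obtain ⟨P, hxP, e0, hxP'⟩ := exists_syl K hrx
  obtain ⟨n, hn⟩ := IsPGroup.iff_card.1 P.isPGroup'
  have hpow : ∀ g : ↥(P : Subgroup ↥E), g ^ 5 ^ n = 1 := fun g => by
    rw [← hn]; exact pow_card_eq_one'
  obtain ⟨b, lam, hlam⟩ := pgroup_diag hU2 (p := 5) (by norm_num) (by exact_mod_cast h5) P.isPGroup'
    ((res (RE K R) U hU).comp (P : Subgroup ↥E).subtype) (fun g => hUd _)
  obtain ⟨c, mu, hmu⟩ := pgroup_diag hW2 (p := 5) (by norm_num) (by exact_mod_cast h5) P.isPGroup'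
    ((res (RE K R) W hW).comp (P : Subgroup ↥E).subtype) (fun g => hWd _)
  have lpow : ∀ g, lam g ^ 5 ^ n = 1 := fun g => by rw [← map_pow, hpow, map_one]
  have mpow : ∀ g, mu g ^ 5 ^ n = 1 := fun g => by rw [← map_pow, hpow, map_one]
  have b0 : ((b 0 : ↥U) : V) ≠ 0 := fun h => b.ne_zero 0 (Subtype.ext h)
  have c0 : ((c 0 : ↥W) : V) ≠ 0 := fun h => c.ne_zero 0 (Subtype.ext h)
  have hlb : ∀ g : ↥(P : Subgroup ↥E), RE K R g (b 0 : V) = (lam g : k) • (b 0 : V) := fun g =>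
    congrArg (fun u : ↥U => (u : V)) (hlam g).1
  have hmc : ∀ g : ↥(P : Subgroup ↥E), RE K R g (c 0 : V) = (mu g : k) • (c 0 : V) := fun g =>
    congrArg (fun u : ↥W => (u : V)) (hmu g).1
  -- eigenvalues of `g` on the two halves
  have claimU : ∀ g : ↥(P : Subgroup ↥E), ∀ v, v ≠ 0 → R ⟨s, s_H K⟩ v = i • v → ∀ m : k,
      RE K R (g : ↥E) v = m • v → m = lam g ∨ m = (((lam g)⁻¹ : kˣ) : k) := by
    intro g
    refine hUe g _ _ fun u hu => ?_
    exact congrArg (fun u : ↥U => (u : V)) (diag_rel b (hlam g).1 (hlam g).2 ⟨u, hu⟩)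
  have claimW : ∀ g : ↥(P : Subgroup ↥E), ∀ v, v ≠ 0 → R ⟨s, s_H K⟩ v = (-i) • v → ∀ m : k,
      RE K R (g : ↥E) v = m • v → m = mu g ∨ m = (((mu g)⁻¹ : kˣ) : k) := by
    intro g
    refine hWe g _ _ fun u hu => ?_
    exact congrArg (fun u : ↥W => (u : V)) (diag_rel c (hmu g).1 (hmu g).2 ⟨u, hu⟩)
  -- the element `s g`
  let sg : ↥(P : Subgroup ↥E) → ↥(centralizer ({z} : Set G)) := fun g =>
    ⟨s, s_H K⟩ * ⟨((g : ↥E) : G), E_H K _ (g : ↥E).2⟩
  have hsg : ∀ g v, R (sg g) v = R ⟨s, s_H K⟩ (RE K R (g : ↥E) v) := by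
    intro g v
    change R (_ * _) v = _
    rw [map_mul]
    rfl
  have hsg' : ∀ g v, R (sg g) v = RE K R (g : ↥E) (R ⟨s, s_H K⟩ v) := by
    intro g v
    rw [hsg]
    exact (RE_comm K R g s K.sN v).symm
  have hSS : ∀ v, R ⟨s, s_H K⟩ (R ⟨s, s_H K⟩ v) = -v := by
    intro v
    rw [R_mul R (s_H K) (s_H K) hz K.s_sq, hRz]
  have hIinv : i⁻¹ = -i := by
    rw [inv_eq_iff_eq_inv]
    exact eq_inv_of_mul_eq_one_left (by rw [mul_neg, hi, neg_neg])
  let I : kˣ := Units.mk0 i hi0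
  have hI : (I : k) = i := rfl
  have hI' : ((I⁻¹ : kˣ) : k) = -i := by rw [Units.val_inv_eq_inv_val, hI, hIinv]
  have hI4 : I ^ 4 = 1 := by
    apply Units.ext
    rw [Units.val_pow_eq_pow_val, hI, show 4 = 2 * 2 by norm_num, pow_mul, pow_two i, hi]
    norm_num
  have hI2 : I ≠ I⁻¹ := by
    intro h
    have h1 : i = -i := by rw [← hI', ← h, hI]
    have h3 : (2 : k) * i = 0 := by rw [two_mul]; nth_rewrite 1 [h1]; exact neg_add_cancel i
    exact (mul_ne_zero h2 hi0) h3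
  -- the eigenvalues of `s g`
  have claimE : ∀ g : ↥(P : Subgroup ↥E), ∀ l : kˣ, Module.End.HasEigenvalue (R (sg g)) (l : k) →
      l = I * lam g ∨ l = I * (lam g)⁻¹ ∨ l = I⁻¹ * mu g ∨ l = I⁻¹ * (mu g)⁻¹ := by
    intro g l hl
    obtain ⟨v, hv⟩ := hl.exists_hasEigenvector
    have hv1 : R (sg g) v = (l : k) • v := hv.apply_eq_smul
    have hv0 : v ≠ 0 := hv.2
    -- the projections
    have hp : ∀ ε : k, ε * ε = -1 → R ⟨s, s_H K⟩ (R ⟨s, s_H K⟩ v + ε • v) = ε • (R ⟨s, s_H K⟩ v + ε • v) := by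
      intro ε hε
      rw [map_add, hSS, map_smul, smul_add, smul_smul, hε, neg_one_smul, add_comm]
    have hq : ∀ ε : k, ε * ε = -1 → RE K R (g : ↥E) (R ⟨s, s_H K⟩ v + ε • v) =
        (-ε * l) • (R ⟨s, s_H K⟩ v + ε • v) := by
      intro ε hε
      have h3 : R (sg g) (R ⟨s, s_H K⟩ v + ε • v) = (l : k) • (R ⟨s, s_H K⟩ v + ε • v) := by
        rw [map_add, map_smul, hv1, hsg', hSS, smul_add, smul_comm ε]
        congr 1
        rw [map_neg]
        have h4 : RE K R (g : ↥E) v = -R ⟨s, s_H K⟩ (R (sg g) v) := by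
          rw [hsg, hSS, neg_neg]
        rw [h4, hv1, map_smul, neg_neg]
      rw [hsg', hp ε hε, map_smul] at h3
      have h4 : (ε * -ε) • RE K R (g : ↥E) (R ⟨s, s_H K⟩ v + ε • v) = RE K R (g : ↥E) (R ⟨s, s_H K⟩ v + ε • v) := by
        rw [mul_neg, hε, neg_neg, one_smul]
      rw [← h4, mul_comm, ← smul_smul, h3, smul_smul]
    by_cases hc1 : R ⟨s, s_H K⟩ v + i • v = 0
    · have hc2 : R ⟨s, s_H K⟩ v + (-i) • v ≠ 0 := by
        intro hc2
        have h6 : (2 * i) • v = R ⟨s, s_H K⟩ v + i • v - (R ⟨s, s_H K⟩ v + (-i) • v) := by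
          rw [two_mul, add_smul, neg_smul]
          abel
        rw [hc1, hc2, sub_zero] at h6
        exact hv0 ((smul_eq_zero.1 h6).resolve_left (mul_ne_zero h2 hi0))
      have h8 := claimW g _ hc2 (hp (-i) hi') _ (hq (-i) hi')
      have h9 : (- -i * (l : k)) = ((I * l : kˣ) : k) := by rw [neg_neg, Units.val_mul, hI]
      rw [h9] at h8
      right; right
      rcases h8 with h8 | h8
      · left
        rw [← Units.ext h8]; group
      · right
        rw [← Units.ext h8]; group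
    · have h8 := claimU g _ hc1 (hp i hi) _ (hq i hi)
      have h9 : (-i * (l : k)) = ((I⁻¹ * l : kˣ) : k) := by rw [Units.val_mul, hI']
      rw [h9] at h8
      rcases h8 with h8 | h8
      · left
        rw [← Units.ext h8]; group
      · right; left
        rw [← Units.ext h8]; group
  have hlm : ∀ g, Module.End.HasEigenvalue (R (sg g)) ((I * lam g : kˣ) : k) := by
    intro g
    refine Module.End.hasEigenvalue_of_hasEigenvector (x := (b 0 : V)) ⟨?_, b0⟩
    rw [Module.End.mem_eigenspace_iff, hsg, hlb, map_smul, hUs _ (b 0).2, smul_smul, Units.val_mul, mul_comm, hI]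
  have hmm : ∀ g, Module.End.HasEigenvalue (R (sg g)) ((I⁻¹ * mu g : kˣ) : k) := by
    intro g
    refine Module.End.hasEigenvalue_of_hasEigenvector (x := (c 0 : V)) ⟨?_, c0⟩
    rw [Module.End.mem_eigenspace_iff, hsg, hmc, map_smul, hWs _ (c 0).2, smul_smul, Units.val_mul, mul_comm, hI']
  -- powers of `s g`
  have hcsg : ∀ g : ↥(P : Subgroup ↥E), Commute s ((g : ↥E) : G) := fun g => (K.E_comm _ (g : ↥E).2 s K.sN).symm
  have hg5 : ∀ g : ↥(P : Subgroup ↥E), ((g : ↥E) : G) ^ 5 ^ n = 1 := by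
    intro g
    have := congrArg (fun g : ↥(P : Subgroup ↥E) => ((g : ↥E) : G)) (hpow g)
    simpa only [_root_.SubmonoidClass.coe_pow, _root_.OneMemClass.coe_one] using this
  have hz5 : z ^ 5 ^ n = z := pow5_mod (by
    rw [show 4 = 2 * 2 by norm_num, pow_mul, pow_two z, K.z_sq, one_pow]) n
  have hs1 : ∀ g, ((sg g : ↥(centralizer ({z} : Set G))) : G) ^ (2 * 5 ^ n) = z := by
    intro g
    change (s * ((g : ↥E) : G)) ^ (2 * 5 ^ n) = z
    rw [(hcsg g).mul_pow, pow_mul s, pow_two s, K.s_sq, hz5, mul_comm 2, pow_mul, hg5, one_pow, mul_one]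
  have hs2 : ∀ g, ((orderOf (sg g) : ℕ) : k) ≠ 0 := by
    intro g
    have h6 : (sg g) ^ (4 * 5 ^ n) = 1 := by
      apply Subtype.ext
      change ((sg g : ↥(centralizer ({z} : Set G))) : G) ^ (4 * 5 ^ n) = 1
      rw [show 4 * 5 ^ n = (2 * 5 ^ n) * 2 by ring, pow_mul, hs1, pow_two, K.z_sq]
    obtain ⟨j, hj⟩ := orderOf_dvd_of_pow_eq_one h6
    intro h7
    have h8 : ((4 * 5 ^ n : ℕ) : k) = 0 := by rw [hj, Nat.cast_mul, h7, zero_mul]
    push_cast at h8
    have h9 : (4 : k) = 2 * 2 := by norm_num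
    rw [h9] at h8
    exact (mul_ne_zero (mul_ne_zero h2 h2) (pow_ne_zero n h5)) h8
  have hcl : ∀ g, ∀ l : kˣ, Module.End.HasEigenvalue (R (sg g)) (l : k) →
      l ^ e = I * lam g ∨ l ^ e = I * (lam g)⁻¹ ∨ l ^ e = I⁻¹ * mu g ∨ l ^ e = I⁻¹ * (mu g)⁻¹ := by
    intro g l hl
    refine claimE g (l ^ e) ?_
    rw [Units.val_zpow_eq_zpow_val]
    exact hself (sg g) ⟨_, hs1 g⟩ (hs2 g) l hl
  have hA : ∀ g, (e % 4 = 1 → lam g ^ e = lam g ∨ lam g ^ e = (lam g)⁻¹) ∧
      (e % 4 = 3 → lam g ^ e = mu g ∨ lam g ^ e = (mu g)⁻¹) := fun g =>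
    alt hI4 hI2 (lpow g) (mpow g) e (hcl g _ (hlm g))
  have hB : ∀ g, (e % 4 = 1 → mu g ^ e = mu g ∨ mu g ^ e = (mu g)⁻¹) ∧
      (e % 4 = 3 → mu g ^ e = lam g ∨ mu g ^ e = (lam g)⁻¹) := fun g => by
    refine alt (I := I⁻¹) (by rw [inv_pow, hI4, inv_one]) (by rw [inv_inv]; exact hI2.symm) (mpow g) (lpow g) e ?_
    rw [inv_inv]
    rcases hcl g _ (hmm g) with h | h | h | h
    · exact Or.inr (Or.inr (Or.inl h))
    · exact Or.inr (Or.inr (Or.inr h))
    · exact Or.inl h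
    · exact Or.inr (Or.inl h)
  have hone : ∀ g, lam g = 1 → mu g = 1 → (g : ↥E) = 1 := fun g h3 h4 =>
    faith g (eq_one_of_lam b (hlam g).1 (hlam g).2 h3) (eq_one_of_lam c (hmu g).1 (hmu g).2 h4)
  have hψx : ψE K ⟨x, K.xE⟩ = c5 := K.psi_x (K.E_A K.xE)
  rcases he with ⟨he4, he1, he2⟩ | ⟨he4, he1, he2⟩
  · -- `e ≡ 1 mod 4`
    have h3 : ∀ a : kˣ, a ^ 5 ^ n = 1 → a ^ e = a ∨ a ^ e = a⁻¹ → a = 1 := by
      intro a ha h
      rcases h with h | h
      · refine one_of_zpow ha (m := e - 1) (by omega) ?_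
        rw [zpow_sub_one, h, mul_inv_cancel]
      · refine one_of_zpow ha (m := e + 1) (by omega) ?_
        rw [zpow_add_one, h, inv_mul_cancel]
    have h6 := hone ⟨⟨x, K.xE⟩, hxP⟩ (h3 _ (lpow _) ((hA _).1 he4)) (h3 _ (mpow _) ((hB _).1 he4))
    have h7 : ψE K ⟨x, K.xE⟩ = 1 := by
      have h8 : (⟨x, K.xE⟩ : ↥E) = 1 := h6
      rw [h8, map_one]
    rw [hψx] at h7
    exact c5_ne h7
  · -- `e ≡ 3 mod 4`
    set gx : ↥(P : Subgroup ↥E) := ⟨⟨x, K.xE⟩, hxP⟩ with hgx
    set gy : ↥(P : Subgroup ↥E) := ⟨e0 * ⟨r * x * r⁻¹, hrx⟩ * e0⁻¹, hxP'⟩ with hgy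
    have hr' : (e0 : G) * r ∈ centralizer ({z} : Set G) := mul_mem (E_H K _ e0.2) (r_H K)
    -- the vector
    have hv0 : R ⟨(e0 : G) * r, hr'⟩ (b 0 : V) ≠ 0 := by
      intro h
      exact b0 (R_inj R _ (by rw [h, map_zero]))
    have hv1 : R ⟨s, s_H K⟩ (R ⟨(e0 : G) * r, hr'⟩ (b 0 : V)) = (-i) • R ⟨(e0 : G) * r, hr'⟩ (b 0 : V) := by
      rw [R_anti R (s_H K) hr' hz hRz (by
        rw [← mul_assoc s, ← K.E_comm _ e0.2 s K.sN, mul_assoc, s_r K, K.s_inv, ← mul_assoc, ← mul_assoc,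
          mem_H.1 hr', mul_assoc z]), hUs _ (b 0).2, map_smul, neg_smul]
    have hv2 : RE K R (gy : ↥E) (R ⟨(e0 : G) * r, hr'⟩ (b 0 : V)) = (lam gx : k) • R ⟨(e0 : G) * r, hr'⟩ (b 0 : V) := by
      rw [← map_smul, ← hlb gx, RE_apply, RE_apply]
      rw [R_mul R _ hr' (mul_mem hr' (E_H K x K.xE)) (by
        change (e0 : G) * (r * x * r⁻¹) * (e0 : G)⁻¹ * ((e0 : G) * r) = (e0 : G) * r * x
        group), R_mul R hr' _ _ rfl]
    have h6 := claimW gy _ hv0 hv1 _ hv2
    have h7 : lam gx = mu gy ∨ lam gx = (mu gy)⁻¹ := h6.imp (fun h => Units.ext h) (fun h => Units.ext h)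
    have h8 : ∃ m : ℤ, (m = e ∨ m = -e) ∧ lam gy = lam gx ^ m := by
      rcases h7 with h7 | h7 <;> rcases (hB gy).2 he4 with h9 | h9
      · exact ⟨e, Or.inl rfl, by rw [h7, h9]⟩
      · exact ⟨-e, Or.inr rfl, by rw [h7, zpow_neg, h9, inv_inv]⟩
      · exact ⟨-e, Or.inr rfl, by rw [h7, inv_zpow, zpow_neg, inv_inv, h9]⟩
      · exact ⟨e, Or.inl rfl, by rw [h7, inv_zpow, h9, inv_inv]⟩
    obtain ⟨m, hm, hlm'⟩ := h8
    have h9 : lam (gy * gx ^ (-m)) = 1 := by
      rw [map_mul, map_zpow, zpow_neg, ← hlm', mul_inv_cancel]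
    have h10 : mu (gy * gx ^ (-m)) = 1 := by
      rcases (hA (gy * gx ^ (-m))).2 he4 with h | h
      · rw [← h, h9, one_zpow]
      · rw [← inv_eq_one, ← h, h9, one_zpow]
    have h11 := hone _ h9 h10
    have h12 : (gy : ↥E) = (gx : ↥E) ^ m := by
      have h13 : (gy : ↥E) * (gx : ↥E) ^ (-m) = 1 := h11
      rw [zpow_neg] at h13
      exact mul_inv_eq_one.1 h13
    have h13 : ψE K gy = c5 ^ m := by
      rw [h12, map_zpow]
      congr 1
    have h14 : ψE K gy = ψE K e0 * c5 ^ 2 * (ψE K e0)⁻¹ := by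
      have h15 : ψE K ⟨r * x * r⁻¹, hrx⟩ = c5 ^ 2 := K.psi_r (K.E_A hrx)
      rw [← h15, ← map_inv, ← map_mul, ← map_mul]
    have h16 : m % 5 = 0 ∨ m % 5 = 1 ∨ m % 5 = 4 := by
      have h17 : e % 5 = 0 ∨ e % 5 = 1 ∨ e % 5 = 4 := by omega
      rcases hm with hm | hm <;> rcases h17 with h17 | h17 | h17 <;> omega
    refine no_conj (ψE K e0) (ψE_even K e0) m h16 ?_
    rw [← h13, h14]
    group

end Cfsg.Agent.H858.Co3
end

private theorem dce_b454b3cdca30 : _root_.True := by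
  try have : _root_.True := by simp only [_root_.Cfsg.Agent.H858.Co3.eig.eq_1]
  try have : _root_.True := by simp only [_root_.Cfsg.Agent.H527.C3.Dat.Same.congr_simp]
  try have : _root_.True := by simp only [_root_.Cfsg.Agent.H858.Co3.ψE.congr_simp]
  try have : _root_.True := by simp only [_root_.Cfsg.Agent.H858.Co3.RE.congr_simp]
  try have : _root_.True := by simp only [_root_.Cfsg.Agent.H858.Co3.res.congr_simp]
  exact _root_.True.intro
end

-- part: H100/C3/RowPOmega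
section
prune_inst 0x4112031241fa200000000000020001e56ba000000000880000800020004808c2809022820a4a001020020000420340068150010342200000000000000011801800800000081080008c20000000100000000000000000000000000000000000000000000000
set_option linter.all false
open scoped Cfsg.Agent.FastGrp

-- part: H100/C3/Trans
section
/-!
# S1920, case B, orthogonal groups: the linear lift (helper100)
-/

set_option autoImplicit false

namespace Cfsg.Agent.H100.C3

open QuadraticMap Cfsg.Agent.H415.C3 Cfsg.Agent.LieClassical.OrthCore Cfsg.Agent.LieClassical.OrthTrans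
  Cfsg.Agent.ClassicalGeometry.OrthSemi
open Cfsg.Agent.H989.OutOrth.Basic (ofO Psi_ofO)
open Cfsg.Agent.ClassicalGeometry.OrthAut1 (P)
open Cfsg.Agent.AutOrth.Main (pe good_plus good_minus good_odd)
open Cfsg.Agent.LieClassical.QuadForms (plusForm minusForm oddForm coe_plusForm coe_minusForm coe_oddForm)

theorem lin_of {F V : Type*} [Field F] [AddCommGroup V] [Module F V] {Q : QuadraticForm F V} (hG : Good Q)
    {G : Type*} [Group G] (e : P Q ≃* G) :
    Lin (E Q) (e.toMonoidHom.comp (QuotientGroup.mk' (Subgroup.center ↥(E Q)))) where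
  surj := e.surjective.comp (QuotientGroup.mk'_surjective _)
  ker g := by
    change e (QuotientGroup.mk g) = 1 ↔ _
    rw [EmbeddingLike.map_eq_one_iff, QuotientGroup.eq_one_iff]
    constructor
    · intro h
      have h1 : Psi Q (ofO Q ⟨g, E_le_O g.2⟩) = 1 := by
        simp only [Psi_ofO, (QuotientGroup.eq_one_iff g).2 h, map_one]
      rw [← MonoidHom.mem_ker, ker_Psi hG] at h1
      obtain ⟨a, ha⟩ := h1
      refine ⟨a, fun v => ?_⟩
      have h2 : (scal Q a).1 v = (ofO Q ⟨g, E_le_O g.2⟩).1 v := by rw [ha]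
      exact h2.symm
    · rintro ⟨c, hc⟩
      rw [Subgroup.mem_center_iff]
      intro h
      apply Subtype.ext
      apply LinearEquiv.ext
      intro v
      change (h : V ≃ₗ[F] V) ((g : V ≃ₗ[F] V) v) = (g : V ≃ₗ[F] V) ((h : V ≃ₗ[F] V) v)
      rw [hc, hc, map_smul]

theorem lin_pomega {ι : Type} [Fintype ι] [DecidableEq ι] {F : Type*} [Field F] {Q : QuadraticForm F (ι → F)}
    (hG : Good Q) {f : (ι → F) → F} (h : ⇑Q = f) {G : Type*} [Group G] (e : G ≃* Cfsg.POmega F f) :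
    ∃ π : ↥(E Q) →* G, Lin (E Q) π := by
  subst h
  exact ⟨_, lin_of hG ((pe hG).symm.trans e.symm)⟩

end Cfsg.Agent.H100.C3
end

-- part: H10/Co3/OmTwo
section
/-!
# S1920, rows `POmega`: membership in `E Q`, continued (helper10)

* `pair_mem` : `g` commuting with isometries `n`, `m`, where `n² = 1`, `m n = - n m` on `[V, g]`;
* `rot_mem` : `g` with `g² = -1` on `[V, g]`, `4 ∣ dim [V, g]`, finite field of odd characteristic.
-/

set_option autoImplicit false
set_option linter.unusedSectionVars false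

open QuadraticMap Module Cfsg.Agent.LieClassical.OrthCore Cfsg.Agent.LieClassical.OrthTrans

namespace Cfsg.Agent.H10.Co3.Om

variable {F V : Type*} [Field F] [AddCommGroup V] [Module F V] {Q : QuadraticForm F V}

/-! ### Rotations -/

theorem exists_sq_add_sq [Finite F] (h2 : (2 : F) ≠ 0) (c : F) : ∃ a b : F, a * a + b * b = c := by
  have : Fintype F := Fintype.ofFinite F
  have hodd : Fintype.card F % 2 = 1 := by
    apply FiniteField.odd_card_of_char_ne_two
    intro h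
    exact h2 (by exact_mod_cast (ringChar.spec F 2).2 (by rw [h]))
  obtain ⟨a, b, h⟩ := FiniteField.exists_root_sum_quadratic (R := F) (f := Polynomial.X ^ 2 - Polynomial.C c)
    (g := Polynomial.X ^ 2)
    (Polynomial.degree_X_pow_sub_C (by norm_num) _) (Polynomial.degree_X_pow 2) hodd
  refine ⟨a, b, ?_⟩
  simp only [Polynomial.eval_sub, Polynomial.eval_pow, Polynomial.eval_X, Polynomial.eval_C] at h
  linear_combination h

/-- the plane rotations `x ↦ y ↦ -x`, `Q x = Q y = 1` -/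
def RotSet (Q : QuadraticForm F V) : Set (V ≃ₗ[F] V) :=
  {r | ∃ (u x : V) (hu : Q u ≠ 0) (hx : Q x ≠ 0), Q u = 2 ∧ Q x = 1 ∧ r = refl Q u hu * refl Q x hx}

theorem rotSet_mul_mem (hG : Good Q) : ∀ r ∈ RotSet Q, ∀ s ∈ RotSet Q, r * s ∈ E Q := by
  rintro _ ⟨u, x, hu, hx, hu2, hx1, rfl⟩ _ ⟨u', x', hu', hx', hu2', hx1', rfl⟩
  set a := refl Q u hu
  set b := refl Q x hx
  set c := refl Q u' hu'
  set d := refl Q x' hx'
  have ha : a ∈ O Q := refl_mem_O hu
  have hb : b ∈ O Q := refl_mem_O hx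
  have hc : c ∈ O Q := refl_mem_O hu'
  have e : a * b * (c * d) = (a * c) * (c⁻¹ * b * c⁻¹⁻¹ * b⁻¹) * (b * d) := by group
  rw [e]
  exact (E Q).mul_mem ((E Q).mul_mem (hG.refl_mul_refl_mem hu' hu (hu2'.trans hu2.symm))
    (comm_mem hG ((O Q).inv_mem hc) hb)) (hG.refl_mul_refl_mem hx' hx (hx1'.trans hx1.symm))

/-- `[V, g]` -/
def rg (g : V ≃ₗ[F] V) : Submodule F V := LinearMap.range ((g : V →ₗ[F] V) - LinearMap.id)

theorem mem_rg {g : V ≃ₗ[F] V} {w : V} : w ∈ rg g ↔ ∃ v, g v - v = w := Iff.rfl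

section Step

variable {g : V ≃ₗ[F] V} (hg : g ∈ O Q) (hr : ∀ v, g (g (g v - v)) = -(g v - v))

include hr in
theorem sq_rg {w : V} (hw : w ∈ rg g) : g (g w) = - w := by
  obtain ⟨v, rfl⟩ := mem_rg.1 hw
  exact hr v

include hr in
theorem map_rg {w : V} (hw : w ∈ rg g) : g w ∈ rg g := by
  obtain ⟨v, rfl⟩ := mem_rg.1 hw
  exact mem_rg.2 ⟨g v, by rw [map_sub]⟩

include hg hr in
theorem polar_rg (h2 : (2 : F) ≠ 0) {w : V} (hw : w ∈ rg g) : polar Q w (g w) = 0 := by
  have h1 : polar Q (g w) (g (g w)) = polar Q w (g w) := polar_map hg _ _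
  rw [sq_rg hr hw, polar_neg_right, polar_comm Q (g w) w] at h1
  have h3 : (2 : F) * polar Q w (g w) = 0 := by linear_combination -h1
  exact (mul_eq_zero.1 h3).resolve_left h2

include hg hr in
theorem exists_nonsing_rg (hG : Good Q) (h2 : (2 : F) ≠ 0) (hne : rg g ≠ ⊥) : ∃ w ∈ rg g, Q w ≠ 0 := by
  by_contra hcon
  push Not at hcon
  obtain ⟨w, hw, hw0⟩ := Submodule.exists_mem_ne_zero_of_ne_bot hne
  refine hw0 (hG.nondeg w fun v => ?_)
  have h3 : ∀ v' ∈ rg g, polar Q w v' = 0 := by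
    intro v' hv'
    rw [polar, hcon _ ((rg g).add_mem hw hv'), hcon _ hw, hcon _ hv']
    ring
  -- the two parts of `2 v`
  have hW : v - g (g v) ∈ rg g := by
    have e : v - g (g v) = -((g (g v) - g v) + (g v - v)) := by abel
    rw [e]
    exact (rg g).neg_mem ((rg g).add_mem (mem_rg.2 ⟨g v, rfl⟩) (mem_rg.2 ⟨v, rfl⟩))
  have hF : polar Q w (v + g (g v)) = 0 := by
    have hfix : g (v + g (g v)) = v + g (g v) := by
      have h4 := hr v
      rw [map_sub, map_sub] at h4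
      rw [map_add]
      have h5 : g (g (g v)) = g (g v) - (g v - v) := by
        rw [sub_eq_iff_eq_add] at h4
        rw [h4]
        abel
      rw [h5]
      abel
    have h4 : polar Q (g (g w)) (g (g (v + g (g v)))) = polar Q w (v + g (g v)) := by
      rw [polar_map hg, polar_map hg]
    rw [hfix, hfix, sq_rg hr hw, polar_neg_left] at h4
    have h5 : (2 : F) * polar Q w (v + g (g v)) = 0 := by linear_combination -h4
    exact (mul_eq_zero.1 h5).resolve_left h2
  have h4 := h3 _ hW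
  rw [polar_add_right] at hF
  rw [polar_sub_right] at h4
  have h5 : (2 : F) * polar Q w v = 0 := by linear_combination h4 + hF
  exact (mul_eq_zero.1 h5).resolve_left h2

include hg hr in
theorem exists_norm_one [Finite F] (hG : Good Q) (h2 : (2 : F) ≠ 0) (hne : rg g ≠ ⊥) : ∃ w ∈ rg g, Q w = 1 := by
  obtain ⟨w, hw, hQw⟩ := exists_nonsing_rg hg hr hG h2 hne
  obtain ⟨a, b, hab⟩ := exists_sq_add_sq h2 (Q w)⁻¹
  refine ⟨a • w + b • g w, (rg g).add_mem ((rg g).smul_mem _ hw) ((rg g).smul_mem _ (map_rg hr hw)), ?_⟩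
  rw [Q_add, QuadraticMap.map_smul, QuadraticMap.map_smul, polar_smul_left, polar_smul_right, polar_rg hg hr h2 hw,
    mem_O.1 hg]
  simp only [smul_eq_mul]
  have : a * a * Q w + b * b * Q w = 1 := by rw [← add_mul, hab, inv_mul_cancel₀ hQw]
  linear_combination this

end Step

/-- one step: split off a plane rotation -/
theorem rot_step (h2 : (2 : F) ≠ 0) [FiniteDimensional F V] {g : V ≃ₗ[F] V} (hg : g ∈ O Q)
    (hr : ∀ v, g (g (g v - v)) = -(g v - v)) {x : V} (hx : x ∈ rg g) (hx1 : Q x = 1) :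
    ∃ r ∈ RotSet Q, ∃ g' ∈ O Q, g = r * g' ∧ (∀ v, g' (g' (g' v - v)) = -(g' v - v)) ∧
      finrank F (rg g) = finrank F (rg g') + 2 := by
  have hgg : g (g x) = - x := sq_rg hr hx
  have hpx : polar Q x (g x) = 0 := polar_rg hg hr h2 hx
  have hpx' : polar Q (g x) x = 0 := by rw [polar_comm]; exact hpx
  have hgx1 : Q (g x) = 1 := by rw [mem_O.1 hg, hx1]
  have hpxx : polar Q x x = 2 := by rw [polar_self', hx1, mul_one]
  have hpgg : polar Q (g x) (g x) = 2 := by rw [polar_self', hgx1, mul_one]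
  have hu2 : Q (x + g x) = 2 := by rw [Q_add, hx1, hgx1, hpx]; norm_num
  have hx0 : Q x ≠ 0 := by rw [hx1]; exact one_ne_zero
  have hu0 : Q (x + g x) ≠ 0 := by rw [hu2]; exact h2
  set r : V ≃ₗ[F] V := refl Q (x + g x) hu0 * refl Q x hx0 with hrdef
  have hrO : r ∈ O Q := (O Q).mul_mem (refl_mem_O hu0) (refl_mem_O hx0)
  have hr1 : r x = g x := by
    rw [hrdef, LinearEquiv.mul_apply, refl_apply hx0, refl_apply, hx1, hpxx, hu2]
    rw [polar_sub_right, polar_smul_right, polar_add_left, hpxx, hpx', smul_eq_mul]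
    have : (2 : F)⁻¹ * (2 + 0 - 1⁻¹ * 2 * (2 + 0)) = -1 := by field_simp; norm_num
    rw [this]
    module
  have hr2 : r (g x) = - x := by
    rw [hrdef, LinearEquiv.mul_apply, refl_apply hx0, refl_apply, hx1, hpx, hu2, mul_zero, zero_smul, sub_zero,
      polar_add_left, hpx, hpgg, zero_add, inv_mul_cancel₀ h2, one_smul]
    abel
  have hr3 : ∀ y, polar Q x y = 0 → polar Q (g x) y = 0 → r y = y := by
    intro y h1 h3
    rw [hrdef, LinearEquiv.mul_apply, refl_apply hx0, refl_apply, h1, mul_zero, zero_smul, sub_zero,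
      polar_add_left, h1, h3, add_zero, mul_zero, zero_smul, sub_zero]
  obtain ⟨g', hg'⟩ : ∃ g', g' = r⁻¹ * g := ⟨_, rfl⟩
  have hg'O : g' ∈ O Q := by rw [hg']; exact (O Q).mul_mem ((O Q).inv_mem hrO) hg
  have hinv : ∀ a b, r a = b → r⁻¹ b = a := by
    rintro a _ rfl
    exact r.symm_apply_apply a
  have h1' : g' x = x := by rw [hg']; exact hinv _ _ hr1
  have h2' : g' (g x) = g x := by
    rw [hg']
    change r⁻¹ (g (g x)) = g x
    rw [hgg]
    exact hinv _ _ hr2
  have hperp : ∀ y, polar Q x y = 0 → polar Q (g x) y = 0 → polar Q x (g y) = 0 ∧ polar Q (g x) (g y) = 0 := by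
    intro y h1 h3
    refine ⟨?_, by rw [polar_map hg, h1]⟩
    have h4 : polar Q (g (g x)) (g y) = polar Q (g x) y := polar_map hg _ _
    rw [hgg, polar_neg_left, h3] at h4
    linear_combination -h4
  have h3' : ∀ y, polar Q x y = 0 → polar Q (g x) y = 0 → g' y = g y := by
    intro y h1 h3
    rw [hg']
    exact hinv _ _ (hr3 _ (hperp y h1 h3).1 (hperp y h1 h3).2)
  -- decomposition
  have hdec : ∀ v, ∃ y, polar Q x y = 0 ∧ polar Q (g x) y = 0 ∧ g' v - v = g y - y := by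
    intro v
    obtain ⟨α, hα⟩ : ∃ α, α = (2 : F)⁻¹ * polar Q x v := ⟨_, rfl⟩
    obtain ⟨β, hβ⟩ : ∃ β, β = (2 : F)⁻¹ * polar Q (g x) v := ⟨_, rfl⟩
    obtain ⟨y, hy⟩ : ∃ y, y = v - α • x - β • g x := ⟨_, rfl⟩
    have hy1 : polar Q x y = 0 := by
      rw [hy, polar_sub_right, polar_sub_right, polar_smul_right, polar_smul_right, hpxx, hpx, smul_eq_mul, smul_eq_mul,
        hα]
      field_simp
      ring
    have hy2 : polar Q (g x) y = 0 := by
      rw [hy, polar_sub_right, polar_sub_right, polar_smul_right, polar_smul_right, hpgg, hpx', smul_eq_mul, smul_eq_mul,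
        hβ]
      field_simp
      ring
    refine ⟨y, hy1, hy2, ?_⟩
    have hv : v = y + α • x + β • g x := by rw [hy]; abel
    have hgv : g' v = g' y + α • x + β • g x := by
      rw [hv, map_add, map_add, map_smul, map_smul, h1', h2']
    rw [hgv, ← h3' y hy1 hy2, hv]
    abel
  have hr' : ∀ v, g' (g' (g' v - v)) = -(g' v - v) := by
    intro v
    obtain ⟨y, hy1, hy2, hy⟩ := hdec v
    have h5 := hperp y hy1 hy2
    have h6 : polar Q x (g y - y) = 0 := by rw [polar_sub_right, h5.1, hy1, sub_zero]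
    have h7 : polar Q (g x) (g y - y) = 0 := by rw [polar_sub_right, h5.2, hy2, sub_zero]
    have h8 := hperp _ h6 h7
    rw [hy, h3' _ h6 h7, h3' _ h8.1 h8.2, hr]
  refine ⟨r, ⟨x + g x, x, hu0, hx0, hu2, hx1, rfl⟩, g', hg'O, by rw [hg']; group, hr', ?_⟩
  -- dimension
  let ψ : rg g →ₗ[F] F × F := ((polarBilin Q x).prod (polarBilin Q (g x))).domRestrict (rg g)
  have hψ : ∀ w : rg g, ψ w = (polar Q x w, polar Q (g x) w) := fun w => rfl
  have hsurj : LinearMap.range ψ = ⊤ := by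
    rw [LinearMap.range_eq_top]
    rintro ⟨a, b⟩
    refine ⟨⟨((2 : F)⁻¹ * a) • x + ((2 : F)⁻¹ * b) • g x,
      (rg g).add_mem ((rg g).smul_mem _ hx) ((rg g).smul_mem _ (map_rg hr hx))⟩, ?_⟩
    rw [hψ]
    simp only [polar_add_right, polar_smul_right, hpxx, hpx, hpx', hpgg, smul_eq_mul]
    ext
    · field_simp
      simp
    · field_simp
      simp
  have hker : (LinearMap.ker ψ).map (rg g).subtype = rg g' := by
    ext w
    constructor
    · rintro ⟨w, hw, rfl⟩
      have hw' : ψ w = 0 := hw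
      rw [hψ, Prod.mk_eq_zero] at hw'
      obtain ⟨hw1, hw2⟩ := hw'
      change (w : V) ∈ rg g'
      have h9 := hperp _ hw1 hw2
      refine mem_rg.2 ⟨-((2 : F)⁻¹ • (g w + w)), ?_⟩
      have hy1 : polar Q x (-((2 : F)⁻¹ • (g w + w))) = 0 := by
        rw [polar_neg_right, polar_smul_right, polar_add_right, h9.1, hw1]; simp
      have hy2 : polar Q (g x) (-((2 : F)⁻¹ • (g w + w))) = 0 := by
        rw [polar_neg_right, polar_smul_right, polar_add_right, h9.2, hw2]; simp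
      rw [h3' _ hy1 hy2, map_neg, map_smul, map_add, sq_rg hr w.2]
      have h3 : (2 : F)⁻¹ + (2 : F)⁻¹ = 1 := by field_simp; norm_num
      have h4 : (w : V) = ((2 : F)⁻¹ + (2 : F)⁻¹) • (w : V) := by rw [h3, one_smul]
      conv_rhs => rw [h4]
      module
    · intro hw
      obtain ⟨v, rfl⟩ := mem_rg.1 hw
      obtain ⟨y, hy1, hy2, hy⟩ := hdec v
      rw [hy]
      have h5 := hperp y hy1 hy2
      refine ⟨⟨g y - y, mem_rg.2 ⟨y, rfl⟩⟩, ?_, rfl⟩
      change ψ _ = 0
      rw [hψ, Prod.mk_eq_zero]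
      refine ⟨?_, ?_⟩
      · change polar Q x (g y - y) = 0
        rw [polar_sub_right, h5.1, hy1, sub_zero]
      · change polar Q (g x) (g y - y) = 0
        rw [polar_sub_right, h5.2, hy2, sub_zero]
  have h9 := LinearMap.finrank_range_add_finrank_ker ψ
  rw [hsurj, finrank_top, Module.finrank_prod, Module.finrank_self] at h9
  rw [← hker, Submodule.finrank_map_subtype_eq]
  omega

theorem rot_list [Finite F] (hG : Good Q) (h2 : (2 : F) ≠ 0) :
    ∀ n : ℕ, ∀ g : V ≃ₗ[F] V, g ∈ O Q → (∀ v, g (g (g v - v)) = -(g v - v)) → finrank F (rg g) = n →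
      ∃ l : List (V ≃ₗ[F] V), (∀ r ∈ l, r ∈ RotSet Q) ∧ 2 * l.length = n ∧ l.prod = g := by
  have := finiteDimensional hG
  intro n
  induction n using Nat.strong_induction_on with
  | _ n ih =>
    intro g hg hr hn
    by_cases hbot : rg g = ⊥
    · refine ⟨[], by simp, ?_, ?_⟩
      · rw [← hn, hbot, finrank_bot]; rfl
      · rw [List.prod_nil]
        ext v
        have h1 : g v - v ∈ rg g := mem_rg.2 ⟨v, rfl⟩
        rw [hbot, Submodule.mem_bot, sub_eq_zero] at h1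
        exact h1.symm
    · obtain ⟨x, hx, hx1⟩ := exists_norm_one hg hr hG h2 hbot
      obtain ⟨r, hrS, g', hg', e, hr', hdim⟩ := rot_step h2 hg hr hx hx1
      obtain ⟨l, hl, hlen, hprod⟩ := ih (finrank F (rg g')) (by omega) g' hg' hr' rfl
      refine ⟨r :: l, ?_, ?_, ?_⟩
      · intro s hs
        rcases List.mem_cons.1 hs with rfl | hs
        · exact hrS
        · exact hl s hs
      · rw [List.length_cons]
        omega
      · rw [List.prod_cons, hprod, e]

/-- **OM6**: `g² = -1` on `[V, g]`, and `4 ∣ dim [V, g]`. -/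
theorem rot_mem [Finite F] (hG : Good Q) (h2 : (2 : F) ≠ 0) {g : V ≃ₗ[F] V} (hg : g ∈ O Q)
    (hr : ∀ v, g (g (g v - v)) = -(g v - v)) (hd : 4 ∣ finrank F (rg g)) : g ∈ E Q := by
  obtain ⟨l, hl, hlen, rfl⟩ := rot_list hG h2 _ g hg hr rfl
  refine list_even (E Q) (RotSet Q) (rotSet_mul_mem hG) l hl ?_
  obtain ⟨k, hk⟩ := hd
  exact ⟨k, by omega⟩

/-- **OM6'**: `V = W + W'`, `g² = -1` on the invariant subspace `W`, `g = 1` on `W'`, `4 ∣ dim W`. -/
theorem rot_mem' [Finite F] (hG : Good Q) (h2 : (2 : F) ≠ 0) {g : V ≃ₗ[F] V} (hg : g ∈ O Q) (W W' : Submodule F V)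
    (hWW : W ⊔ W' = ⊤) (hgW : ∀ w ∈ W, g w ∈ W) (hW : ∀ w ∈ W, g (g w) = - w) (hW' : ∀ w ∈ W', g w = w)
    (hd : 4 ∣ finrank F W) : g ∈ E Q := by
  have hrg : rg g = W := by
    ext w
    constructor
    · intro hw
      obtain ⟨v, rfl⟩ := mem_rg.1 hw
      have hv : v ∈ W ⊔ W' := by rw [hWW]; exact Submodule.mem_top
      obtain ⟨a, ha, b, hb, rfl⟩ := Submodule.mem_sup.1 hv
      rw [map_add, hW' b hb]
      have e : g a + b - (a + b) = g a - a := by abel
      rw [e]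
      exact W.sub_mem (hgW a ha) ha
    · intro hw
      refine mem_rg.2 ⟨-((2 : F)⁻¹ • (g w + w)), ?_⟩
      rw [map_neg, map_smul, map_add, hW w hw]
      have h3 : (2 : F)⁻¹ + (2 : F)⁻¹ = 1 := by field_simp; norm_num
      have h4 : w = ((2 : F)⁻¹ + (2 : F)⁻¹) • w := by rw [h3, one_smul]
      conv_rhs => rw [h4]
      module
  refine rot_mem hG h2 hg ?_ (by rw [hrg]; exact hd)
  intro v
  have h1 : g v - v ∈ W := by rw [← hrg]; exact mem_rg.2 ⟨v, rfl⟩
  exact hW _ h1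

end Cfsg.Agent.H10.Co3.Om
end

-- part: H100/C3/StepOne
section
/-!
# S1920, case B, orthogonal groups, section 2, step (1): `sh` commutes with `Nh` (helper100)
-/

set_option autoImplicit false
set_option linter.unusedSectionVars false

open Subgroup

namespace Cfsg.Agent.H100.C3

open QuadraticMap Cfsg.Agent.H415.C3 Cfsg.Agent.LieClassical.OrthCore Cfsg.Agent.LieClassical.OrthTrans
open Cfsg.Agent.H10.Co3.Om Cfsg.Agent.H382.Own5
open Module (finrank)

section lin

variable {F V : Type*} [Field F] [AddCommGroup V] [Module F V] {Q : QuadraticForm F V}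

theorem det_refl [FiniteDimensional F V] (two : (2 : F) ≠ 0) {v : V} (hv : Q v ≠ 0) :
    LinearMap.det (refl Q v hv : V →ₗ[F] V) = -1 := by
  have hr : ∀ w, refl Q v hv (refl Q v hv w) = w := fun w => LinearEquiv.congr_fun (refl_mul_self hv) w
  rw [det_invol two (s := (refl Q v hv : V →ₗ[F] V)) hr]
  have h1 : eig (refl Q v hv : V →ₗ[F] V) (-1) = Submodule.span F {v} := by
    ext w
    rw [mem_eig, Submodule.mem_span_singleton]
    constructor
    · intro h
      have h2 : refl Q v hv w = (-1 : F) • w := h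
      rw [refl_apply] at h2
      refine ⟨(2 : F)⁻¹ * ((Q v)⁻¹ * polar Q v w), ?_⟩
      rw [mul_smul]
      have h3 : ((Q v)⁻¹ * polar Q v w) • v = (2 : F) • w := by
        rw [two_smul]
        rw [neg_smul, one_smul] at h2
        have h4 : ((Q v)⁻¹ * polar Q v w) • v = w - (w - ((Q v)⁻¹ * polar Q v w) • v) := by abel
        rw [h4, h2]; abel
      rw [h3, smul_smul, inv_mul_cancel₀ two, one_smul]
    · rintro ⟨a, rfl⟩
      change refl Q v hv (a • v) = (-1 : F) • a • v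
      rw [map_smul, refl_apply, polar_self', ← mul_assoc, mul_comm _ (2 : F), mul_assoc, inv_mul_cancel₀ hv, mul_one,
        two_smul]
      module
  have hv0 : v ≠ 0 := by rintro rfl; exact hv (map_zero Q)
  rw [h1, finrank_span_singleton hv0, pow_one]

/-- an isometry of square `-1` on its commutator space has determinant one -/
theorem det_rot [FiniteDimensional F V] [Finite F] (hG : Good Q) (two : (2 : F) ≠ 0) {g : V ≃ₗ[F] V} (hg : g ∈ O Q)
    (hr : ∀ v, g (g (g v - v)) = -(g v - v)) : LinearMap.det (g : V →ₗ[F] V) = 1 := by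
  obtain ⟨l, hl, -, rfl⟩ := rot_list hG two _ g hg hr rfl
  clear hg hr
  induction l with
  | nil => exact LinearMap.det_id
  | cons r l ih =>
    obtain ⟨u, x, hu, hx, -, -, rfl⟩ := hl r (by simp)
    have h1 : ((((refl Q u hu * refl Q x hx) :: l).prod : V ≃ₗ[F] V) : V →ₗ[F] V) =
        ((refl Q u hu : V →ₗ[F] V) ∘ₗ (refl Q x hx : V →ₗ[F] V)) ∘ₗ ((l.prod : V ≃ₗ[F] V) : V →ₗ[F] V) := by
      rw [List.prod_cons]; rfl
    rw [h1, LinearMap.det_comp, LinearMap.det_comp, det_refl two, det_refl two,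
      ih fun r hr => hl r (List.mem_cons_of_mem _ hr)]
    ring

/-- the two parts of an involutory isometry are orthogonal -/
theorem perp_half (two : (2 : F) ≠ 0) {u : V ≃ₗ[F] V} (hu : u ∈ O Q) {a b : V} (ha : u a = a) (hb : u b = -b) :
    polar Q a b = 0 := by
  have h := polar_map hu a b
  rw [ha, hb, polar_neg_right] at h
  have h3 : (2 : F) * polar Q a b = 0 := by linear_combination -h
  exact (mul_eq_zero.1 h3).resolve_left two

theorem halfHom_mem_O (two : (2 : F) ≠ 0) {u : V ≃ₗ[F] V} (hu : u * u = 1) (huO : u ∈ O Q)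
    (g : ↥(centralizer ({u} : Set (V ≃ₗ[F] V)))) (hg : (g : V ≃ₗ[F] V) ∈ O Q) : halfHom two hu g ∈ O Q := by
  intro v
  obtain ⟨a, b, rfl, ha, hb⟩ := half_decomp two hu v
  have h1 : u ((g : V ≃ₗ[F] V) a) = (g : V ≃ₗ[F] V) a := by
    have h2 : (g : V ≃ₗ[F] V) (u a) = u ((g : V ≃ₗ[F] V) a) :=
      LinearEquiv.congr_fun (mem_centralizer_singleton_iff.1 g.2) a
    rw [← h2, ha]
  rw [map_add, halfHom_pos two hu g ha, halfHom_neg two hu g hb, Q_add, Q_add, mem_O.1 hg,
    perp_half two huO ha hb, perp_half two huO h1 hb]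

theorem halfHom_comm (two : (2 : F) ≠ 0) {u : V ≃ₗ[F] V} (hu : u * u = 1)
    (g : ↥(centralizer ({u} : Set (V ≃ₗ[F] V)))) {m : V ≃ₗ[F] V} (hm : ∀ v, u (m v) = m (u v)) {γ : F}
    (hgm : ∀ a, u a = a → (g : V ≃ₗ[F] V) (m a) = γ • m ((g : V ≃ₗ[F] V) a)) {a b : V} (ha : u a = a) (hb : u b = -b) :
    halfHom two hu g (m (a + b)) = γ • m (halfHom two hu g a) + m b := by
  have h1 : u (m a) = m a := by rw [hm, ha]
  have h2 : u (m b) = - m b := by rw [hm, hb, map_neg]
  rw [map_add, map_add, halfHom_pos two hu g h1, halfHom_neg two hu g h2, halfHom_pos two hu g ha, hgm a ha]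

end lin

variable {G : Type*} [Group G]
variable {N0 A Ek : Subgroup G} {z s x r : G} {ψ : ↥A →* Equiv.Perm (Fin 6)}
variable {F V : Type*} [Field F] [AddCommGroup V] [Module F V] {Q : QuadraticForm F V} {π : ↥(E Q) →* G}
  {Nh Eh : Subgroup (V ≃ₗ[F] V)} {zh sh xh rh : V ≃ₗ[F] V}

/-- the basic facts on `sh²` -/
theorem s_facts (hG : Good Q) (two : (2 : F) ≠ 0) (l : LKit (E Q) π N0 A Ek z s x r Nh Eh zh sh xh rh) :
    ∃ c : F, (c = 1 ∨ c = -1) ∧ (∀ v, zh v = c • sh (sh v)) ∧ (sh * sh) * (sh * sh) = 1 ∧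
      (∃ a, a ≠ 0 ∧ sh (sh a) = a ∧ Q a ≠ 0) ∧ (∃ b, b ≠ 0 ∧ sh (sh b) = -b) := by
  have hQ : ∀ {g : V ≃ₗ[F] V}, g ∈ Nh → ∀ w, Q (g w) = Q w := fun hg w => mem_O.1 (E_le_O (l.Nh_le hg)) w
  have hns : ∃ v0, Q v0 ≠ 0 := by
    by_contra hcon
    push Not at hcon
    apply l.z_ne
    refine ⟨0, fun v => ?_⟩
    have h1 : v = 0 := hG.nondeg v fun w => by rw [QuadraticMap.polar, hcon, hcon, hcon]; ring
    rw [h1, map_zero, smul_zero]
  obtain ⟨v0, hv0⟩ := hns
  obtain ⟨c, hc, h⟩ := l.s_sq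
  have h' : ∀ v, sh (sh v) = c • zh v := h
  have hc1 : c * c = 1 := by
    have h1 := congrArg Q (h' v0)
    rw [hQ l.sN, hQ l.sN, QuadraticMap.map_smul, hQ l.zN, smul_eq_mul] at h1
    have h2 : (c * c - 1) * Q v0 = 0 := by linear_combination -h1
    exact sub_eq_zero.1 ((mul_eq_zero.1 h2).resolve_right hv0)
  have hz : ∀ v, zh v = c • sh (sh v) := fun v => by rw [h', smul_smul, hc1, one_smul]
  have hzz : ∀ w, zh (zh w) = w := fun w => LinearEquiv.congr_fun l.z_sq w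
  have hss : (sh * sh) * (sh * sh) = 1 := by
    apply LinearEquiv.ext
    intro v
    change sh (sh (sh (sh v))) = v
    rw [h' (sh (sh v)), h' v, map_smul, hzz, smul_smul, hc1, one_smul]
  have huO : sh * sh ∈ O Q := mul_mem (E_le_O (l.Nh_le l.sN)) (E_le_O (l.Nh_le l.sN))
  refine ⟨c, ?_, hz, hss, ?_, ?_⟩
  · have h4 : (c - 1) * (c + 1) = 0 := by linear_combination hc1
    rcases mul_eq_zero.1 h4 with h5 | h5
    · exact Or.inl (sub_eq_zero.1 h5)
    · exact Or.inr (eq_neg_of_add_eq_zero_left h5)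
  · by_contra hcon
    push Not at hcon
    -- then `Q = 0` on the fixed space, so the fixed space is zero
    have h0 : ∀ a, (sh * sh) a = a → a = 0 := by
      intro a ha
      have hQa : ∀ a, (sh * sh) a = a → Q a = 0 := by
        intro a ha
        by_cases ha0 : a = 0
        · rw [ha0, map_zero]
        · exact hcon a ha0 ha
      apply hG.nondeg
      intro w
      obtain ⟨a', b, rfl, ha', hb⟩ := half_decomp two hss w
      rw [polar_add_right, perp_half two huO ha hb, add_zero, QuadraticMap.polar, hQa _ ha, hQa _ ha',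
        hQa _ (by rw [map_add, ha, ha'])]
      ring
    apply l.z_ne
    refine ⟨-c, fun v => ?_⟩
    obtain ⟨a, b, rfl, ha, hb⟩ := half_decomp two hss v
    have hb' : sh (sh b) = -b := hb
    rw [hz, h0 a ha, zero_add, hb', smul_neg, neg_smul]
  · by_contra hcon
    push Not at hcon
    apply l.z_ne
    refine ⟨c, fun v => ?_⟩
    obtain ⟨a, b, rfl, ha, hb⟩ := half_decomp two hss v
    have hb0 : b = 0 := by
      by_contra hb0
      exact hcon b hb0 hb
    have ha' : sh (sh a) = a := ha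
    rw [hz, hb0, add_zero, ha']

/-- **step (1)** : `sh` commutes with `Nh`. -/
theorem sN_comm [Finite F] [FiniteDimensional F V] (hG : Good Q) (two : (2 : F) ≠ 0)
    (T : Kit N0 A Ek z s x r ψ) (L : Lin (E Q) π) (l : LKit (E Q) π N0 A Ek z s x r Nh Eh zh sh xh rh) :
    ∀ n ∈ Nh, n * sh = sh * n := by
  obtain ⟨c, hc, hz, hu, ⟨a0, ha0, haa, hQa⟩, ⟨b0, hb0, hbb⟩⟩ := s_facts hG two l
  have hc2 : c * c = 1 := by rcases hc with rfl | rfl <;> ring
  set u := sh * sh with hudef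
  have hsO : sh ∈ O Q := E_le_O (l.Nh_le l.sN)
  have huO : u ∈ O Q := mul_mem hsO hsO
  by_contra hcon
  push Not at hcon
  obtain ⟨n, hn, hns⟩ := hcon
  have hanti : ∀ v, n (sh v) = - sh (n v) := by
    rcases l.s_comm n hn with h | h
    · exact absurd (LinearEquiv.ext h) hns
    · exact h
  -- the correct element
  obtain ⟨n, hn, hanti, hsq⟩ : ∃ n ∈ Nh, (∀ v, n (sh v) = - sh (n v)) ∧ ∀ a, u a = a → n (n a) = - a := by
    obtain ⟨δ, hδ⟩ : ∃ δ : F, ∀ a, u a = a → n (n a) = δ • a := by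
      obtain ⟨c1, -, h | h⟩ := l.sq n hn
      · exact ⟨c1, fun a _ => h a⟩
      · refine ⟨c1 * c, fun a ha => ?_⟩
        have h1 : n (n a) = c1 • zh a := h a
        have ha' : sh (sh a) = a := ha
        rw [h1, hz, ha', smul_smul]
    have hδ2 : δ * δ = 1 := by
      have h1 := congrArg Q (hδ a0 haa)
      have hnO := mem_O.1 (E_le_O (l.Nh_le hn))
      rw [hnO, hnO, QuadraticMap.map_smul, smul_eq_mul] at h1
      have h2 : (δ * δ - 1) * Q a0 = 0 := by linear_combination -h1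
      exact sub_eq_zero.1 ((mul_eq_zero.1 h2).resolve_right hQa)
    have h4 : (δ - 1) * (δ + 1) = 0 := by linear_combination hδ2
    rcases mul_eq_zero.1 h4 with h5 | h5
    · refine ⟨n * sh, mul_mem hn l.sN, fun v => ?_, fun a ha => ?_⟩
      · change n (sh (sh v)) = - sh (n (sh v))
        rw [hanti (sh v)]
      · change n (sh (n (sh a))) = -a
        have ha' : sh (sh a) = a := ha
        have e1 : n (sh (sh a)) = sh (sh (n a)) := by rw [hanti (sh a), hanti a, map_neg, neg_neg]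
        rw [hanti a, map_neg, ← e1, ha', map_neg, hδ a ha, sub_eq_zero.1 h5, one_smul]
    · exact ⟨n, hn, hanti, fun a ha => by rw [hδ a ha, eq_neg_of_add_eq_zero_left h5, neg_smul, one_smul]⟩
  have hun : ∀ v, u (n v) = n (u v) := by
    intro v
    change sh (sh (n v)) = n (sh (sh v))
    rw [hanti (sh v), hanti v, map_neg, neg_neg]
  have hus : ∀ v, u (sh v) = sh (u v) := fun v => rfl
  have huu : ∀ v, u (u v) = v := fun v => LinearEquiv.congr_fun hu v
  have hnc : n ∈ centralizer ({u} : Set (V ≃ₗ[F] V)) := by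
    rw [mem_centralizer_singleton_iff]
    exact LinearEquiv.ext fun v => (hun v).symm
  have hsc : sh ∈ centralizer ({u} : Set (V ≃ₗ[F] V)) := by
    rw [mem_centralizer_singleton_iff]
    exact LinearEquiv.ext fun v => (hus v).symm
  have hnO : n ∈ O Q := E_le_O (l.Nh_le hn)
  -- `R = sh` on `Vr`, `1` on `Vc`; `J = 1` on `Vr`, `sh` on `Vc`
  set R : V ≃ₗ[F] V := halfHom two hu ⟨sh, hsc⟩ with hR
  have hRO : R ∈ O Q := halfHom_mem_O two hu huO ⟨sh, hsc⟩ hsO
  have hRp : ∀ a, u a = a → R a = sh a := fun a ha => halfHom_pos two hu ⟨sh, hsc⟩ ha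
  have hRn : ∀ b, u b = -b → R b = b := fun b hb => halfHom_neg two hu ⟨sh, hsc⟩ hb
  have husa : ∀ a, u a = a → u (sh a) = sh a := fun a ha => by rw [hus, ha]
  have husb : ∀ b, u b = -b → u (sh b) = - sh b := fun b hb => by rw [hus, hb, map_neg]
  have hRR : ∀ v, R (R v) = v := by
    intro v
    obtain ⟨a, b, rfl, ha, hb⟩ := half_decomp two hu v
    rw [map_add, map_add, hRp a ha, hRn b hb, hRp _ (husa a ha), hRn b hb]
    congr 1
  have hJO : R * sh ∈ O Q := mul_mem hRO hsO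
  have hJp : ∀ a, u a = a → (R * sh) a = a := fun a ha => by
    change R (sh a) = a
    rw [hRp _ (husa a ha)]
    exact ha
  have hJn : ∀ b, u b = -b → (R * sh) b = sh b := fun b hb => hRn _ (husb b hb)
  have hdJ : LinearMap.det ((R * sh : V ≃ₗ[F] V) : V →ₗ[F] V) = 1 := by
    refine det_rot hG two hJO fun v => ?_
    obtain ⟨a, b, rfl, ha, hb⟩ := half_decomp two hu v
    have h1 : (R * sh) (a + b) - (a + b) = sh b - b := by rw [map_add, hJp a ha, hJn b hb]; abel
    have h2 : u (sh b - b) = -(sh b - b) := by rw [map_sub, husb b hb, hb]; abel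
    rw [h1, hJn _ h2, hJn _ (husb _ h2)]
    exact h2
  have hdR : LinearMap.det (R : V →ₗ[F] V) = 1 := by
    have h1 : LinearMap.det (sh : V →ₗ[F] V) = 1 := det_eq_one hG (l.Nh_le l.sN)
    have h2 : ((R * sh : V ≃ₗ[F] V) : V →ₗ[F] V) = (R : V →ₗ[F] V) ∘ₗ (sh : V →ₗ[F] V) := rfl
    rw [h2, LinearMap.det_comp, h1, mul_one] at hdJ
    exact hdJ
  -- the dimension of `Vr` is divisible by four
  let Sp : Module.End F V := (sh : V →ₗ[F] V)
  let Vp : Submodule F V := eig Sp 1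
  let Vm : Submodule F V := eig Sp (-1)
  have hVp : ∀ v, v ∈ Vp ↔ sh v = v := fun v => by
    rw [mem_eig, one_smul]; rfl
  have hVm : ∀ v, v ∈ Vm ↔ sh v = -v := fun v => by
    rw [mem_eig, neg_smul, one_smul]; rfl
  have hRm : eig (R : Module.End F V) (-1) = Vm := by
    ext v
    rw [hVm, mem_eig, neg_smul, one_smul]
    change R v = -v ↔ _
    constructor
    · intro h
      obtain ⟨a, b, rfl, ha, hb⟩ := half_decomp two hu v
      rw [map_add, hRp a ha, hRn b hb] at h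
      -- `sh a + b = -a - b`
      have h1 : u (sh a + b) = sh a - b := by rw [map_add, husa a ha, hb]; abel
      have h2 : u (-(a + b)) = -a + b := by rw [map_neg, map_add, ha, hb]; abel
      rw [h, h2] at h1
      have h3 : (2 : F) • (2 : F) • b = 0 := by
        have h4 : b + b + (b + b) = (sh a + b) - -(a + b) - ((sh a - b) - (-a + b)) := by abel
        rw [two_smul F b, two_smul F (b + b), h4, h, ← h1]
        abel
      have h4 := (smul_eq_zero.1 ((smul_eq_zero.1 h3).resolve_left two)).resolve_left two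
      rw [h4, add_zero, add_zero] at h
      rw [h4, add_zero]
      exact h
    · intro h
      have hv : u v = v := by
        change sh (sh v) = v
        rw [h, map_neg, h, neg_neg]
      rw [hRp v hv, h]
  have heven : Even (finrank F Vm) := by
    have h1 := det_invol two (s := (R : Module.End F V)) hRR
    rw [hRm] at h1
    have h2 : (-1 : F) ^ finrank F Vm = 1 := h1.symm.trans hdR
    rcases Nat.even_or_odd (finrank F Vm) with h3 | h3
    · exact h3
    · exfalso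
      rw [h3.neg_one_pow] at h2
      apply two
      linear_combination -h2
  have hpm : finrank F Vp = finrank F Vm := by
    apply le_antisymm
    · refine LinearMap.finrank_le_finrank_of_injective (f := (n : V →ₗ[F] V).restrict (p := Vp) (q := Vm) ?_) ?_
      · intro v hv
        rw [hVm]
        have h1 : n (sh v) = - sh (n v) := hanti v
        rw [(hVp v).1 hv] at h1
        exact neg_eq_iff_eq_neg.1 h1.symm
      · intro v w h
        exact Subtype.ext (n.injective (congrArg Subtype.val h))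
    · refine LinearMap.finrank_le_finrank_of_injective (f := (n : V →ₗ[F] V).restrict (p := Vm) (q := Vp) ?_) ?_
      · intro v hv
        rw [hVp]
        have h1 : n (sh v) = - sh (n v) := hanti v
        rw [(hVm v).1 hv, map_neg] at h1
        exact (neg_injective h1).symm
      · intro v w h
        exact Subtype.ext (n.injective (congrArg Subtype.val h))
  let U : Module.End F V := (u : V →ₗ[F] V)
  let Vr : Submodule F V := eig U 1
  let Vc : Submodule F V := eig U (-1)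
  have hVr : ∀ v, v ∈ Vr ↔ u v = v := fun v => by
    rw [mem_eig, one_smul]; rfl
  have hVc : ∀ v, v ∈ Vc ↔ u v = -v := fun v => by
    rw [mem_eig, neg_smul, one_smul]; rfl
  have hsup : Vp ⊔ Vm = Vr := by
    apply le_antisymm
    · refine sup_le (fun v hv => ?_) (fun v hv => ?_)
      · rw [hVr]
        change sh (sh v) = v
        rw [(hVp v).1 hv, (hVp v).1 hv]
      · rw [hVr]
        change sh (sh v) = v
        rw [(hVm v).1 hv, map_neg, (hVm v).1 hv, neg_neg]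
    · intro v hv
      have hv' : sh (sh v) = v := (hVr v).1 hv
      have h1 : v = (2 : F)⁻¹ • (v + sh v) + (2 : F)⁻¹ • (v - sh v) := by
        rw [← smul_add, show v + sh v + (v - sh v) = (2 : F) • v by rw [two_smul]; abel, smul_smul,
          inv_mul_cancel₀ two, one_smul]
      rw [h1]
      refine add_mem (Submodule.mem_sup_left (Vp.smul_mem _ ((hVp _).2 ?_)))
        (Submodule.mem_sup_right (Vm.smul_mem _ ((hVm _).2 ?_)))
      · rw [map_add, hv', add_comm]
      · rw [map_sub, hv', neg_sub]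
  have hinf : Vp ⊓ Vm = ⊥ := by
    rw [eq_bot_iff]
    rintro v ⟨h1, h2⟩
    have h3 := (hVp v).1 h1
    have h4 := (hVm v).1 h2
    rw [h3] at h4
    have h5 : (2 : F) • v = 0 := by
      rw [two_smul]; nth_rewrite 1 [h4]; rw [neg_add_cancel]
    exact (Submodule.mem_bot F).2 ((smul_eq_zero.1 h5).resolve_left two)
  have hfour : 4 ∣ finrank F Vr := by
    have h1 := Submodule.finrank_sup_add_finrank_inf_eq Vp Vm
    rw [hsup, hinf, finrank_bot, add_zero, hpm] at h1
    obtain ⟨k, hk⟩ := heven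
    exact ⟨k, by omega⟩
  -- the element `n` on `Vr`, `1` on `Vc`
  set n' : V ≃ₗ[F] V := halfHom two hu ⟨n, hnc⟩ with hn'
  have hnp : ∀ a, u a = a → n' a = n a := fun a ha => halfHom_pos two hu ⟨n, hnc⟩ ha
  have hnn : ∀ b, u b = -b → n' b = b := fun b hb => halfHom_neg two hu ⟨n, hnc⟩ hb
  have huna : ∀ a, u a = a → u (n a) = n a := fun a ha => by rw [hun, ha]
  have hn'O : n' ∈ O Q := halfHom_mem_O two hu huO ⟨n, hnc⟩ hnO
  have hn'E : n' ∈ E Q := by
    refine rot_mem' hG two hn'O Vr Vc ?_ ?_ ?_ ?_ hfour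
    · rw [eq_top_iff]
      intro v _
      obtain ⟨a, b, rfl, ha, hb⟩ := half_decomp two hu v
      exact add_mem (Submodule.mem_sup_left ((hVr a).2 ha)) (Submodule.mem_sup_right ((hVc b).2 hb))
    · intro w hw
      have hw' := (hVr w).1 hw
      rw [hnp w hw', hVr]
      exact huna w hw'
    · intro w hw
      have hw' := (hVr w).1 hw
      rw [hnp w hw', hnp _ (huna w hw')]
      exact hsq w hw'
    · intro w hw
      exact hnn w ((hVc w).1 hw)
  have humv : ∀ m ∈ Nh, ∀ v, u (m v) = m (u v) := by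
    intro m hm v
    have h1 : zh (m v) = m (zh v) := LinearEquiv.congr_fun (l.z_comm m hm) v
    rw [hz, hz, map_smul] at h1
    have hc0 : c ≠ 0 := fun h => by rw [h, mul_zero] at hc2; exact zero_ne_one hc2
    exact smul_right_injective V hc0 h1
  have hT := l.T1 T L (g := n') hn'E ?_ ?_
  · obtain ⟨c4, -, h4⟩ := hT
    have h4' : ∀ v, n' (sh v) = c4 • sh (n' v) := h4
    have h5 := h4' b0
    have hub : u b0 = -b0 := hbb
    rw [hnn b0 hub, hnn _ (husb b0 hub)] at h5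
    have h6 : (1 - c4) • sh b0 = 0 := by rw [sub_smul, one_smul, ← h5, sub_self]
    have h7 : c4 = 1 := by
      rcases smul_eq_zero.1 h6 with h8 | h8
      · exact (sub_eq_zero.1 h8).symm
      · exact absurd (sh.map_eq_zero_iff.1 h8) hb0
    have h8 := h4' a0
    have hua : u a0 = a0 := haa
    rw [hnp a0 hua, hnp _ (husa a0 hua), h7, one_smul, hanti] at h8
    have h9 : (2 : F) • sh (n a0) = 0 := by
      rw [two_smul]; nth_rewrite 1 [← h8]; rw [neg_add_cancel]
    exact ha0 (n.map_eq_zero_iff.1 (sh.map_eq_zero_iff.1 ((smul_eq_zero.1 h9).resolve_left two)))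
  · intro m hm
    have hum := humv m hm
    have hca : ∀ γ : F, (∀ a, u a = a → n (m a) = γ • m (n a)) → ∀ a b, u a = a → u b = -b →
        n' (m (a + b)) = γ • m (n' a) + m b := fun γ hγ a b ha hb =>
      halfHom_comm two hu ⟨n, hnc⟩ hum hγ ha hb
    obtain ⟨γ, hγ1, hγ⟩ : ∃ γ : F, (γ = 1 ∨ γ = -1) ∧ ∀ a, u a = a → n (m a) = γ • m (n a) := by
      obtain ⟨c5, hc5, h | h⟩ := l.comm n hn m hm
      · exact ⟨c5, hc5, fun a _ => h a⟩
      · refine ⟨c5 * c, ?_, fun a ha => ?_⟩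
        · rcases hc5 with rfl | rfl <;> rcases hc with rfl | rfl <;> simp
        · have h1 : n (m a) = c5 • zh (m (n a)) := h a
          have h2 : u (m (n a)) = m (n a) := by rw [hum, hun, ha]
          have h3 : sh (sh (m (n a))) = m (n a) := h2
          rw [h1, hz, h3, smul_smul]
    rcases hγ1 with h1 | h1
    · refine ⟨1, Or.inl fun v => ?_⟩
      obtain ⟨a, b, rfl, ha, hb⟩ := half_decomp two hu v
      change n' (m (a + b)) = (1 : F) • m (n' (a + b))
      rw [hca γ hγ a b ha hb, h1, one_smul, one_smul, map_add, map_add, hnn b hb]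
    · refine ⟨-c, Or.inr fun v => ?_⟩
      obtain ⟨a, b, rfl, ha, hb⟩ := half_decomp two hu v
      change n' (m (a + b)) = (-c) • zh (m (n' (a + b)))
      have h2 : u (m (n' a)) = m (n' a) := by rw [hum, hnp a ha, huna a ha]
      have h3 : u (m b) = - m b := by rw [hum, hb, map_neg]
      have h2' : sh (sh (m (n' a))) = m (n' a) := h2
      have h3' : sh (sh (m b)) = - m b := h3
      rw [hca γ hγ a b ha hb, h1, map_add n', map_add m, map_add zh, hnn b hb, hz, hz, h2', h3', smul_add, smul_smul,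
        smul_smul, neg_mul, hc2]
      module
  · intro e he
    refine ⟨1, fun v => ?_⟩
    have hen : ∀ v, e (n v) = n (e v) := fun v => LinearEquiv.congr_fun (l.Eh_comm e he n hn) v
    have heu : ∀ v, u (e v) = e (u v) := by
      intro v
      have h1 : ∀ v, e (sh v) = sh (e v) := fun v => LinearEquiv.congr_fun (l.Eh_comm e he sh l.sN) v
      change sh (sh (e v)) = e (sh (sh v))
      rw [h1, h1]
    obtain ⟨a, b, rfl, ha, hb⟩ := half_decomp two hu v
    change n' (e (a + b)) = (1 : F) • e (n' (a + b))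
    have h1 : u (e a) = e a := by rw [heu, ha]
    have h2 : u (e b) = - e b := by rw [heu, hb, map_neg]
    rw [one_smul, map_add, map_add, map_add n' a b, map_add, hnp _ h1, hnn _ h2, hnp a ha, hnn b hb, hen]

end Cfsg.Agent.H100.C3
end

-- part: H527/C3/Glue
section
/-!
# S1920, classical groups, section 4: glued isometries and commutators (helper527)

`glue e g` : `g` on the image of the idempotent `e`, `1` on its kernel.
`rf x k` : the reflection `u ↦ u - k h(x, u) x`, `k h(x, x) = 2`.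
`mul_conj_mem` : `g (n g n⁻¹) ∈ ⁅I, I⁆` if `g` is conjugate to `g⁻¹` in `I`.
`split_mem` : `g ∈ ⁅I, I⁆` for `g` commuting with `a`, `n`, where `a n = - n a`, `a² = 1`.
-/

set_option autoImplicit false

open Subgroup
open scoped commutatorElement

namespace Cfsg.Agent.H527.C3

theorem mul_conj_mem {G : Type*} [Group G] {I : Subgroup G} {g n y : G} (hg : g ∈ I) (hn : n ∈ I) (hy : y ∈ I)
    (h : y * g * y⁻¹ = g⁻¹) : g * (n * g * n⁻¹) ∈ ⁅I, I⁆ := by
  have h1 : ⁅g, y⁆ = g * g := by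
    rw [commutatorElement_def]
    calc g * y * g⁻¹ * y⁻¹ = g * (y * g * y⁻¹)⁻¹ := by group
      _ = g * g := by rw [h, inv_inv]
  have h2 : g * (n * g * n⁻¹) = ⁅g, y⁆ * ⁅g⁻¹, n⁆ := by
    rw [h1, commutatorElement_def]; group
  rw [h2]
  exact mul_mem (commutator_mem_commutator hg hy) (commutator_mem_commutator (inv_mem hg) hn)

theorem sq_mem {G : Type*} [Group G] {I : Subgroup G} {g y : G} (hg : g ∈ I) (hy : y ∈ I)
    (h : y * g * y⁻¹ = g⁻¹) : g * g ∈ ⁅I, I⁆ := by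
  have h1 := mul_conj_mem hg (one_mem I) hy h
  rwa [one_mul, inv_one, mul_one] at h1

variable {K W : Type*} [Field K] [AddCommGroup W] [Module K W]

/-- `g` on the image of `e`, `1` on the kernel -/
def glue (e : Module.End K W) (he : e * e = e) (g : (Module.End K W)ˣ) (hc : (g : Module.End K W) * e = e * g) :
    (Module.End K W)ˣ :=
  have hc' : ((g⁻¹ : (Module.End K W)ˣ) : Module.End K W) * e = e * ((g⁻¹ : (Module.End K W)ˣ) : Module.End K W) := by
    rw [Units.inv_mul_eq_iff_eq_mul, ← mul_assoc, hc, mul_assoc, Units.mul_inv, mul_one]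
  ⟨g * e + (1 - e), ((g⁻¹ : (Module.End K W)ˣ) : Module.End K W) * e + (1 - e), by
    have h1 : (g : Module.End K W) * e * (((g⁻¹ : (Module.End K W)ˣ) : Module.End K W) * e) = e := by
      rw [hc', mul_assoc, ← mul_assoc e e, he, ← hc', Units.mul_inv_cancel_left]
    have h2 : e * (1 - e) = 0 := by rw [mul_sub, mul_one, he, sub_self]
    have h3 : (1 - e) * (((g⁻¹ : (Module.End K W)ˣ) : Module.End K W) * e) = 0 := by
      rw [hc', ← mul_assoc, sub_mul, one_mul, he, sub_self, zero_mul]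
    have h4 : (1 - e) * (1 - e) = 1 - e := by rw [mul_sub, mul_one, sub_mul, one_mul, he, sub_self, sub_zero]
    rw [add_mul, mul_add, mul_add, h1, mul_assoc, h2, mul_zero, h3, h4]
    abel, by
    have h1 : ((g⁻¹ : (Module.End K W)ˣ) : Module.End K W) * e * ((g : Module.End K W) * e) = e := by
      rw [hc, mul_assoc, ← mul_assoc e e, he, ← hc, Units.inv_mul_cancel_left]
    have h2 : e * (1 - e) = 0 := by rw [mul_sub, mul_one, he, sub_self]
    have h3 : (1 - e) * ((g : Module.End K W) * e) = 0 := by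
      rw [hc, ← mul_assoc, sub_mul, one_mul, he, sub_self, zero_mul]
    have h4 : (1 - e) * (1 - e) = 1 - e := by rw [mul_sub, mul_one, sub_mul, one_mul, he, sub_self, sub_zero]
    rw [add_mul, mul_add, mul_add, h1, mul_assoc, h2, mul_zero, h3, h4]
    abel⟩

theorem glue_smul (e : Module.End K W) (he : e * e = e) (g : (Module.End K W)ˣ)
    (hc : (g : Module.End K W) * e = e * g) (u : W) : glue e he g hc • u = g • e u + (u - e u) := rfl

theorem glue_img (e : Module.End K W) (he : e * e = e) (g : (Module.End K W)ˣ)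
    (hc : (g : Module.End K W) * e = e * g) {u : W} (hu : e u = u) : glue e he g hc • u = g • u := by
  rw [glue_smul, hu, sub_self, add_zero]

theorem glue_ker (e : Module.End K W) (he : e * e = e) (g : (Module.End K W)ˣ)
    (hc : (g : Module.End K W) * e = e * g) {u : W} (hu : e u = 0) : glue e he g hc • u = u := by
  rw [glue_smul, hu, smul_zero, sub_zero, zero_add]

theorem glue_iso {h : LinearMap.BilinForm K W} {e : Module.End K W} (he : e * e = e)
    (hadj : ∀ u v, h (e u) v = h u (e v)) {g : (Module.End K W)ˣ} (hg : g ∈ isoms h)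
    (hc : (g : Module.End K W) * e = e * g) : glue e he g hc ∈ isoms h := by
  intro u v
  have hee : ∀ u, e (e u) = e u := fun u => congrArg (fun f : Module.End K W => f u) he
  have hge : ∀ u, g • e u = e (g • u) := fun u => congrArg (fun f : Module.End K W => f u) hc
  have h1 : h (g • e u) (v - e v) = 0 := by
    rw [hge, hadj, map_sub, hee, sub_self, map_zero]
  have h2 : h (u - e u) (g • e v) = 0 := by
    rw [hge, ← hadj, map_sub, hee, sub_self, map_zero, LinearMap.zero_apply]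
  have h3 : h (e u) (v - e v) = 0 := by rw [hadj, map_sub, hee, sub_self, map_zero]
  have h4 : h (u - e u) (e v) = 0 := by rw [← hadj, map_sub, hee, sub_self, map_zero, LinearMap.zero_apply]
  have h5 : h u v = h (e u) (e v) + h (u - e u) (v - e v) := by
    calc h u v = h (e u + (u - e u)) (e v + (v - e v)) := by rw [add_sub_cancel, add_sub_cancel]
      _ = h (e u) (e v) + h (e u) (v - e v) + (h (u - e u) (e v) + h (u - e u) (v - e v)) := by
        rw [LinearMap.map_add₂, map_add, map_add]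
      _ = _ := by rw [h3, h4, add_zero, zero_add]
  rw [glue_smul, glue_smul, LinearMap.map_add₂, map_add, map_add, h1, h2, add_zero, zero_add, hg, h5]

/-- `glue` commutes with what commutes with `e` and `g` -/
theorem glue_comm (e : Module.End K W) (he : e * e = e) (g : (Module.End K W)ˣ)
    (hc : (g : Module.End K W) * e = e * g) {m : (Module.End K W)ˣ} (hme : ∀ u, m • e u = e (m • u))
    (hmg : m * g = g * m) : m * glue e he g hc = glue e he g hc * m := by
  refine Units.ext (LinearMap.ext fun u => ?_)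
  change m • glue e he g hc • u = glue e he g hc • m • u
  rw [glue_smul, glue_smul, smul_add, smul_sub, hme, ← mul_smul, hmg, mul_smul, hme]

/-- conjugation of `glue` to its inverse -/
theorem glue_conj_inv (e : Module.End K W) (he : e * e = e) (g : (Module.End K W)ˣ)
    (hc : (g : Module.End K W) * e = e * g) {y : (Module.End K W)ˣ} (hye : ∀ u, y • e u = e (y • u))
    (hyg : y * g * y⁻¹ = g⁻¹) : y * glue e he g hc * y⁻¹ = (glue e he g hc)⁻¹ := by
  rw [eq_comm, inv_eq_iff_mul_eq_one, ← mul_assoc, ← mul_assoc, mul_inv_eq_one]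
  refine Units.ext (LinearMap.ext fun u => ?_)
  change glue e he g hc • y • glue e he g hc • u = y • u
  have hee : ∀ u, e (e u) = e u := fun u => congrArg (fun f : Module.End K W => f u) he
  have hge : ∀ u, e (g • u) = g • e u := fun u => (congrArg (fun f : Module.End K W => f u) hc).symm
  have h1 : e (y • glue e he g hc • u) = y • g • e u := by
    rw [← hye, glue_smul, map_add, map_sub, hee, sub_self, add_zero, hge, hee]
  have h2 : g • y • g • e u = y • e u := by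
    rw [← mul_smul, ← mul_smul]
    have h3 : g * (y * g) = y := by
      have h4 : y * g = g⁻¹ * y := by rw [← hyg]; group
      rw [h4, mul_inv_cancel_left]
    rw [mul_assoc] 
    rw [h3]
  rw [glue_smul e he g hc (y • glue e he g hc • u), h1, h2, glue_smul, smul_add, smul_sub]
  abel

/-- `g = g_a (n g_a n⁻¹)` -/
theorem split_mem {h : LinearMap.BilinForm K W} (h2 : (2 : K) ≠ 0) {a n g y : (Module.End K W)ˣ}
    (ha : a ∈ isoms h) (hn : n ∈ isoms h) (hg : g ∈ isoms h) (hy : y ∈ isoms h) (ha1 : a * a = 1)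
    (han : a * n = -(n * a)) (hga : g * a = a * g) (hgn : g * n = n * g) (hya : y * a = a * y)
    (hyg : y * g * y⁻¹ = g⁻¹) : g ∈ ⁅isoms h, isoms h⁆ := by
  -- the idempotent
  have hin : (2 : K)⁻¹ + (2 : K)⁻¹ = 1 := by
    rw [← two_mul, mul_inv_cancel₀ h2]
  obtain ⟨e, he_def⟩ : ∃ e : Module.End K W, e = (2 : K)⁻¹ • (1 + (a : Module.End K W)) := ⟨_, rfl⟩
  have hea : ∀ u, e u = (2 : K)⁻¹ • (u + a • u) := fun u => by rw [he_def]; rfl
  have haa : ∀ u : W, a • a • u = u := fun u => by rw [← mul_smul, ha1, one_smul]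
  have hsm : ∀ (k : K) (x : (Module.End K W)ˣ) (u : W), x • k • u = k • x • u := fun k x u => smul_comm x k u
  have hhalf : ∀ u : W, (2 : K)⁻¹ • (u + u) = u := fun u => by
    rw [smul_add, ← add_smul, hin, one_smul]
  have hae : ∀ u, a • e u = e u := fun u => by
    rw [hea, hsm, smul_add, haa, add_comm]
  have hee : ∀ u, e (e u) = e u := fun u => by
    rw [hea (e u), hae, hhalf]
  have he : e * e = e := LinearMap.ext hee
  have haadj : ∀ u v, h (a • u) v = h u (a • v) := fun u v => by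
    rw [← ha u (a • v), haa]
  have hadj : ∀ u v, h (e u) v = h u (e v) := fun u v => by
    rw [hea, hea, LinearMap.map_smul, LinearMap.smul_apply, LinearMap.map_smul, map_add, LinearMap.add_apply,
      map_add, haadj]
  have hxe : ∀ x : (Module.End K W)ˣ, x * a = a * x → ∀ u, x • e u = e (x • u) := fun x hx u => by
    rw [hea, hea, hsm, smul_add, ← mul_smul, hx, mul_smul]
  have hce : (g : Module.End K W) * e = e * g := LinearMap.ext (hxe g hga)
  have hne : ∀ u, e (n • u) = n • u - n • e u := fun u => by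
    have h1 : a • n • u = -(n • a • u) := by rw [← mul_smul, han, Units.neg_smul, mul_smul]
    rw [hea, hea, h1, hsm, smul_add, smul_add, smul_add]
    have h3 : n • u = (2 : K)⁻¹ • n • u + (2 : K)⁻¹ • n • u := by rw [← smul_add, hhalf]
    nth_rewrite 2 [h3]
    rw [smul_neg]
    abel
  have key : g = glue e he g hce * (n * glue e he g hce * n⁻¹) := by
    rw [← mul_assoc, ← mul_assoc, eq_mul_inv_iff_mul_eq]
    refine Units.ext (LinearMap.ext fun u => ?_)
    change g • n • u = glue e he g hce • n • glue e he g hce • u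
    have hgn' : ∀ u : W, g • n • u = n • g • u := fun u => by rw [← mul_smul, hgn, mul_smul]
    have h1 : e (n • glue e he g hce • u) = n • (u - e u) := by
      rw [hne, glue_smul, map_add, map_sub, hee, sub_self, add_zero, ← hxe g hga, hee, ← smul_sub]
      congr 1
      abel
    rw [glue_smul e he g hce (n • glue e he g hce • u), h1, glue_smul, hgn', hgn', ← smul_sub, ← smul_add]
    congr 1
    rw [smul_sub]
    abel
  rw [key]
  exact mul_conj_mem (glue_iso he hadj hg hce) hn hy (glue_conj_inv e he g hce (hxe y hya) hyg)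

/-- the reflection `u ↦ u - k h(x, u) x` -/
def rf (h : LinearMap.BilinForm K W) (x : W) (k : K) (hk : k * h x x = 2) : (Module.End K W)ˣ :=
  have hs : (1 - k • rk h x x) * (1 - k • rk h x x) = 1 := by
    refine LinearMap.ext fun u => ?_
    rw [Module.End.mul_apply, Module.End.one_apply, LinearMap.sub_apply, Module.End.one_apply, LinearMap.smul_apply,
      rk_apply, LinearMap.sub_apply, Module.End.one_apply, LinearMap.smul_apply, rk_apply, map_sub,
      LinearMap.map_smul, LinearMap.map_smul, smul_smul, smul_smul, sub_sub, ← add_smul]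
    have h1 : k * h x u + k * (h x u - k • h x u • h x x) = 0 := by
      rw [smul_eq_mul, smul_eq_mul]
      linear_combination (-k * h x u) * hk
    rw [h1, zero_smul, sub_zero]
  ⟨1 - k • rk h x x, 1 - k • rk h x x, hs, hs⟩

theorem rf_smul (h : LinearMap.BilinForm K W) (x : W) (k : K) (hk : k * h x x = 2) (u : W) :
    rf h x k hk • u = u - (k * h x u) • x := by
  change (1 - k • rk h x x) u = _
  rw [LinearMap.sub_apply, Module.End.one_apply, LinearMap.smul_apply, rk_apply, smul_smul]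

theorem rf_inv (h : LinearMap.BilinForm K W) (x : W) (k : K) (hk : k * h x x = 2) :
    (rf h x k hk)⁻¹ = rf h x k hk := Units.ext rfl

theorem rf_iso {h : LinearMap.BilinForm K W} (hs : ∀ u v, h u v = h v u) (x : W) (k : K) (hk : k * h x x = 2) :
    rf h x k hk ∈ isoms h := by
  intro u v
  have h1 : h (u - (k * h x u) • x) (v - (k * h x v) • x) =
      h u v - (k * h x v) * h u x - ((k * h x u) * h x v - (k * h x u) * ((k * h x v) * h x x)) := by
    (simp only [LinearMap.map_sub₂]; rewrite [map_sub]; simp only [map_sub]; rewrite [LinearMap.map_smul₂]; simp only [LinearMap.map_smul₂]; rewrite [LinearMap.map_smul, LinearMap.map_smul])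
    rfl
  rw [rf_smul, rf_smul, h1, hs u x]
  linear_combination (k * h x u * h x v) * hk

theorem rf_conj {h : LinearMap.BilinForm K W} {g : (Module.End K W)ˣ} (hg : g ∈ isoms h) (x x' : W) (k : K)
    (hk : k * h x x = 2) (hx : g • x = x') (hk' : k * h x' x' = 2) :
    g * rf h x k hk * g⁻¹ = rf h x' k hk' := by
  subst hx
  rw [mul_inv_eq_iff_eq_mul]
  refine Units.ext (LinearMap.ext fun u => ?_)
  change g • rf h x k hk • u = rf h (g • x) k hk' • g • u
  rw [rf_smul, rf_smul, hg, smul_sub, smul_comm g]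

end Cfsg.Agent.H527.C3
end

-- part: H527/C3/Com
section
/-!
# S1920, classical groups, section 4: the elements lie in the commutator subgroup (helper527)
-/

set_option autoImplicit false

open Subgroup
open scoped commutatorElement

namespace Cfsg.Agent.H527.C3

variable {K W : Type*} [Field K] [AddCommGroup W] [Module K W]

namespace Full

variable {h : LinearMap.BilinForm K W} {NN : Subgroup (Module.End K W)ˣ} [Fintype ↥NN] {J : (Module.End K W)ˣ}
variable {A : Subgroup (Module.End K W)ˣ} {S : Finset W} {c : (Module.End K W)ˣ → K}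

theorem c_one (F : Full h NN J A S c) : c 1 = 1 := F.cA 1 (one_mem _)

theorem one_ne (F : Full h NN J A S c) : (1 : K) ≠ -1 := by
  intro h1
  apply F.D.two
  linear_combination h1

theorem Tu_comm_one (F : Full h NN J A S c) {m : (Module.End K W)ˣ} (hm : m ∈ NN) (hc : c m = 1) :
    F.Tu * m = m * F.Tu := by
  rcases F.Tu_comm hm with ⟨_, h1⟩ | ⟨h1, _⟩
  · exact h1
  · exact absurd (hc.symm.trans h1) F.one_ne

theorem Tu_J (F : Full h NN J A S c) : F.Tu * J = -(J * F.Tu) := by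
  rcases F.Tu_comm F.D.J_mem with ⟨h1, _⟩ | ⟨_, h1⟩
  · exact absurd (h1.symm.trans F.cJ) F.one_ne
  · exact h1

theorem J_inv (F : Full h NN J A S c) : J⁻¹ = -J := by
  rw [inv_eq_iff_mul_eq_one, mul_neg, F.D.J_sq, neg_neg]

theorem Tu_J_conj (F : Full h NN J A S c) : F.Tu * J * F.Tu⁻¹ = J⁻¹ := by
  rw [F.J_inv, mul_inv_eq_iff_eq_mul, F.Tu_J, neg_mul]

theorem T_E (F : Full h NN J A S c) {v : W} (hv : v ∈ S) (u : W) : F.Tu • F.E v u = F.E v (F.Tu • u) := by
  classical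
  have h1 : F.T * F.E v = F.E v * F.T := by
    refine F.ext fun w hw m hm => ?_
    rw [Module.End.mul_apply, Module.End.mul_apply, F.T_self hw hm, LinearMap.map_smul]
    by_cases hvw : v = w
    · subst hvw
      rw [F.E_self hv hm, F.T_self hv hm]
    · rw [F.E_other hv hw hvw hm, map_zero, smul_zero]
  exact congrArg (fun f : Module.End K W => f u) h1

theorem J_E (F : Full h NN J A S c) (v : W) : (J : Module.End K W) * F.E v = F.E v * J :=
  LinearMap.ext fun u => (F.E_smul v F.D.J_mem u).symm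

/-- `J` on the span of `NN v`, `1` elsewhere -/
noncomputable def jv (F : Full h NN J A S c) {v : W} (hv : v ∈ S) : (Module.End K W)ˣ :=
  glue (F.E v) (F.E_idem hv) J (F.J_E v)

theorem jv_iso (F : Full h NN J A S c) {v : W} (hv : v ∈ S) : F.jv hv ∈ isoms h :=
  glue_iso (F.E_idem hv) (F.E_adj v) (F.D.iso F.D.J_mem) (F.J_E v)

theorem jv_comm (F : Full h NN J A S c) {v : W} (hv : v ∈ S) {m : (Module.End K W)ˣ} (hm : m ∈ NN) :
    m * F.jv hv = F.jv hv * m :=
  glue_comm _ _ _ _ (fun u => (F.E_smul v hm u).symm) (F.D.cen m hm)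

theorem E_v (F : Full h NN J A S c) {v : W} (hv : v ∈ S) : F.E v v = v := by
  have h1 := F.E_self hv (one_mem NN)
  rwa [one_smul] at h1

theorem E_w (F : Full h NN J A S c) {v w : W} (hv : v ∈ S) (hw : w ∈ S) (hvw : v ≠ w) : F.E v w = 0 := by
  have h1 := F.E_other hv hw hvw (one_mem NN)
  rwa [one_smul] at h1

theorem jv_self (F : Full h NN J A S c) {v : W} (hv : v ∈ S) : F.jv hv • v = J • v :=
  glue_img _ _ _ _ (F.E_v hv)

theorem jv_Jself (F : Full h NN J A S c) {v : W} (hv : v ∈ S) : F.jv hv • J • v = -v :=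
  (glue_img _ _ _ _ (F.E_self hv F.D.J_mem)).trans (F.D.JJ v)

theorem jv_other (F : Full h NN J A S c) {v w : W} (hv : v ∈ S) (hw : w ∈ S) (hvw : v ≠ w) : F.jv hv • w = w :=
  glue_ker _ _ _ _ (F.E_w hv hw hvw)

theorem jv_Jother (F : Full h NN J A S c) {v w : W} (hv : v ∈ S) (hw : w ∈ S) (hvw : v ≠ w) :
    F.jv hv • J • w = J • w :=
  glue_ker _ _ _ _ (F.E_other hv hw hvw F.D.J_mem)

theorem jv_conj (F : Full h NN J A S c) {v : W} (hv : v ∈ S) : F.Tu * F.jv hv * F.Tu⁻¹ = (F.jv hv)⁻¹ :=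
  glue_conj_inv _ _ _ _ (F.T_E hv) F.Tu_J_conj

theorem jv_sq_mem (F : Full h NN J A S c) {v : W} (hv : v ∈ S) : F.jv hv * F.jv hv ∈ ⁅isoms h, isoms h⁆ :=
  sq_mem (F.jv_iso hv) F.Tu_iso (F.jv_conj hv)

theorem jv_jv (F : Full h NN J A S c) {v w : W} (hv : v ∈ S) (hw : w ∈ S) : F.jv hv * F.jv hw = F.jv hw * F.jv hv := by
  classical
  by_cases hvw : v = w
  · subst hvw; rfl
  refine glue_comm _ _ _ _ (fun u => ?_) (F.jv_comm hv F.D.J_mem).symm
  have h1 : F.E v * F.E w = F.E w * F.E v := by rw [F.E_orth hv hw hvw, F.E_orth hw hv (Ne.symm hvw)]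
  have h2 : ∀ x : W, F.E v (F.E w x) = F.E w (F.E v x) := fun x => congrArg (fun f : Module.End K W => f x) h1
  rw [jv, glue_smul, glue_smul, map_add, map_sub, F.E_smul w F.D.J_mem, h2]

/-- an involution `a` of `A`, anticommuting with some `n` -/
theorem exists_anti (F : Full h NN J A S c) (hnc : ∃ n ∈ NN, n ∉ A) :
    ∃ n ∈ NN, ∃ a ∈ Dat.inv1 F.M, a * n = -(n * a) ∧ c n = 1 := by
  obtain ⟨n, hn, hnA⟩ := hnc
  obtain ⟨a, ha, ha1, han⟩ := F.D.anti F.M hn hnA
  rcases F.sg.val n hn with h1 | h1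
  · exact ⟨n, hn, a, ⟨ha, ha1⟩, han, h1⟩
  · refine ⟨J * n, mul_mem F.D.J_mem hn, a, ⟨ha, ha1⟩, ?_, ?_⟩
    · rw [← mul_assoc, F.M.comm a ha J F.M.J_mem, mul_assoc, han, mul_neg, mul_assoc]
    · rw [F.sg.mul J F.D.J_mem n hn, F.cJ, h1]; ring

theorem jv_mem (F : Full h NN J A S c) (hnc : ∃ n ∈ NN, n ∉ A) {v : W} (hv : v ∈ S) :
    F.jv hv ∈ ⁅isoms h, isoms h⁆ := by
  obtain ⟨n, hn, a, ha, han, -⟩ := F.exists_anti hnc
  exact split_mem F.D.two (F.D.iso (F.M.le ha.1)) (F.D.iso hn) (F.jv_iso hv) F.Tu_iso ha.2 han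
    (F.jv_comm hv (F.M.le ha.1)).symm (F.jv_comm hv hn).symm (F.Tu_comm_one (F.M.le ha.1) (F.cA a ha)) (F.jv_conj hv)

theorem Tu_inv (F : Full h NN J A S c) : F.Tu⁻¹ = F.Tu := by
  rw [inv_eq_iff_mul_eq_one, F.Tu_sq]

theorem Tu_mem (F : Full h NN J A S c) (hnc : ∃ n ∈ NN, n ∉ A) : F.Tu ∈ ⁅isoms h, isoms h⁆ := by
  obtain ⟨n, hn, a, ha, han, hcn⟩ := F.exists_anti hnc
  refine split_mem F.D.two (F.D.iso (F.M.le ha.1)) (F.D.iso hn) F.Tu_iso (one_mem _) ha.2 han
    (F.Tu_comm_one (F.M.le ha.1) (F.cA a ha)) (F.Tu_comm_one hn hcn) ?_ ?_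
  · rw [one_mul, mul_one]
  · rw [one_mul, inv_one, mul_one, F.Tu_inv]

/-! ### the rotation -/

theorem Tu_Ru (F : Full h NN J A S c) {v₁ v₂ : W} (X : F.Two v₁ v₂) : F.Tu * F.Ru X = F.Ru X * F.Tu := by
  refine Units.ext (F.ext fun w hw m hm => ?_)
  change F.T (F.R v₁ v₂ (m • w)) = F.R v₁ v₂ (F.T (m • w))
  rw [F.T_self hw hm, LinearMap.map_smul]
  rcases X.all w hw with rfl | rfl
  · rw [F.R_one X.m1 X.m2 X.ne X.same hm, F.T_self X.m2 hm]
  · rw [F.R_two X.m1 X.m2 X.ne X.same hm, map_neg, F.T_self X.m1 hm, smul_neg]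

theorem Ru_sq (F : Full h NN J A S c) {v₁ v₂ : W} (X : F.Two v₁ v₂) : F.Ru X * F.Ru X = -1 := by
  refine Units.ext ?_
  change F.R v₁ v₂ * F.R v₁ v₂ = -1
  exact F.R_sq X

theorem TR_sq (F : Full h NN J A S c) {v₁ v₂ : W} (X : F.Two v₁ v₂) :
    F.Tu * F.Ru X * (F.Tu * F.Ru X) = -1 := by
  calc F.Tu * F.Ru X * (F.Tu * F.Ru X) = F.Tu * (F.Ru X * F.Tu) * F.Ru X := by group
    _ = F.Tu * (F.Tu * F.Ru X) * F.Ru X := by rw [F.Tu_Ru X]
    _ = (F.Tu * F.Tu) * (F.Ru X * F.Ru X) := by group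
    _ = -1 := by rw [F.Tu_sq, F.Ru_sq X, one_mul]

theorem TR_J (F : Full h NN J A S c) {v₁ v₂ : W} (X : F.Two v₁ v₂) :
    F.Tu * F.Ru X * J = -(J * (F.Tu * F.Ru X)) := by
  rw [mul_assoc, F.Ru_comm X F.D.J_mem, ← mul_assoc, F.Tu_J, neg_mul, mul_assoc]

theorem TR_comm (F : Full h NN J A S c) {v₁ v₂ : W} (X : F.Two v₁ v₂) {m : (Module.End K W)ˣ} (hm : m ∈ NN) :
    (c m = 1 ∧ F.Tu * F.Ru X * m = m * (F.Tu * F.Ru X)) ∨ (c m = -1 ∧ F.Tu * F.Ru X * m = -(m * (F.Tu * F.Ru X))) := by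
  rcases F.Tu_comm hm with ⟨h0, h1⟩ | ⟨h0, h1⟩
  · left
    exact ⟨h0, by rw [mul_assoc, F.Ru_comm X hm, ← mul_assoc, h1, mul_assoc]⟩
  · right
    exact ⟨h0, by rw [mul_assoc, F.Ru_comm X hm, ← mul_assoc, h1, neg_mul, mul_assoc]⟩

theorem TR_comm_one (F : Full h NN J A S c) {v₁ v₂ : W} (X : F.Two v₁ v₂) {m : (Module.End K W)ˣ} (hm : m ∈ NN)
    (hc : c m = 1) : F.Tu * F.Ru X * m = m * (F.Tu * F.Ru X) := by
  rcases F.TR_comm X hm with ⟨_, h1⟩ | ⟨h1, _⟩
  · exact h1
  · exact absurd (hc.symm.trans h1) F.one_ne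

theorem TR_mem (F : Full h NN J A S c) (hnc : ∃ n ∈ NN, n ∉ A) {v₁ v₂ : W} (X : F.Two v₁ v₂) :
    F.Tu * F.Ru X ∈ ⁅isoms h, isoms h⁆ := by
  obtain ⟨n, hn, a, ha, han, hcn⟩ := F.exists_anti hnc
  refine split_mem F.D.two (F.D.iso (F.M.le ha.1)) (F.D.iso hn) (mul_mem F.Tu_iso (F.Ru_iso X)) (F.D.iso F.D.J_mem)
    ha.2 han (F.TR_comm_one X (F.M.le ha.1) (F.cA a ha)) (F.TR_comm_one X hn hcn) ?_ ?_
  · exact (F.M.comm J F.M.J_mem a ha.1)
  · have h1 : (F.Tu * F.Ru X)⁻¹ = -(F.Tu * F.Ru X) := by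
      rw [inv_eq_iff_mul_eq_one, mul_neg, F.TR_sq X, neg_neg]
    rw [h1, mul_inv_eq_iff_eq_mul, neg_mul, F.TR_J X, neg_neg]

/-- the twisted rotation commutes with perfect subgroups of the centralizer -/
theorem perfect_comm (F : Full h NN J A S c) {v₁ v₂ : W} (X : F.Two v₁ v₂) {EE : Subgroup (Module.End K W)ˣ}
    (hp : ⁅EE, EE⁆ = EE) (hE : EE ≤ cen h NN) : ∀ g ∈ EE, g * (F.Tu * F.Ru X) = F.Tu * F.Ru X * g := by
  have key : ∀ g ∈ EE, ∃ x y : K, ∀ u : W, g • F.T (F.R v₁ v₂ u) =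
      x • F.T (F.R v₁ v₂ (g • u)) + y • J • F.T (F.R v₁ v₂ (g • u)) := fun g hg => F.twist X (hE hg)
  have hgJ : ∀ g ∈ EE, ∀ u : W, g • J • u = J • g • u := fun g hg u => by
    rw [← mul_smul, ← (mem_cen.1 (hE hg)).2 J F.D.J_mem, mul_smul]
  have hJc : ∀ (g : (Module.End K W)ˣ) (k : K) (u : W), g • k • u = k • g • u := fun g k u => smul_comm g k u
  have h1 : ∀ g ∈ EE, ∀ g' ∈ EE, ∀ u : W, (g' * g) • F.T (F.R v₁ v₂ ((g' * g)⁻¹ • u)) =
      (g * g') • F.T (F.R v₁ v₂ ((g * g')⁻¹ • u)) := by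
    intro g hg g' hg' u
    obtain ⟨x, y, hxy⟩ := key g hg
    obtain ⟨x', y', hxy'⟩ := key g' hg'
    have e1 : ∀ w : W, (g' * g) • F.T (F.R v₁ v₂ w) =
        x • (x' • F.T (F.R v₁ v₂ ((g' * g) • w)) + y' • J • F.T (F.R v₁ v₂ ((g' * g) • w))) +
        y • J • (x' • F.T (F.R v₁ v₂ ((g' * g) • w)) + y' • J • F.T (F.R v₁ v₂ ((g' * g) • w))) := by
      intro w
      rw [mul_smul, hxy, smul_add, hJc g', hJc g', hgJ g' hg', hxy', mul_smul]
    have e2 : ∀ w : W, (g * g') • F.T (F.R v₁ v₂ w) =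
        x' • (x • F.T (F.R v₁ v₂ ((g * g') • w)) + y • J • F.T (F.R v₁ v₂ ((g * g') • w))) +
        y' • J • (x • F.T (F.R v₁ v₂ ((g * g') • w)) + y • J • F.T (F.R v₁ v₂ ((g * g') • w))) := by
      intro w
      rw [mul_smul, hxy', smul_add, hJc g, hJc g, hgJ g hg, hxy, mul_smul]
    rw [e1, e2, smul_inv_smul, smul_inv_smul]
    generalize F.T (F.R v₁ v₂ u) = z
    simp only [smul_add, smul_smul, hJc]
    rw [mul_comm x x', mul_comm x y', mul_comm y x', mul_comm y y']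
    abel
  have h2 : ∀ g ∈ EE, ∀ g' ∈ EE, ⁅g', g⁆ * (F.Tu * F.Ru X) = F.Tu * F.Ru X * ⁅g', g⁆ := by
    intro g hg g' hg'
    have h3 : (g'⁻¹ * g⁻¹) * (F.Tu * F.Ru X) * (g'⁻¹ * g⁻¹)⁻¹ = (g⁻¹ * g'⁻¹) * (F.Tu * F.Ru X) * (g⁻¹ * g'⁻¹)⁻¹ :=
      Units.ext (LinearMap.ext fun u => h1 g⁻¹ (inv_mem hg) g'⁻¹ (inv_mem hg') u)
    rw [commutatorElement_def]
    calc g' * g * g'⁻¹ * g⁻¹ * (F.Tu * F.Ru X)
        = g' * g * ((g'⁻¹ * g⁻¹) * (F.Tu * F.Ru X) * (g'⁻¹ * g⁻¹)⁻¹) * (g'⁻¹ * g⁻¹) := by group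
      _ = g' * g * ((g⁻¹ * g'⁻¹) * (F.Tu * F.Ru X) * (g⁻¹ * g'⁻¹)⁻¹) * (g'⁻¹ * g⁻¹) := by rw [h3]
      _ = F.Tu * F.Ru X * (g' * g * g'⁻¹ * g⁻¹) := by group
  have h4 : ⁅EE, EE⁆ ≤ centralizer ({F.Tu * F.Ru X} : Set (Module.End K W)ˣ) := by
    rw [commutator_le]
    intro a ha b hb
    rw [mem_centralizer_singleton_iff]
    exact h2 b hb a ha
  intro g hg
  rw [← hp] at hg
  exact mem_centralizer_singleton_iff.1 (h4 hg)

end Full

end Cfsg.Agent.H527.C3
end

-- part: H527/C3/Ab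
section
/-!
# S1920, classical groups, section 4: the case `NN` commutative (helper527)
-/

set_option autoImplicit false

open Subgroup
open scoped commutatorElement

namespace Cfsg.Agent.H527.C3

variable {K W : Type*} [Field K] [AddCommGroup W] [Module K W]

namespace Full

variable {h : LinearMap.BilinForm K W} {NN : Subgroup (Module.End K W)ˣ} [Fintype ↥NN] {J : (Module.End K W)ˣ}
variable {A : Subgroup (Module.End K W)ˣ} {S : Finset W} {c : (Module.End K W)ˣ → K}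

theorem smul_cases (F : Full h NN J A S c) (hcm : ∀ n ∈ NN, n ∈ A) {v : W} (hv : v ∈ S) {m : (Module.End K W)ˣ}
    (hm : m ∈ NN) : m • v = v ∨ m • v = -v ∨ m • v = J • v ∨ m • v = -(J • v) := by
  have hA := hcm m hm
  rcases F.D.sq m hm with h1 | h1
  · rcases F.Y.eig v hv m hA h1 with h2 | h2
    · exact Or.inl h2
    · exact Or.inr (Or.inl h2)
  · have h3 : (J * m) * (J * m) = 1 := by
      calc J * m * (J * m) = J * (m * J) * m := by group
        _ = J * (J * m) * m := by rw [F.M.comm m hA J F.M.J_mem]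
        _ = (J * J) * (m * m) := by group
        _ = 1 := by rw [F.D.J_sq, h1]; simp
    have h7 : ∀ y : W, (J * m) • v = y → m • v = -(J • y) := by
      intro y hy
      rw [← hy, mul_smul, F.D.JJ, neg_neg]
    rcases F.Y.eig v hv (J * m) (mul_mem F.M.J_mem hA) h3 with h4 | h4
    · exact Or.inr (Or.inr (Or.inr (h7 _ h4)))
    · refine Or.inr (Or.inr (Or.inl ?_))
      rw [h7 _ h4, smul_neg, neg_neg]

/-- two linear maps which agree on all `v` and `J v` are equal -/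
theorem ext2 (F : Full h NN J A S c) (hcm : ∀ n ∈ NN, n ∈ A) {f g : (Module.End K W)ˣ}
    (h1 : ∀ v ∈ S, f • v = g • v) (h2 : ∀ v ∈ S, f • J • v = g • J • v) : f = g := by
  refine Units.ext (F.ext fun v hv m hm => ?_)
  change f • m • v = g • m • v
  rcases F.smul_cases hcm hv hm with h3 | h3 | h3 | h3
  · rw [h3, h1 v hv]
  · rw [h3, smul_neg, smul_neg, h1 v hv]
  · rw [h3, h2 v hv]
  · rw [h3, smul_neg, smul_neg, h2 v hv]

theorem o1 (F : Full h NN J A S c) {v : W} (hv : v ∈ S) : h v v = 1 := F.Y.one v hv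
theorem o2 (F : Full h NN J A S c) (v : W) : h (J • v) v = 0 := F.D.hJ_self v
theorem o3 (F : Full h NN J A S c) (v : W) : h v (J • v) = 0 := by rw [F.D.sym]; exact F.D.hJ_self v
theorem o4 (F : Full h NN J A S c) {v : W} (hv : v ∈ S) : h (J • v) (J • v) = 1 := by rw [F.D.hJ]; exact F.o1 hv
theorem p1 (F : Full h NN J A S c) {v w : W} (hv : v ∈ S) (hw : w ∈ S) (hvw : v ≠ w) : h v w = 0 := by
  have := F.Y.orth v hv w hw hvw 1 (one_mem NN)
  rwa [one_smul] at this
theorem p2 (F : Full h NN J A S c) {v w : W} (hv : v ∈ S) (hw : w ∈ S) (hvw : v ≠ w) : h (J • v) w = 0 :=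
  F.Y.orth v hv w hw hvw J F.D.J_mem
theorem p3 (F : Full h NN J A S c) {v w : W} (hv : v ∈ S) (hw : w ∈ S) (hvw : v ≠ w) : h v (J • w) = 0 := by
  rw [F.D.sym]; exact F.p2 hw hv (Ne.symm hvw)
theorem p4 (F : Full h NN J A S c) {v w : W} (hv : v ∈ S) (hw : w ∈ S) (hvw : v ≠ w) : h (J • v) (J • w) = 0 := by
  rw [F.D.hJ]; exact F.p1 hv hw hvw

theorem n1 (F : Full h NN J A S c) {v : W} (hv : v ∈ S) : (2 : K) * h v v = 2 := by rw [F.o1 hv, mul_one]
theorem n1' (F : Full h NN J A S c) {v : W} (hv : v ∈ S) : (2 : K) * h (J • v) (J • v) = 2 := by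
  rw [F.o4 hv, mul_one]
theorem n2 (F : Full h NN J A S c) {v w : W} (hv : v ∈ S) (hw : w ∈ S) (hvw : v ≠ w) :
    (1 : K) * h (v - w) (v - w) = 2 := by
  rw [LinearMap.map_sub₂, map_sub, map_sub, F.o1 hv, F.o1 hw, F.p1 hv hw hvw, F.p1 hw hv (Ne.symm hvw)]; ring
theorem n2' (F : Full h NN J A S c) {v w : W} (hv : v ∈ S) (hw : w ∈ S) (hvw : v ≠ w) :
    (1 : K) * h (J • v - J • w) (J • v - J • w) = 2 := by
  rw [LinearMap.map_sub₂, map_sub, map_sub, F.o4 hv, F.o4 hw, F.p4 hv hw hvw, F.p4 hw hv (Ne.symm hvw)]; ring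

/-- the swap `v ↔ w`, `J v ↔ J w` -/
def sw (F : Full h NN J A S c) {v w : W} (hv : v ∈ S) (hw : w ∈ S) (hvw : v ≠ w) : (Module.End K W)ˣ :=
  rf h (v - w) 1 (F.n2 hv hw hvw) * rf h (J • v - J • w) 1 (F.n2' hv hw hvw)

theorem sw_iso (F : Full h NN J A S c) {v w : W} (hv : v ∈ S) (hw : w ∈ S) (hvw : v ≠ w) :
    F.sw hv hw hvw ∈ isoms h := mul_mem (rf_iso F.D.sym _ _ _) (rf_iso F.D.sym _ _ _)

theorem sw_v (F : Full h NN J A S c) {v w : W} (hv : v ∈ S) (hw : w ∈ S) (hvw : v ≠ w) :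
    F.sw hv hw hvw • v = w := by
  have e1 : rf h (J • v - J • w) 1 (F.n2' hv hw hvw) • v = v := by
    rw [rf_smul, LinearMap.map_sub₂, F.o2, F.p2 hw hv (Ne.symm hvw)]; simp
  rw [sw, mul_smul, e1, rf_smul, LinearMap.map_sub₂, F.o1 hv, F.p1 hw hv (Ne.symm hvw)]; simp

theorem sw_w (F : Full h NN J A S c) {v w : W} (hv : v ∈ S) (hw : w ∈ S) (hvw : v ≠ w) :
    F.sw hv hw hvw • w = v := by
  have e1 : rf h (J • v - J • w) 1 (F.n2' hv hw hvw) • w = w := by
    rw [rf_smul, LinearMap.map_sub₂, F.o2, F.p2 hv hw hvw]; simp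
  rw [sw, mul_smul, e1, rf_smul, LinearMap.map_sub₂, F.o1 hw, F.p1 hv hw hvw]; simp

theorem sw_Jv (F : Full h NN J A S c) {v w : W} (hv : v ∈ S) (hw : w ∈ S) (hvw : v ≠ w) :
    F.sw hv hw hvw • J • v = J • w := by
  have e1 : rf h (J • v - J • w) 1 (F.n2' hv hw hvw) • J • v = J • w := by
    rw [rf_smul, LinearMap.map_sub₂, F.o4 hv, F.p4 hw hv (Ne.symm hvw)]; simp
  rw [sw, mul_smul, e1, rf_smul, LinearMap.map_sub₂, F.o3, F.p3 hv hw hvw]; simp

theorem sw_Jw (F : Full h NN J A S c) {v w : W} (hv : v ∈ S) (hw : w ∈ S) (hvw : v ≠ w) :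
    F.sw hv hw hvw • J • w = J • v := by
  have e1 : rf h (J • v - J • w) 1 (F.n2' hv hw hvw) • J • w = J • v := by
    rw [rf_smul, LinearMap.map_sub₂, F.o4 hw, F.p4 hv hw hvw]; simp
  rw [sw, mul_smul, e1, rf_smul, LinearMap.map_sub₂, F.o3, F.p3 hw hv (Ne.symm hvw)]; simp

theorem sw_x (F : Full h NN J A S c) {v w x : W} (hv : v ∈ S) (hw : w ∈ S) (hvw : v ≠ w) (hx : x ∈ S)
    (hxv : v ≠ x) (hxw : w ≠ x) : F.sw hv hw hvw • x = x := by
  have e1 : rf h (J • v - J • w) 1 (F.n2' hv hw hvw) • x = x := by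
    rw [rf_smul, LinearMap.map_sub₂, F.p2 hv hx hxv, F.p2 hw hx hxw]; simp
  rw [sw, mul_smul, e1, rf_smul, LinearMap.map_sub₂, F.p1 hv hx hxv, F.p1 hw hx hxw]; simp

theorem sw_Jx (F : Full h NN J A S c) {v w x : W} (hv : v ∈ S) (hw : w ∈ S) (hvw : v ≠ w) (hx : x ∈ S)
    (hxv : v ≠ x) (hxw : w ≠ x) : F.sw hv hw hvw • J • x = J • x := by
  have e1 : rf h (J • v - J • w) 1 (F.n2' hv hw hvw) • J • x = J • x := by
    rw [rf_smul, LinearMap.map_sub₂, F.p4 hv hx hxv, F.p4 hw hx hxw]; simp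
  rw [sw, mul_smul, e1, rf_smul, LinearMap.map_sub₂, F.p3 hv hx hxv, F.p3 hw hx hxw]; simp

theorem jv_sw (F : Full h NN J A S c) (hcm : ∀ n ∈ NN, n ∈ A) {v w : W} (hv : v ∈ S) (hw : w ∈ S) (hvw : v ≠ w) :
    F.sw hv hw hvw * F.jv hv * (F.sw hv hw hvw)⁻¹ = F.jv hw := by
  classical
  rw [mul_inv_eq_iff_eq_mul]
  refine F.ext2 hcm (fun x hx => ?_) fun x hx => ?_
  · rw [mul_smul, mul_smul]
    by_cases h1 : v = x
    · subst h1
      rw [F.jv_self, F.sw_Jv, F.sw_v, F.jv_self]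
    · by_cases h2 : w = x
      · subst h2
        rw [F.jv_other hv hw h1, F.sw_w, F.jv_other hw hv (Ne.symm hvw)]
      · rw [F.jv_other hv hx h1, F.sw_x hv hw hvw hx h1 h2, F.jv_other hw hx h2]
  · rw [mul_smul, mul_smul]
    by_cases h1 : v = x
    · subst h1
      rw [F.jv_Jself, F.sw_Jv, F.jv_Jself, smul_neg, F.sw_v]
    · by_cases h2 : w = x
      · subst h2
        rw [F.jv_Jother hv hw h1, F.sw_Jw, F.jv_Jother hw hv (Ne.symm hvw)]
      · rw [F.jv_Jother hv hx h1, F.sw_Jx hv hw hvw hx h1 h2, F.jv_Jother hw hx h2]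

/-- `j_v j_w ∈ ⁅I, I⁆` -/
theorem jv_jv_mem (F : Full h NN J A S c) {v w : W} (hv : v ∈ S) (hw : w ∈ S) :
    F.jv hv * F.jv hw ∈ ⁅isoms h, isoms h⁆ := by
  classical
  by_cases hvw : v = w
  · subst hvw
    exact F.jv_sq_mem hv
  by_cases hcm : ∀ n ∈ NN, n ∈ A
  · rw [← F.jv_sw hcm hv hw hvw]
    exact mul_conj_mem (F.jv_iso hv) (F.sw_iso hv hw hvw) F.Tu_iso (F.jv_conj hv)
  · push Not at hcm
    exact mul_mem (F.jv_mem hcm hv) (F.jv_mem hcm hw)

theorem T_v (F : Full h NN J A S c) {v : W} (hv : v ∈ S) : F.Tu • v = v := by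
  have h2 := F.T_self hv (one_mem NN)
  rw [one_smul, F.c_one, one_smul] at h2
  exact h2

theorem T_Jv (F : Full h NN J A S c) {v : W} (hv : v ∈ S) : F.Tu • J • v = -(J • v) := by
  have h2 := F.T_self hv F.D.J_mem
  rw [F.cJ, neg_smul, one_smul] at h2
  exact h2

/-- `T ∈ ⁅I, I⁆` if `NN` is commutative and `|S| = 2` -/
theorem Tu_mem_two (F : Full h NN J A S c) (hcm : ∀ n ∈ NN, n ∈ A) {v w : W} (hv : v ∈ S) (hw : w ∈ S) (hvw : v ≠ w)
    (hall : ∀ x ∈ S, x = v ∨ x = w) : F.Tu ∈ ⁅isoms h, isoms h⁆ := by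
  have e1 : F.Tu = rf h (J • v) 2 (F.n1' hv) * (F.sw hv hw hvw * rf h (J • v) 2 (F.n1' hv) * (F.sw hv hw hvw)⁻¹) := by
    rw [rf_conj (F.sw_iso hv hw hvw) (J • v) (J • w) 2 (F.n1' hv) (F.sw_Jv hv hw hvw) (F.n1' hw)]
    have a1 : rf h (J • w) 2 (F.n1' hw) • v = v := by
      rw [rf_smul, F.p2 hw hv (Ne.symm hvw), mul_zero, zero_smul, sub_zero]
    have a2 : rf h (J • v) 2 (F.n1' hv) • v = v := by
      rw [rf_smul, F.o2, mul_zero, zero_smul, sub_zero]
    have a3 : rf h (J • w) 2 (F.n1' hw) • w = w := by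
      rw [rf_smul, F.o2, mul_zero, zero_smul, sub_zero]
    have a4 : rf h (J • v) 2 (F.n1' hv) • w = w := by
      rw [rf_smul, F.p2 hv hw hvw, mul_zero, zero_smul, sub_zero]
    have b1 : rf h (J • w) 2 (F.n1' hw) • J • v = J • v := by
      rw [rf_smul, F.p4 hw hv (Ne.symm hvw), mul_zero, zero_smul, sub_zero]
    have b2 : rf h (J • v) 2 (F.n1' hv) • J • v = -(J • v) := by
      rw [rf_smul, F.o4 hv, mul_one, two_smul]; abel
    have b3 : rf h (J • w) 2 (F.n1' hw) • J • w = -(J • w) := by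
      rw [rf_smul, F.o4 hw, mul_one, two_smul]; abel
    have b4 : rf h (J • v) 2 (F.n1' hv) • J • w = J • w := by
      rw [rf_smul, F.p4 hv hw hvw, mul_zero, zero_smul, sub_zero]
    refine F.ext2 hcm (fun x hx => ?_) fun x hx => ?_
    · rw [mul_smul, F.T_v hx]
      rcases hall x hx with h1 | h1
      · rw [h1, a1, a2]
      · rw [h1, a3, a4]
    · rw [mul_smul, F.T_Jv hx]
      rcases hall x hx with h1 | h1
      · rw [h1, b1, b2]
      · rw [h1, b3, smul_neg, b4]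
  rw [e1]
  refine mul_conj_mem (rf_iso F.D.sym _ _ _) (F.sw_iso hv hw hvw) (one_mem _) ?_
  rw [one_mul, inv_one, mul_one, rf_inv]

/-- `T R ∈ ⁅I, I⁆` if `NN` is commutative -/
theorem TR_mem_two (F : Full h NN J A S c) (hcm : ∀ n ∈ NN, n ∈ A) {v w : W} (X : F.Two v w) :
    F.Tu * F.Ru X ∈ ⁅isoms h, isoms h⁆ := by
  have hv := X.m1
  have hw := X.m2
  have hvw := X.ne
  obtain ⟨g, hg⟩ : ∃ g : (Module.End K W)ˣ, g = rf h v 2 (F.n1 hv) * rf h (v - w) 1 (F.n2 hv hw hvw) := ⟨_, rfl⟩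
  have hgi : g ∈ isoms h := by rw [hg]; exact mul_mem (rf_iso F.D.sym _ _ _) (rf_iso F.D.sym _ _ _)
  have g1 : g • v = w := by
    have e1 : rf h (v - w) 1 (F.n2 hv hw hvw) • v = w := by
      rw [rf_smul, LinearMap.map_sub₂, F.o1 hv, F.p1 hw hv (Ne.symm hvw)]; simp
    rw [hg, mul_smul, e1, rf_smul, F.p1 hv hw hvw, mul_zero, zero_smul, sub_zero]
  have g2 : g • w = -v := by
    have e1 : rf h (v - w) 1 (F.n2 hv hw hvw) • w = v := by
      rw [rf_smul, LinearMap.map_sub₂, F.o1 hw, F.p1 hv hw hvw]; simp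
    rw [hg, mul_smul, e1, rf_smul, F.o1 hv, mul_one, two_smul]; abel
  have g3 : g • J • v = J • v := by
    have e1 : rf h (v - w) 1 (F.n2 hv hw hvw) • J • v = J • v := by
      rw [rf_smul, LinearMap.map_sub₂, F.o3, F.p3 hw hv (Ne.symm hvw)]; simp
    rw [hg, mul_smul, e1, rf_smul, F.o3, mul_zero, zero_smul, sub_zero]
  have g4 : g • J • w = J • w := by
    have e1 : rf h (v - w) 1 (F.n2 hv hw hvw) • J • w = J • w := by
      rw [rf_smul, LinearMap.map_sub₂, F.o3, F.p3 hv hw hvw]; simp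
    rw [hg, mul_smul, e1, rf_smul, F.p3 hv hw hvw, mul_zero, zero_smul, sub_zero]
  have k1 : g⁻¹ • v = -w := by rw [inv_smul_eq_iff, smul_neg, g2, neg_neg]
  have k2 : g⁻¹ • w = v := by rw [inv_smul_eq_iff, g1]
  have k3 : g⁻¹ • J • v = J • v := by rw [inv_smul_eq_iff, g3]
  have k4 : g⁻¹ • J • w = J • w := by rw [inv_smul_eq_iff, g4]
  have r1 : F.Ru X • v = w := by
    have := F.R_one X.m1 X.m2 X.ne X.same (one_mem NN)
    rwa [one_smul, one_smul] at this
  have r2 : F.Ru X • w = -v := by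
    have := F.R_two X.m1 X.m2 X.ne X.same (one_mem NN)
    rwa [one_smul, one_smul] at this
  have r3 : F.Ru X • J • v = J • w := F.R_one X.m1 X.m2 X.ne X.same F.D.J_mem
  have r4 : F.Ru X • J • w = -(J • v) := F.R_two X.m1 X.m2 X.ne X.same F.D.J_mem
  have hJi : ∀ u : W, J⁻¹ • u = -(J • u) := fun u => by rw [inv_smul_eq_iff, smul_neg, F.D.JJ, neg_neg]
  have key : F.Tu * F.Ru X = ⁅g, J⁆ := by
    rw [commutatorElement_def]
    refine F.ext2 hcm (fun x hx => ?_) fun x hx => ?_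
    · simp only [mul_smul]
      rcases X.all x hx with rfl | rfl
      · rw [r1, F.T_v hw, hJi, smul_neg, k3, smul_neg, F.D.JJ, neg_neg, g1]
      · rw [r2, smul_neg, F.T_v hv, hJi, smul_neg, k4, smul_neg, F.D.JJ, neg_neg, g2]
    · simp only [mul_smul]
      rcases X.all x hx with rfl | rfl
      · rw [r3, F.T_Jv hw, hJi, F.D.JJ, neg_neg, k1, smul_neg, smul_neg, g4]
      · rw [r4, smul_neg, F.T_Jv hv, neg_neg, hJi, F.D.JJ, neg_neg, k2, g3]
  rw [key]
  exact commutator_mem_commutator hgi (F.D.iso F.D.J_mem)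

end Full

end Cfsg.Agent.H527.C3
end

-- part: H527/C3/Str
section
/-!
# S1920, classical groups, section 4: the structure lemma (helper527)

`structure_sym` : `h` symmetric non-degenerate, `NN` a finite group of isometries with squares and commutators `± 1`,
`J ∈ NN` central, `J² = -1`, `EE` a perfect group of isometries commuting with `NN`.  Then either there are three
planes (`Three`) or an isometry `t` with `t J = - J t`, `t n = ± n t`, commuting with `EE`.
-/

set_option autoImplicit false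

open Subgroup
open scoped commutatorElement

namespace Cfsg.Agent.H527.C3

variable {K W : Type*} [Field K] [AddCommGroup W] [Module K W]

/-- three planes -/
structure Three (h : LinearMap.BilinForm K W) (NN : Subgroup (Module.End K W)ˣ) (J : (Module.End K W)ˣ)
    (v : Fin 3 → W) (j : Fin 3 → (Module.End K W)ˣ) : Prop where
  iso : ∀ k, j k ∈ isoms h
  nn : ∀ k, ∀ n ∈ NN, n * j k = j k * n
  comm : ∀ k i, j k * j i = j i * j k
  norm : ∀ k, h (v k) (v k) = 1
  self : ∀ k, j k • v k = J • v k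
  selfJ : ∀ k, j k • J • v k = -v k
  other : ∀ k i, k ≠ i → j k • v i = v i
  otherJ : ∀ k i, k ≠ i → j k • J • v i = J • v i
  four : ∀ k, j k ^ 4 = 1
  mem2 : ∀ k i, j k * j i ∈ ⁅isoms h, isoms h⁆
  mem1 : (∃ n ∈ NN, ∃ m ∈ NN, n * m ≠ m * n) → ∀ k, j k ∈ ⁅isoms h, isoms h⁆

/-- the twisting isometry -/
structure Tw (h : LinearMap.BilinForm K W) (NN EE : Subgroup (Module.End K W)ˣ) (J t : (Module.End K W)ˣ) : Prop where
  iso : t ∈ isoms h
  antiJ : t * J = -(J * t)
  nn : ∀ n ∈ NN, t * n = n * t ∨ t * n = -(n * t)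
  ee : ∀ g ∈ EE, g * t = t * g
  mem : t ∈ ⁅isoms h, isoms h⁆ ∨
    ((∀ n ∈ NN, ∀ m ∈ NN, n * m = m * n) ∧ EE = ⊥ ∧ ∃ v : W, h v v = 1 ∧ ∀ u : W, ∃ x y : K, u = x • v + y • J • v)

namespace Full

variable {h : LinearMap.BilinForm K W} {NN : Subgroup (Module.End K W)ˣ} [Fintype ↥NN] {J : (Module.End K W)ˣ}
variable {A : Subgroup (Module.End K W)ˣ} {S : Finset W} {c : (Module.End K W)ˣ → K}

theorem jv_four (F : Full h NN J A S c) {v : W} (hv : v ∈ S) : F.jv hv ^ 4 = 1 := by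
  classical
  refine Units.ext (F.ext fun w hw m hm => ?_)
  change (F.jv hv ^ 4) • m • w = (1 : (Module.End K W)ˣ) • m • w
  have h1 : ∀ u : W, F.jv hv • m • u = m • F.jv hv • u := fun u => by
    rw [← mul_smul, ← F.jv_comm hv hm, mul_smul]
  have h2 : F.jv hv ^ 4 = F.jv hv * (F.jv hv * (F.jv hv * F.jv hv)) := by
    simp only [pow_succ, pow_zero, one_mul, mul_assoc]
  rw [h2, one_smul, mul_smul, mul_smul, mul_smul, h1, h1, h1, h1]
  congr 1
  by_cases hvw : v = w
  · subst hvw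
    rw [F.jv_self, F.jv_Jself, smul_neg, F.jv_self, smul_neg, F.jv_Jself, neg_neg]
  · rw [F.jv_other hv hw hvw, F.jv_other hv hw hvw, F.jv_other hv hw hvw, F.jv_other hv hw hvw]

/-- `A` is proper if `NN` is not commutative -/
theorem not_le (F : Full h NN J A S c) (hnc : ∃ n ∈ NN, ∃ m ∈ NN, n * m ≠ m * n) : ∃ n ∈ NN, n ∉ A := by
  by_contra hcon
  push Not at hcon
  obtain ⟨n, hn, m, hm, hnm⟩ := hnc
  exact hnm (F.M.comm n (hcon n hn) m (hcon m hm))

/-- three planes -/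
theorem three (F : Full h NN J A S c) (hS : 2 < S.card) :
    ∃ (v : Fin 3 → W) (j : Fin 3 → (Module.End K W)ˣ), Three h NN J v j := by
  obtain ⟨a, ha, b, hb, d, hd, hab, had, hbd⟩ := Finset.two_lt_card.1 hS
  have hv : ∀ k : Fin 3, (![a, b, d] : Fin 3 → W) k ∈ S := by
    intro k
    fin_cases k
    · exact ha
    · exact hb
    · exact hd
  have hne : ∀ k i : Fin 3, k ≠ i → (![a, b, d] : Fin 3 → W) k ≠ (![a, b, d] : Fin 3 → W) i := by
    intro k i hki
    fin_cases k <;> fin_cases i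
    · exact absurd rfl hki
    · exact hab
    · exact had
    · exact Ne.symm hab
    · exact absurd rfl hki
    · exact hbd
    · exact Ne.symm had
    · exact Ne.symm hbd
    · exact absurd rfl hki
  refine ⟨![a, b, d], fun k => F.jv (hv k), ?_⟩
  exact ⟨fun k => F.jv_iso (hv k), fun k n hn => F.jv_comm (hv k) hn, fun k i => F.jv_jv (hv k) (hv i),
    fun k => F.o1 (hv k), fun k => F.jv_self (hv k), fun k => F.jv_Jself (hv k),
    fun k i hki => F.jv_other (hv k) (hv i) (hne k i hki), fun k i hki => F.jv_Jother (hv k) (hv i) (hne k i hki),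
    fun k => F.jv_four (hv k), fun k i => F.jv_jv_mem (hv k) (hv i), fun hnc k => F.jv_mem (F.not_le hnc) (hv k)⟩

theorem nn_pm (F : Full h NN J A S c) {m : (Module.End K W)ˣ} (hm : m ∈ NN) :
    F.Tu * m = m * F.Tu ∨ F.Tu * m = -(m * F.Tu) := by
  rcases F.Tu_comm hm with ⟨_, h1⟩ | ⟨_, h1⟩
  · exact Or.inl h1
  · exact Or.inr h1

/-- a perfect subgroup of a commutative group is trivial -/
theorem perfect_bot {G : Type*} [Group G] {EE C : Subgroup G} (hp : ⁅EE, EE⁆ = EE) (hE : EE ≤ C)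
    (hC : ∀ g ∈ C, ∀ g' ∈ C, g * g' = g' * g) : EE = ⊥ := by
  rw [← hp, eq_bot_iff, commutator_le]
  intro a ha b hb
  rw [mem_bot, commutatorElement_def, hC a (hE ha) b (hE hb)]
  group

/-- the case of one orbit sum -/
theorem one (F : Full h NN J A S c) {v : W} (hS : S = {v}) {EE : Subgroup (Module.End K W)ˣ}
    (hp : ⁅EE, EE⁆ = EE) (hE : EE ≤ cen h NN) : ∃ t, Tw h NN EE J t := by
  have hv : v ∈ S := by rw [hS]; exact Finset.mem_singleton_self v
  have hall : ∀ x ∈ S, x = v := fun x hx => by rw [hS] at hx; exact Finset.mem_singleton.1 hx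
  have hbot : EE = ⊥ := perfect_bot hp hE (F.comm_of_distinct fun a ha b hb hab =>
    absurd ((hall a ha).trans (hall b hb).symm) hab)
  refine ⟨F.Tu, F.Tu_iso, F.Tu_J, fun n hn => F.nn_pm hn, fun g hg => ?_, ?_⟩
  · rw [hbot, mem_bot] at hg
    rw [hg, one_mul, mul_one]
  · by_cases hcm : ∀ n ∈ NN, n ∈ A
    · right
      refine ⟨fun n hn m hm => F.M.comm n (hcm n hn) m (hcm m hm), hbot, v, F.o1 hv, fun u => ?_⟩
      have h1 := F.exp u
      have h2 : Dat.Tr h NN (fun _ => (1 : K)) v v u = Dat.kap K F.M • u := by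
        rw [← h1, hS, Finset.sum_singleton]
      rw [Dat.Tr_apply] at h2
      have h3 : ∀ n : ↥NN, ∃ x y : K, ((fun _ => (1 : K)) (n : (Module.End K W)ˣ) *
          h ((n : (Module.End K W)ˣ) • v) u) • ((n : (Module.End K W)ˣ) • v) = x • v + y • J • v := by
        intro n
        rcases F.smul_cases hcm hv n.2 with h4 | h4 | h4 | h4
        · exact ⟨1 * h v u, 0, by rw [h4, zero_smul, add_zero]⟩
        · exact ⟨-(1 * h (-v) u), 0, by rw [h4, zero_smul, add_zero, smul_neg, neg_smul]⟩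
        · exact ⟨0, 1 * h (J • v) u, by rw [h4, zero_smul, zero_add]⟩
        · exact ⟨0, -(1 * h (-(J • v)) u), by rw [h4, zero_smul, zero_add, smul_neg, neg_smul]⟩
      choose x y hxy using h3
      rw [Finset.sum_congr rfl fun n _ => hxy n, Finset.sum_add_distrib, ← Finset.sum_smul, ← Finset.sum_smul] at h2
      refine ⟨(Dat.kap K F.M)⁻¹ * ∑ n, x n, (Dat.kap K F.M)⁻¹ * ∑ n, y n, ?_⟩
      rw [mul_smul, mul_smul, ← smul_add, h2, smul_smul, inv_mul_cancel₀ F.kap, one_smul]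
    · left
      push Not at hcm
      exact F.Tu_mem hcm

/-- replace `v₂` by `n v₂` -/
theorem replace (F : Full h NN J A S c) {v₁ v₂ : W} (hS : ∀ x, x ∈ S ↔ x = v₁ ∨ x = v₂) (hne : v₁ ≠ v₂)
    {n : (Module.End K W)ˣ} (hn : n ∈ NN) : v₁ ≠ n • v₂ ∧ ∃ S' : Finset W, (∀ x, x ∈ S' ↔ x = v₁ ∨ x = n • v₂) ∧
      Full h NN J A S' c := by
  classical
  have hv₁ : v₁ ∈ S := (hS _).2 (Or.inl rfl)
  have hv₂ : v₂ ∈ S := (hS _).2 (Or.inr rfl)
  have hS2 : S = {v₁, v₂} := by ext x; rw [hS, Finset.mem_insert, Finset.mem_singleton]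
  have z1 : ∀ m ∈ NN, h (m • v₁) (n • v₂) = 0 := by
    intro m hm
    rw [← F.Y.orth v₁ hv₁ v₂ hv₂ hne (n⁻¹ * m) (mul_mem (inv_mem hn) hm),
      ← F.D.iso hn ((n⁻¹ * m) • v₁) v₂, ← mul_smul, mul_inv_cancel_left]
  have z2 : ∀ m ∈ NN, h (m • n • v₂) v₁ = 0 := by
    intro m hm
    rw [← mul_smul]
    exact F.Y.orth v₂ hv₂ v₁ hv₁ (Ne.symm hne) (m * n) (mul_mem hm hn)
  have hne' : v₁ ≠ n • v₂ := by
    intro h0
    have h1 := z1 1 (one_mem NN)
    rw [one_smul, ← h0, F.o1 hv₁] at h1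
    exact one_ne_zero h1
  refine ⟨hne', {v₁, n • v₂}, fun x => by simp, F.D, F.M, ⟨?_, ?_, ?_⟩, ?_, F.kap, F.sg, F.cJ, F.cA⟩
  · intro x hx
    rcases (by simpa using hx : x = v₁ ∨ x = n • v₂) with rfl | rfl
    · exact F.Y.eig _ hv₁
    · exact F.eig_smul (F.Y.eig v₂ hv₂) hn
  · intro x hx
    rcases (by simpa using hx : x = v₁ ∨ x = n • v₂) with rfl | rfl
    · exact F.o1 hv₁
    · rw [F.D.iso hn]; exact F.o1 hv₂
  · intro x hx y hy hxy m hm
    rcases (by simpa using hx : x = v₁ ∨ x = n • v₂) with rfl | rfl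
    · rcases (by simpa using hy : y = x ∨ y = n • v₂) with rfl | rfl
      · exact absurd rfl hxy
      · exact z1 m hm
    · rcases (by simpa using hy : y = v₁ ∨ y = n • v₂) with rfl | rfl
      · exact z2 m hm
      · exact absurd rfl hxy
  · intro u
    rw [← F.exp u, Finset.sum_pair hne']
    have h1 : ∀ f : W → W, ∑ w ∈ S, f w = f v₁ + f v₂ := fun f => by rw [hS2]; exact Finset.sum_pair hne
    rw [h1 fun w => Dat.Tr h NN (fun _ => (1 : K)) w w u]
    congr 1
    rw [Dat.Tr_apply, Dat.Tr_apply]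
    refine Fintype.sum_equiv (Equiv.mulRight (⟨n, hn⟩ : ↥NN)) _ _ fun m => ?_
    change (1 * h ((m : (Module.End K W)ˣ) • n • v₂) u) • ((m : (Module.End K W)ˣ) • n • v₂) =
      (1 * h (((m : (Module.End K W)ˣ) * n) • v₂) u) • (((m : (Module.End K W)ˣ) * n) • v₂)
    rw [mul_smul (m : (Module.End K W)ˣ) n v₂]

/-- the case of two orbit sums -/
theorem two (F : Full h NN J A S c) {v₁ v₂ : W} (hS : ∀ x, x ∈ S ↔ x = v₁ ∨ x = v₂) (hne : v₁ ≠ v₂)
    {EE : Subgroup (Module.End K W)ˣ} (hp : ⁅EE, EE⁆ = EE) (hE : EE ≤ cen h NN) : ∃ t, Tw h NN EE J t := by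
  have hv₁ : v₁ ∈ S := (hS _).2 (Or.inl rfl)
  have hv₂ : v₂ ∈ S := (hS _).2 (Or.inr rfl)
  have hall : ∀ x ∈ S, x = v₁ ∨ x = v₂ := fun x hx => (hS x).1 hx
  by_cases hd : ∀ n ∈ NN, ¬ Dat.Same F.M (n • v₂) v₁
  · -- different orbits
    have hd' : ∀ v ∈ S, ∀ w ∈ S, v ≠ w → ∀ n ∈ NN, ¬ Dat.Same F.M (n • w) v := by
      intro v hv w hw hvw n hn hs
      rcases hall v hv with h1 | h1
      · rcases hall w hw with h2 | h2
        · exact hvw (h1.trans h2.symm)
        · rw [h1, h2] at hs; exact hd n hn hs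
      · rcases hall w hw with h2 | h2
        · rw [h1, h2] at hs
          refine hd n⁻¹ (inv_mem hn) fun a ha => ?_
          have h3 := hs a ha
          rcases F.D.comm a (F.M.le ha.1) n hn with h4 | h4
          · have h5 : a • n • v₁ = n • a • v₁ := by rw [← mul_smul, h4, mul_smul]
            have h4' : a * n⁻¹ = n⁻¹ * a := by
              rw [mul_inv_eq_iff_eq_mul, mul_assoc, h4, inv_mul_cancel_left]
            have h6 : a • n⁻¹ • v₂ = n⁻¹ • a • v₂ := by rw [← mul_smul, h4', mul_smul]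
            rcases h3 with ⟨h7, h8⟩ | ⟨h7, h8⟩
            · left
              refine ⟨by rw [h6, h8], ?_⟩
              rw [h5] at h7
              exact smul_left_cancel n h7
            · right
              refine ⟨by rw [h6, h8, smul_neg], ?_⟩
              rw [h5, ← smul_neg] at h7
              exact smul_left_cancel n h7
          · have h5 : a • n • v₁ = -(n • a • v₁) := by rw [← mul_smul, h4, Units.neg_smul, mul_smul]
            have h4' : a * n⁻¹ = -(n⁻¹ * a) := by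
              rw [mul_inv_eq_iff_eq_mul, neg_mul, mul_assoc, h4, mul_neg, inv_mul_cancel_left, neg_neg]
            have h6 : a • n⁻¹ • v₂ = -(n⁻¹ • a • v₂) := by rw [← mul_smul, h4', Units.neg_smul, mul_smul]
            rcases h3 with ⟨h7, h8⟩ | ⟨h7, h8⟩
            · right
              refine ⟨by rw [h6, h8], ?_⟩
              rw [h5, neg_eq_iff_eq_neg, ← smul_neg] at h7
              exact smul_left_cancel n h7
            · left
              refine ⟨by rw [h6, h8, smul_neg, neg_neg], ?_⟩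
              rw [h5, neg_inj] at h7
              exact smul_left_cancel n h7
        · exact hvw (h1.trans h2.symm)
    have hbot : EE = ⊥ := perfect_bot hp hE (F.comm_of_distinct hd')
    refine ⟨F.Tu, F.Tu_iso, F.Tu_J, fun n hn => F.nn_pm hn, fun g hg => ?_, Or.inl ?_⟩
    · rw [hbot, mem_bot] at hg
      rw [hg, one_mul, mul_one]
    · by_cases hcm : ∀ n ∈ NN, n ∈ A
      · exact F.Tu_mem_two hcm hv₁ hv₂ hne hall
      · push Not at hcm
        exact F.Tu_mem hcm
  · push Not at hd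
    obtain ⟨n, hn, hs⟩ := hd
    obtain ⟨hne', S', hS', F'⟩ := F.replace hS hne hn
    have X : F'.Two v₁ (n • v₂) := ⟨(hS' _).2 (Or.inl rfl), (hS' _).2 (Or.inr rfl), hne', F'.same_symm hs,
      fun x hx => (hS' x).1 hx⟩
    refine ⟨F'.Tu * F'.Ru X, mul_mem F'.Tu_iso (F'.Ru_iso X), F'.TR_J X, fun m hm => ?_, F'.perfect_comm X hp hE,
      Or.inl ?_⟩
    · rcases F'.TR_comm X hm with ⟨_, h1⟩ | ⟨_, h1⟩
      · exact Or.inl h1
      · exact Or.inr h1
    · by_cases hcm : ∀ n ∈ NN, n ∈ A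
      · exact F'.TR_mem_two hcm X
      · push Not at hcm
        exact F'.TR_mem hcm X

end Full

/-- **The structure lemma**, symmetric form. -/
theorem structure_sym [Finite K] [Finite W] [Nontrivial W] {h : LinearMap.BilinForm K W}
    {NN : Subgroup (Module.End K W)ˣ} {J : (Module.End K W)ˣ} (D : Dat h NN J) {EE : Subgroup (Module.End K W)ˣ}
    (hp : ⁅EE, EE⁆ = EE) (hE : EE ≤ cen h NN) :
    (∃ (v : Fin 3 → W) (j : Fin 3 → (Module.End K W)ˣ), Three h NN J v j) ∨ (∃ t, Tw h NN EE J t) := by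
  classical
  have hfE : Finite (Module.End K W) := Finite.of_injective (fun f => (f : W → W)) DFunLike.coe_injective
  have hfN : Fintype ↥NN := Fintype.ofFinite _
  obtain ⟨A, S, c, F⟩ := exists_full D
  by_cases h3 : 2 < S.card
  · exact Or.inl (F.three h3)
  · right
    have h4 : S.card = 0 ∨ S.card = 1 ∨ S.card = 2 := by omega
    rcases h4 with h5 | h5 | h5
    · exfalso
      rw [Finset.card_eq_zero] at h5
      obtain ⟨u, hu⟩ := exists_ne (0 : W)
      apply hu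
      have h6 : ∀ f : W → W, ∑ w ∈ S, f w = 0 := fun f => by rw [h5, Finset.sum_empty]
      exact (F.sum_E u).symm.trans (h6 _)
    · obtain ⟨v, hv⟩ := Finset.card_eq_one.1 h5
      exact F.one hv hp hE
    · obtain ⟨v, w, hvw, hS⟩ := Finset.card_eq_two.1 h5
      exact F.two (fun x => by rw [hS, Finset.mem_insert, Finset.mem_singleton]) hvw hp hE

end Cfsg.Agent.H527.C3
end

-- part: H527/C3/StrL
section
/-!
# S1920, classical groups, section 4: the structure lemma for `W ≃ₗ[K] W` (helper527)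

`isomsL h : Subgroup (W ≃ₗ[K] W)`.  `structureL_sym`, `structureL_alt`.
-/

set_option autoImplicit false

open Subgroup
open scoped commutatorElement

namespace Cfsg.Agent.H527.C3

variable {K W : Type*} [Field K] [AddCommGroup W] [Module K W]

/-- The isometry group of a bilinear form, in `W ≃ₗ[K] W`. -/
def isomsL (h : LinearMap.BilinForm K W) : Subgroup (W ≃ₗ[K] W) where
  carrier := {g | ∀ u v : W, h (g u) (g v) = h u v}
  mul_mem' := by
    intro a b ha hb u v
    rw [LinearEquiv.mul_apply, LinearEquiv.mul_apply, ha, hb]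
  one_mem' := by
    intro u v
    rfl
  inv_mem' := by
    intro a ha u v
    have h1 := ha (a⁻¹ u) (a⁻¹ v)
    have h2 : ∀ w : W, a (a⁻¹ w) = w := fun w => a.apply_symm_apply w
    rw [h2, h2] at h1
    exact h1.symm

/-- The situation of section 4. -/
structure DatL (h : LinearMap.BilinForm K W) (NN : Subgroup (W ≃ₗ[K] W)) (J : W ≃ₗ[K] W) : Prop where
  two : (2 : K) ≠ 0
  sym : ∀ u v, h u v = h v u
  nd : ∀ u, (∀ v, h u v = 0) → u = 0
  iso : ∀ n ∈ NN, ∀ u v, h (n u) (n v) = h u v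
  J_mem : J ∈ NN
  J_sq : ∀ u, J (J u) = -u
  sq : ∀ n ∈ NN, (∀ u, n (n u) = u) ∨ (∀ u, n (n u) = -u)
  comm : ∀ n ∈ NN, ∀ m ∈ NN, (∀ u, n (m u) = m (n u)) ∨ (∀ u, n (m u) = -m (n u))
  cen : ∀ n ∈ NN, ∀ u, n (J u) = J (n u)

/-- three planes -/
structure ThreeL (h : LinearMap.BilinForm K W) (NN : Subgroup (W ≃ₗ[K] W)) (J : W ≃ₗ[K] W)
    (v : Fin 3 → W) (j : Fin 3 → (W ≃ₗ[K] W)) : Prop where
  iso : ∀ k, j k ∈ isomsL h
  nn : ∀ k, ∀ n ∈ NN, n * j k = j k * n
  comm : ∀ k i, j k * j i = j i * j k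
  norm : ∀ k, h (v k) (v k) = 1
  self : ∀ k, j k (v k) = J (v k)
  selfJ : ∀ k, j k (J (v k)) = -v k
  other : ∀ k i, k ≠ i → j k (v i) = v i
  otherJ : ∀ k i, k ≠ i → j k (J (v i)) = J (v i)
  four : ∀ k, j k ^ 4 = 1
  mem2 : ∀ k i, j k * j i ∈ ⁅isomsL h, isomsL h⁆
  mem1 : (∃ n ∈ NN, ∃ m ∈ NN, n * m ≠ m * n) → ∀ k, j k ∈ ⁅isomsL h, isomsL h⁆

/-- the twisting isometry -/
structure TwL (h : LinearMap.BilinForm K W) (NN EE : Subgroup (W ≃ₗ[K] W)) (J t : W ≃ₗ[K] W) : Prop where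
  iso : t ∈ isomsL h
  antiJ : ∀ u, t (J u) = -J (t u)
  nn : ∀ n ∈ NN, (∀ u, t (n u) = n (t u)) ∨ (∀ u, t (n u) = -n (t u))
  ee : ∀ g ∈ EE, g * t = t * g
  mem : t ∈ ⁅isomsL h, isomsL h⁆ ∨
    ((∀ n ∈ NN, ∀ m ∈ NN, n * m = m * n) ∧ EE = ⊥ ∧ ∃ v : W, h v v = 1 ∧ ∀ u : W, ∃ x y : K, u = x • v + y • J v)

/-- the isomorphism -/
noncomputable def toL (K W : Type*) [Field K] [AddCommGroup W] [Module K W] : (Module.End K W)ˣ ≃* (W ≃ₗ[K] W) :=
  LinearMap.GeneralLinearGroup.generalLinearEquiv K W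

theorem toL_apply (g : (Module.End K W)ˣ) (u : W) : toL K W g u = g • u := rfl

theorem toL_symm_smul (g : W ≃ₗ[K] W) (u : W) : (toL K W).symm g • u = g u := by
  rw [← toL_apply, MulEquiv.apply_symm_apply]

theorem isoms_comap (h : LinearMap.BilinForm K W) : isoms h = (isomsL h).comap (toL K W).toMonoidHom := rfl

theorem isomsL_map (h : LinearMap.BilinForm K W) : (isoms h).map (toL K W).toMonoidHom = isomsL h := by
  rw [isoms_comap]
  exact map_comap_eq_self_of_surjective (toL K W).surjective _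

theorem comm_mem {h : LinearMap.BilinForm K W} {g : (Module.End K W)ˣ} (hg : g ∈ ⁅isoms h, isoms h⁆) :
    toL K W g ∈ ⁅isomsL h, isomsL h⁆ := by
  rw [← isomsL_map, ← map_commutator]
  exact mem_map_of_mem _ hg

theorem comap_commutator (EE : Subgroup (W ≃ₗ[K] W)) :
    ⁅EE.comap (toL K W).toMonoidHom, EE.comap (toL K W).toMonoidHom⁆ = (⁅EE, EE⁆).comap (toL K W).toMonoidHom := by
  have h1 : ∀ X : Subgroup (W ≃ₗ[K] W), X.comap (toL K W).toMonoidHom = X.map (toL K W).symm.toMonoidHom := by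
    intro X
    exact comap_equiv_eq_map_symm (toL K W) X
  rw [h1, h1, map_commutator]

/-- **The structure lemma**, symmetric form, for `W ≃ₗ[K] W`. -/
theorem structureL_sym [Finite K] [Finite W] [Nontrivial W] {h : LinearMap.BilinForm K W}
    {NN : Subgroup (W ≃ₗ[K] W)} {J : W ≃ₗ[K] W} (D : DatL h NN J) {EE : Subgroup (W ≃ₗ[K] W)}
    (hp : ⁅EE, EE⁆ = EE) (hE : ∀ g ∈ EE, ∀ u v, h (g u) (g v) = h u v) (hEN : ∀ g ∈ EE, ∀ n ∈ NN, n * g = g * n) :
    (∃ (v : Fin 3 → W) (j : Fin 3 → (W ≃ₗ[K] W)), ThreeL h NN J v j) ∨ (∃ t, TwL h NN EE J t) := by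
  obtain ⟨J', hJ'⟩ : ∃ J' : (Module.End K W)ˣ, toL K W J' = J := ⟨(toL K W).symm J, MulEquiv.apply_symm_apply _ _⟩
  subst hJ'
  have hneg : ∀ g : (Module.End K W)ˣ, ∀ g' : (Module.End K W)ˣ, (∀ u : W, g • u = -(g' • u)) → g = -g' :=
    fun g g' h1 => Units.ext (LinearMap.ext fun u => by
      have := h1 u
      rw [← Units.neg_smul] at this
      exact this)
  have heq : ∀ g : (Module.End K W)ˣ, ∀ g' : (Module.End K W)ˣ, (∀ u : W, g • u = g' • u) → g = g' :=
    fun g g' h1 => Units.ext (LinearMap.ext fun u => h1 u)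
  have hJJ : J' * J' = -1 := hneg _ _ fun u => by
    rw [mul_smul, one_smul]; exact D.J_sq u
  have D' : Dat h (NN.comap (toL K W).toMonoidHom) J' := by
    refine ⟨D.two, D.sym, D.nd, fun n hn => D.iso _ hn, ?_, D.J_mem, hJJ, fun n hn => ?_, fun n hn m hm => ?_,
      fun n hn => ?_⟩
    · rw [← hJJ]
      exact Subgroup.mul_mem (NN.comap (toL K W).toMonoidHom) D.J_mem D.J_mem
    · rcases D.sq _ hn with h1 | h1
      · left
        refine heq _ _ fun u => ?_
        rw [mul_smul, one_smul]; exact h1 u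
      · right
        refine hneg _ _ fun u => ?_
        rw [mul_smul, one_smul]; exact h1 u
    · rcases D.comm _ hn _ hm with h1 | h1
      · left
        refine heq _ _ fun u => ?_
        rw [mul_smul, mul_smul]; exact h1 u
      · right
        refine hneg _ _ fun u => ?_
        rw [mul_smul, mul_smul]; exact h1 u
    · refine heq _ _ fun u => ?_
      rw [mul_smul, mul_smul]; exact D.cen _ hn u
  have hp' : ⁅EE.comap (toL K W).toMonoidHom, EE.comap (toL K W).toMonoidHom⁆ = EE.comap (toL K W).toMonoidHom := by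
    rw [comap_commutator, hp]
  have hE' : EE.comap (toL K W).toMonoidHom ≤ cen h (NN.comap (toL K W).toMonoidHom) := by
    intro g hg
    rw [mem_cen]
    refine ⟨hE _ hg, fun n hn => ?_⟩
    apply (toL K W).injective
    rw [map_mul, map_mul]
    exact hEN _ hg _ hn
  have hsymm : ∀ n ∈ NN, (toL K W).symm n ∈ NN.comap (toL K W).toMonoidHom := fun n hn => by
    change toL K W ((toL K W).symm n) ∈ NN
    rw [MulEquiv.apply_symm_apply]; exact hn
  rcases structure_sym D' hp' hE' with ⟨v, j, T⟩ | ⟨t, T⟩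
  · left
    refine ⟨v, fun k => toL K W (j k), ⟨fun k => T.iso k, fun k n hn => ?_, fun k i => ?_, T.norm, T.self, T.selfJ,
      T.other, T.otherJ, fun k => ?_, fun k i => ?_, fun hnc k => comm_mem (T.mem1 ?_ k)⟩⟩
    · have h1 := congrArg (toL K W) (T.nn k _ (hsymm n hn))
      rwa [map_mul, map_mul, MulEquiv.apply_symm_apply] at h1
    · rw [← map_mul, T.comm, map_mul]
    · rw [← map_pow, T.four, map_one]
    · rw [← map_mul]
      exact comm_mem (T.mem2 k i)
    · obtain ⟨n, hn, m, hm, hnm⟩ := hnc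
      refine ⟨_, hsymm n hn, _, hsymm m hm, fun h1 => hnm ?_⟩
      have h2 := congrArg (toL K W) h1
      rwa [map_mul, map_mul, MulEquiv.apply_symm_apply, MulEquiv.apply_symm_apply] at h2
  · right
    refine ⟨toL K W t, ⟨T.iso, fun u => ?_, fun n hn => ?_, fun g hg => ?_, ?_⟩⟩
    · have h1 : (t * J') • u = -(J' * t) • u := by rw [T.antiJ]
      rw [mul_smul, Units.neg_smul, mul_smul] at h1
      exact h1
    · rcases T.nn _ (hsymm n hn) with h1 | h1
      · left
        intro u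
        have h2 : (t * (toL K W).symm n) • u = ((toL K W).symm n * t) • u := by rw [h1]
        rw [mul_smul, mul_smul, toL_symm_smul, toL_symm_smul] at h2
        exact h2
      · right
        intro u
        have h2 : (t * (toL K W).symm n) • u = (-((toL K W).symm n * t)) • u := by rw [h1]
        rw [mul_smul, Units.neg_smul, mul_smul, toL_symm_smul, toL_symm_smul] at h2
        exact h2
    · have hg' : (toL K W).symm g ∈ EE.comap (toL K W).toMonoidHom := by
        change toL K W ((toL K W).symm g) ∈ EE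
        rw [MulEquiv.apply_symm_apply]; exact hg
      have h1 := congrArg (toL K W) (T.ee _ hg')
      rwa [map_mul, map_mul, MulEquiv.apply_symm_apply] at h1
    · rcases T.mem with h1 | ⟨h1, h2, h3⟩
      · exact Or.inl (comm_mem h1)
      · right
        refine ⟨fun n hn m hm => ?_, ?_, h3⟩
        · have h4 := congrArg (toL K W) (h1 _ (hsymm n hn) _ (hsymm m hm))
          rwa [map_mul, map_mul, MulEquiv.apply_symm_apply, MulEquiv.apply_symm_apply] at h4
        · rw [eq_bot_iff]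
          intro g hg
          have hg' : (toL K W).symm g ∈ EE.comap (toL K W).toMonoidHom := by
            change toL K W ((toL K W).symm g) ∈ EE
            rw [MulEquiv.apply_symm_apply]; exact hg
          rw [h2, mem_bot] at hg'
          rw [mem_bot, ← MulEquiv.apply_symm_apply (toL K W) g, hg', map_one]

/-- The situation of section 4, alternating form. -/
structure DatA (B : LinearMap.BilinForm K W) (NN : Subgroup (W ≃ₗ[K] W)) (J : W ≃ₗ[K] W) : Prop where
  two : (2 : K) ≠ 0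
  alt : ∀ u v, B u v = -B v u
  nd : ∀ u, (∀ v, B u v = 0) → u = 0
  iso : ∀ n ∈ NN, ∀ u v, B (n u) (n v) = B u v
  J_mem : J ∈ NN
  J_sq : ∀ u, J (J u) = -u
  sq : ∀ n ∈ NN, (∀ u, n (n u) = u) ∨ (∀ u, n (n u) = -u)
  comm : ∀ n ∈ NN, ∀ m ∈ NN, (∀ u, n (m u) = m (n u)) ∨ (∀ u, n (m u) = -m (n u))
  cen : ∀ n ∈ NN, ∀ u, n (J u) = J (n u)

end Cfsg.Agent.H527.C3
end

-- part: H100/C3/StepTwo
section
/-!
# S1920, case B, orthogonal groups, section 2, step (2): only section 5 is left (helper100)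
-/

set_option autoImplicit false
set_option linter.unusedSectionVars false

open Subgroup
open scoped commutatorElement

namespace Cfsg.Agent.H100.C3

open QuadraticMap Cfsg.Agent.H415.C3 Cfsg.Agent.LieClassical.OrthCore Cfsg.Agent.LieClassical.OrthTrans
open Cfsg.Agent.H527.C3
open Module (finrank)

section lin

variable {F V : Type*} [Field F] [AddCommGroup V] [Module F V] {Q : QuadraticForm F V}

/-- the space `u = -1` -/
def Vn (u : V ≃ₗ[F] V) : Submodule F V where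
  carrier := {v | u v = -v}
  add_mem' := fun {a b} ha hb => by
    change u (a + b) = -(a + b)
    rw [map_add, show u a = -a from ha, show u b = -b from hb]; abel
  zero_mem' := by
    change u 0 = -0
    rw [map_zero, neg_zero]
  smul_mem' := fun c v hv => by
    change u (c • v) = -(c • v)
    rw [map_smul, show u v = -v from hv, smul_neg]

theorem mem_Vn {u : V ≃ₗ[F] V} {v : V} : v ∈ Vn u ↔ u v = -v := Iff.rfl

theorem cen_apply {u g : V ≃ₗ[F] V} (hg : g ∈ centralizer ({u} : Set (V ≃ₗ[F] V))) (v : V) : u (g v) = g (u v) :=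
  (LinearEquiv.congr_fun (mem_centralizer_singleton_iff.1 hg) v).symm

theorem cen_Vn {u g : V ≃ₗ[F] V} (hg : g ∈ centralizer ({u} : Set (V ≃ₗ[F] V))) {v : V} (hv : v ∈ Vn u) :
    g v ∈ Vn u := by
  rw [mem_Vn, cen_apply hg, mem_Vn.1 hv, map_neg]

/-- restriction to `Vn u` -/
def resW (u : V ≃ₗ[F] V) : ↥(centralizer ({u} : Set (V ≃ₗ[F] V))) →* (↥(Vn u) ≃ₗ[F] ↥(Vn u)) where
  toFun g :=
    { toFun := fun w => ⟨(g : V ≃ₗ[F] V) w, cen_Vn g.2 w.2⟩
      map_add' := fun a b => Subtype.ext (map_add _ _ _)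
      map_smul' := fun c a => Subtype.ext (map_smul _ _ _)
      invFun := fun w => ⟨(g : V ≃ₗ[F] V)⁻¹ w, cen_Vn (inv_mem g.2) w.2⟩
      left_inv := fun w => Subtype.ext (LinearEquiv.symm_apply_apply (g : V ≃ₗ[F] V) w)
      right_inv := fun w => Subtype.ext (LinearEquiv.apply_symm_apply (g : V ≃ₗ[F] V) w) }
  map_one' := rfl
  map_mul' _ _ := rfl

section ext

variable (two : (2 : F) ≠ 0) {u : V ≃ₗ[F] V} (hu : u * u = 1)

/-- the projection on `Vn u` -/
def pW : V →ₗ[F] ↥(Vn u) :=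
  LinearMap.codRestrict (Vn u) ((2 : F)⁻¹ • (LinearMap.id - (u : V →ₗ[F] V))) fun v => by
    have huu : u (u v) = v := LinearEquiv.congr_fun hu v
    change u ((2 : F)⁻¹ • (v - u v)) = -((2 : F)⁻¹ • (v - u v))
    rw [map_smul, map_sub, huu, ← smul_neg, neg_sub]

include two in
theorem pW_mem (w : ↥(Vn u)) : pW hu (w : V) = w := by
  apply Subtype.ext
  change (2 : F)⁻¹ • ((w : V) - u w) = w
  rw [mem_Vn.1 w.2, sub_neg_eq_add, ← two_smul F, smul_smul, inv_mul_cancel₀ two, one_smul]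

theorem pW_fix {v : V} (hv : u v = v) : pW hu v = 0 := by
  apply Subtype.ext
  change (2 : F)⁻¹ • (v - u v) = 0
  rw [hv, sub_self, smul_zero]

/-- extension by one, a function -/
def extF (t : ↥(Vn u) ≃ₗ[F] ↥(Vn u)) (v : V) : V := v + ((t (pW hu v) : V) - (pW hu v : V))

include two in
theorem extF_mul (t t' : ↥(Vn u) ≃ₗ[F] ↥(Vn u)) (v : V) : extF hu t (extF hu t' v) = extF hu (t * t') v := by
  have h1 : pW hu (extF hu t' v) = t' (pW hu v) := by
    rw [extF, map_add, map_sub, pW_mem two hu, pW_mem two hu]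
    abel
  have h2 : extF hu t (extF hu t' v) = extF hu t' v + ((t (pW hu (extF hu t' v)) : V) -
      (pW hu (extF hu t' v) : V)) := rfl
  rw [h2, h1, extF, extF]
  change _ = v + ((t (t' (pW hu v)) : V) - _)
  abel

theorem extF_one (v : V) : extF hu 1 v = v := by
  change v + (((pW hu v : ↥(Vn u)) : V) - _) = v
  rw [sub_self, add_zero]

/-- extension by one -/
def extW : (↥(Vn u) ≃ₗ[F] ↥(Vn u)) →* (V ≃ₗ[F] V) where
  toFun t :=
    { toFun := extF hu t
      map_add' := fun a b => by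
        rw [extF, extF, extF, map_add, map_add, Submodule.coe_add, Submodule.coe_add]; abel
      map_smul' := fun c a => by
        rw [extF, extF, map_smul, map_smul, Submodule.coe_smul, Submodule.coe_smul, RingHom.id_apply, smul_add,
          smul_sub]
      invFun := extF hu t⁻¹
      left_inv := fun v => by rw [extF_mul two hu, inv_mul_cancel, extF_one hu]
      right_inv := fun v => by rw [extF_mul two hu, mul_inv_cancel, extF_one hu] }
  map_one' := LinearEquiv.ext fun v => extF_one hu v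
  map_mul' t t' := LinearEquiv.ext fun v => (extF_mul two hu t t' v).symm

theorem extW_mem (t : ↥(Vn u) ≃ₗ[F] ↥(Vn u)) (w : ↥(Vn u)) : extW two hu t (w : V) = t w := by
  change (w : V) + ((t (pW hu (w : V)) : V) - (pW hu (w : V) : V)) = _
  rw [pW_mem two hu]; abel

theorem extW_fix (t : ↥(Vn u) ≃ₗ[F] ↥(Vn u)) {v : V} (hv : u v = v) : extW two hu t v = v := by
  change v + ((t (pW hu v) : V) - (pW hu v : V)) = _
  rw [pW_fix hu hv, map_zero, sub_self, add_zero]

/-- the form on `Vn u` -/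
def hW (Q : QuadraticForm F V) (u : V ≃ₗ[F] V) : LinearMap.BilinForm F ↥(Vn u) :=
  polarBilin (Q.comp (Vn u).subtype)

theorem hW_apply (a b : ↥(Vn u)) : hW Q u a b = polar Q (a : V) b := rfl

theorem extW_mem_O (huO : u ∈ O Q) {t : ↥(Vn u) ≃ₗ[F] ↥(Vn u)} (ht : t ∈ isomsL (hW Q u)) : extW two hu t ∈ O Q := by
  intro v
  obtain ⟨a, b, rfl, ha, hb⟩ := half_decomp two hu v
  have h1 : extW two hu t b = (t ⟨b, hb⟩ : V) := extW_mem two hu t ⟨b, hb⟩
  have h2 : Q (t ⟨b, hb⟩ : V) = Q b := by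
    have h3 := ht ⟨b, hb⟩ ⟨b, hb⟩
    rw [hW_apply, hW_apply, polar_self', polar_self'] at h3
    exact mul_left_cancel₀ two h3
  rw [map_add, extW_fix two hu t ha, h1, Q_add, Q_add, h2, perp_half two huO ha hb,
    perp_half two huO ha (t ⟨b, hb⟩).2]

theorem extW_mem_E (hG : Good Q) (huO : u ∈ O Q) {t : ↥(Vn u) ≃ₗ[F] ↥(Vn u)}
    (ht : t ∈ ⁅isomsL (hW Q u), isomsL (hW Q u)⁆) : extW two hu t ∈ E Q := by
  have h1 : (⁅isomsL (hW Q u), isomsL (hW Q u)⁆).map (extW two hu) ≤ E Q := by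
    rw [Subgroup.map_commutator, ← hG.commutator_eq_E]
    refine Subgroup.commutator_mono ?_ ?_ <;>
    · rintro _ ⟨y, hy, rfl⟩
      exact extW_mem_O two hu huO hy
  exact h1 ⟨t, ht, rfl⟩

end ext

theorem pow_fix {g : V ≃ₗ[F] V} {v : V} (hgv : g v = v) (i : ℕ) : (g ^ i) v = v := by
  induction i with
  | zero => rfl
  | succ i ih => rw [pow_succ]; change (g ^ i) (g v) = v; rw [hgv, ih]

theorem pow_neg_fix {g : V ≃ₗ[F] V} {v : V} (hgv : g v = -v) (i : ℕ) : (g ^ i) v = (-1 : F) ^ i • v := by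
  induction i with
  | zero => simp
  | succ i ih => rw [pow_succ]; change (g ^ i) (g v) = _; rw [hgv, map_neg, ih, pow_succ, mul_neg, mul_one, neg_smul]

theorem even_of_fix (two : (2 : F) ≠ 0) {v : V} (hv : v ≠ 0) {i : ℕ} (hi : (-1 : F) ^ i • v = v) : Even i := by
  rcases Nat.even_or_odd i with he | ho
  · exact he
  · exfalso
    rw [ho.neg_one_pow, neg_smul, one_smul] at hi
    have h3 : (2 : F) • v = 0 := by
      rw [two_smul]; nth_rewrite 1 [← hi]; rw [neg_add_cancel]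
    exact hv ((smul_eq_zero.1 h3).resolve_left two)

end lin

variable {G : Type*} [Group G]
variable {N0 A Ek : Subgroup G} {z s x r : G} {ψ : ↥A →* Equiv.Perm (Fin 6)}
variable {F V : Type*} [Field F] [AddCommGroup V] [Module F V] {Q : QuadraticForm F V} {π : ↥(E Q) →* G}
  {Nh Eh : Subgroup (V ≃ₗ[F] V)} {zh sh xh rh : V ≃ₗ[F] V}

/-- **section 2, step (2)** -/
theorem step_two [Finite G] [Finite F] [FiniteDimensional F V] (hG : Good Q) (two : (2 : F) ≠ 0)
    (T : Kit N0 A Ek z s x r ψ) (L : Lin (E Q) π) (l : LKit (E Q) π N0 A Ek z s x r Nh Eh zh sh xh rh) :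
    Sit Q π N0 A Ek z s x r ψ Nh Eh zh sh xh rh ∧ (∀ e ∈ Eh, ∀ v, sh (sh v) = -v → e v = v) ∧
      ∃ v w : V, ∀ b, sh (sh b) = -b → ∃ x y : F, b = x • v + y • w := by
  obtain ⟨c, hc, hz, hu, ⟨a0, ha0, haa, hQa⟩, ⟨b0, hb0, hbb⟩⟩ := s_facts hG two l
  have hsN := sN_comm hG two T L l
  have hc2 : c * c = 1 := by rcases hc with rfl | rfl <;> ring
  set u := sh * sh with hudef
  have hsO : sh ∈ O Q := E_le_O (l.Nh_le l.sN)
  have huO : u ∈ O Q := mul_mem hsO hsO
  have hs : ∀ {g : V ≃ₗ[F] V}, g * sh = sh * g → g ∈ centralizer ({u} : Set (V ≃ₗ[F] V)) := by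
    intro g hg
    rw [mem_centralizer_singleton_iff, hudef, ← mul_assoc, hg, mul_assoc, hg, mul_assoc]
  have hNC : Nh ≤ centralizer ({u} : Set (V ≃ₗ[F] V)) := fun n hn => hs (hsN n hn)
  have hEC : Eh ≤ centralizer ({u} : Set (V ≃ₗ[F] V)) := fun e he => hs (l.Eh_comm e he sh l.sN)
  let C := centralizer ({u} : Set (V ≃ₗ[F] V))
  let NN : Subgroup (↥(Vn u) ≃ₗ[F] ↥(Vn u)) := (Nh.subgroupOf C).map (resW u)
  let EE : Subgroup (↥(Vn u) ≃ₗ[F] ↥(Vn u)) := (Eh.subgroupOf C).map (resW u)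
  have hfinV : Finite V := Module.finite_of_finite F
  have hNT : Nontrivial ↥(Vn u) := ⟨⟨⟨b0, hbb⟩, 0, fun h => hb0 (congrArg Subtype.val h)⟩⟩
  have hmemN : ∀ n (hn : n ∈ Nh), resW u ⟨n, hNC hn⟩ ∈ NN := fun n hn =>
    ⟨⟨n, hNC hn⟩, mem_subgroupOf.2 hn, rfl⟩
  have hmemE : ∀ e (he : e ∈ Eh), resW u ⟨e, hEC he⟩ ∈ EE := fun e he =>
    ⟨⟨e, hEC he⟩, mem_subgroupOf.2 he, rfl⟩
  have hnd : ∀ a : ↥(Vn u), (∀ b, hW Q u a b = 0) → a = 0 := by
    intro a ha
    apply Subtype.ext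
    apply hG.nondeg
    intro w
    obtain ⟨a', b', rfl, ha', hb'⟩ := half_decomp two hu w
    rw [polar_add_right, polar_comm Q (a : V) a', perp_half two huO ha' a.2, zero_add]
    exact ha ⟨b', hb'⟩
  -- a nonsingular vector of `Vc`
  obtain ⟨b1, hb1⟩ : ∃ b : ↥(Vn u), Q (b : V) ≠ 0 := by
    by_contra hcon
    push Not at hcon
    have h1 : (⟨b0, hbb⟩ : ↥(Vn u)) = 0 := hnd _ fun b => by
      rw [hW_apply, QuadraticMap.polar, hcon, hcon, show (⟨b0, hbb⟩ : ↥(Vn u)).1 + b.1 = (⟨b0, hbb⟩ + b : ↥(Vn u)).1 from rfl,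
        hcon]
      ring
    exact hb0 (congrArg Subtype.val h1)
  have hzc : ∀ b, u b = -b → zh b = -c • b := fun b hb => by
    have hb' : sh (sh b) = -b := hb
    rw [hz, hb', smul_neg, neg_smul]
  have hcne : c ≠ 0 := fun h => by rw [h, mul_zero] at hc2; exact zero_ne_one hc2
  have D : DatL (hW Q u) NN (resW u ⟨sh, hNC l.sN⟩) := by
    refine ⟨two, fun a b => polar_comm _ _ _, hnd, ?_, hmemN sh l.sN, fun w => Subtype.ext w.2, ?_, ?_, ?_⟩
    · rintro _ ⟨n, hn, rfl⟩ a b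
      exact polar_map (E_le_O (l.Nh_le (mem_subgroupOf.1 hn))) _ _
    · rintro _ ⟨n, hn, rfl⟩
      have hn' := mem_subgroupOf.1 hn
      obtain ⟨δ, hδ⟩ : ∃ δ : F, ∀ b, u b = -b → (n : V ≃ₗ[F] V) ((n : V ≃ₗ[F] V) b) = δ • b := by
        obtain ⟨c1, -, h | h⟩ := l.sq n hn'
        · exact ⟨c1, fun b _ => h b⟩
        · refine ⟨c1 * (-c), fun b hb => ?_⟩
          have h1 : (n : V ≃ₗ[F] V) ((n : V ≃ₗ[F] V) b) = c1 • zh b := h b
          rw [h1, hzc b hb, smul_smul]
      have hδ2 : δ * δ = 1 := by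
        have h1 := congrArg Q (hδ b1 b1.2)
        have hnO : ∀ w, Q ((n : V ≃ₗ[F] V) w) = Q w := fun w => mem_O.1 (E_le_O (l.Nh_le hn')) w
        change Q ((n : V ≃ₗ[F] V) ((n : V ≃ₗ[F] V) b1)) = Q (δ • (b1 : V)) at h1
        rw [hnO, hnO, QuadraticMap.map_smul, smul_eq_mul] at h1
        have h2 : (δ * δ - 1) * Q (b1 : V) = 0 := by linear_combination -h1
        exact sub_eq_zero.1 ((mul_eq_zero.1 h2).resolve_right hb1)
      have h4 : (δ - 1) * (δ + 1) = 0 := by linear_combination hδ2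
      rcases mul_eq_zero.1 h4 with h5 | h5
      · left
        intro w
        apply Subtype.ext
        change (n : V ≃ₗ[F] V) ((n : V ≃ₗ[F] V) w) = w
        rw [hδ w w.2, sub_eq_zero.1 h5, one_smul]
      · right
        intro w
        apply Subtype.ext
        change (n : V ≃ₗ[F] V) ((n : V ≃ₗ[F] V) w) = -(w : V)
        rw [hδ w w.2, eq_neg_of_add_eq_zero_left h5, neg_smul, one_smul]
    · rintro _ ⟨n, hn, rfl⟩ _ ⟨m, hm, rfl⟩
      have hn' := mem_subgroupOf.1 hn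
      have hm' := mem_subgroupOf.1 hm
      obtain ⟨γ, hγ1, hγ⟩ : ∃ γ : F, (γ = 1 ∨ γ = -1) ∧ ∀ b, u b = -b →
          (n : V ≃ₗ[F] V) ((m : V ≃ₗ[F] V) b) = γ • (m : V ≃ₗ[F] V) ((n : V ≃ₗ[F] V) b) := by
        obtain ⟨c5, hc5, h | h⟩ := l.comm n hn' m hm'
        · exact ⟨c5, hc5, fun b _ => h b⟩
        · refine ⟨c5 * (-c), ?_, fun b hb => ?_⟩
          · rcases hc5 with rfl | rfl <;> rcases hc with rfl | rfl <;> simp
          · have h1 : (n : V ≃ₗ[F] V) ((m : V ≃ₗ[F] V) b) = c5 • zh ((m : V ≃ₗ[F] V) ((n : V ≃ₗ[F] V) b)) := h b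
            rw [h1, hzc _ (cen_Vn m.2 (cen_Vn n.2 hb)), smul_smul]
      rcases hγ1 with h1 | h1
      · left
        intro w
        apply Subtype.ext
        change (n : V ≃ₗ[F] V) ((m : V ≃ₗ[F] V) w) = (m : V ≃ₗ[F] V) ((n : V ≃ₗ[F] V) w)
        rw [hγ w w.2, h1, one_smul]
      · right
        intro w
        apply Subtype.ext
        change (n : V ≃ₗ[F] V) ((m : V ≃ₗ[F] V) w) = -(m : V ≃ₗ[F] V) ((n : V ≃ₗ[F] V) w)
        rw [hγ w w.2, h1, neg_smul, one_smul]
    · rintro _ ⟨n, hn, rfl⟩ w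
      apply Subtype.ext
      exact LinearEquiv.congr_fun (hsN n (mem_subgroupOf.1 hn)) w
  have hpE : ⁅Eh.subgroupOf C, Eh.subgroupOf C⁆ = Eh.subgroupOf C := by
    refine Subgroup.map_injective C.subtype_injective ?_
    rw [Subgroup.map_commutator, Subgroup.map_subgroupOf_eq_of_le hEC, l.Eh_perf]
  have hEEp : ⁅EE, EE⁆ = EE := by
    change ⁅(Eh.subgroupOf C).map (resW u), (Eh.subgroupOf C).map (resW u)⁆ = _
    rw [← Subgroup.map_commutator, hpE]
  have hEiso : ∀ g ∈ EE, ∀ a b, hW Q u (g a) (g b) = hW Q u a b := by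
    rintro _ ⟨e, he, rfl⟩ a b
    exact polar_map (E_le_O (l.Eh_le (mem_subgroupOf.1 he))) _ _
  have hEN : ∀ g ∈ EE, ∀ n ∈ NN, n * g = g * n := by
    rintro _ ⟨e, he, rfl⟩ _ ⟨n, hn, rfl⟩
    rw [← map_mul, ← map_mul]
    congr 1
    exact Subtype.ext (l.Eh_comm e (mem_subgroupOf.1 he) n (mem_subgroupOf.1 hn)).symm
  -- extensions commute with `Nh` if they do on `Vc`
  have hext : ∀ (t : ↥(Vn u) ≃ₗ[F] ↥(Vn u)) (m : V ≃ₗ[F] V) (hm : m ∈ C),
      t * resW u ⟨m, hm⟩ = resW u ⟨m, hm⟩ * t → extW two hu t * m = m * extW two hu t := by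
    intro t m hm h
    apply LinearEquiv.ext
    intro v
    obtain ⟨a, b, rfl, ha, hb⟩ := half_decomp two hu v
    change extW two hu t (m (a + b)) = m (extW two hu t (a + b))
    have h1 : u (m a) = m a := by rw [cen_apply hm, ha]
    have h2 : extW two hu t (m b) = m (extW two hu t b) := by
      have e1 : extW two hu t (m b) = (t ⟨m b, cen_Vn hm hb⟩ : V) := extW_mem two hu t ⟨m b, cen_Vn hm hb⟩
      have e2 : extW two hu t b = (t ⟨b, hb⟩ : V) := extW_mem two hu t ⟨b, hb⟩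
      rw [e1, e2]
      exact congrArg Subtype.val (LinearEquiv.congr_fun h ⟨b, hb⟩)
    rw [map_add, map_add, map_add, map_add, extW_fix two hu t h1, extW_fix two hu t ha, h2]
  rcases structureL_sym D hEEp hEiso hEN with ⟨v, j, h3⟩ | ⟨t, ht⟩
  · -- three planes: `T5`
    exfalso
    let X : Fin 3 → (V ≃ₗ[F] V) := fun k => extW two hu (j k)
    have hXE : ∀ k i, X k * X i ∈ E Q := fun k i => by
      change extW two hu (j k) * extW two hu (j i) ∈ E Q
      rw [← map_mul]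
      exact extW_mem_E two hu hG huO (h3.mem2 k i)
    have hXN : ∀ k, ∀ n ∈ Nh, X k * n = n * X k := fun k n hn =>
      hext (j k) n (hNC hn) (h3.nn k _ (hmemN n hn)).symm
    have hXX : ∀ k i, X k * X i = X i * X k := fun k i => by
      change extW two hu (j k) * extW two hu (j i) = extW two hu (j i) * extW two hu (j k)
      rw [← map_mul, ← map_mul, h3.comm]
    have hX4 : ∀ k, X k ^ 4 = 1 := fun k => by
      change (extW two hu (j k)) ^ 4 = 1
      rw [← map_pow, h3.four, map_one]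
    have hXr : ∀ k a, u a = a → X k a = a := fun k a ha => extW_fix two hu (j k) ha
    have hXv : ∀ k i, k ≠ i → X k (v i) = v i := fun k i hki => by
      have := extW_mem two hu (j k) (v i)
      rw [h3.other k i hki] at this
      exact this
    have hJ : ∀ w : ↥(Vn u), ((resW u ⟨sh, hNC l.sN⟩ w : ↥(Vn u)) : V) = sh w := fun w => rfl
    have hXJ : ∀ k i, k ≠ i → X k (sh (v i)) = sh (v i) := fun k i hki => by
      have := extW_mem two hu (j k) (resW u ⟨sh, hNC l.sN⟩ (v i))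
      rw [h3.otherJ k i hki] at this
      exact this
    have hXs : ∀ k, X k (v k) = sh (v k) := fun k => by
      have := extW_mem two hu (j k) (v k)
      rw [h3.self k] at this
      exact this
    have hXsJ : ∀ k, X k (sh (v k)) = -(v k : V) := fun k => by
      have := extW_mem two hu (j k) (resW u ⟨sh, hNC l.sN⟩ (v k))
      rw [h3.selfJ k] at this
      exact this
    have hv0 : ∀ k, (v k : V) ≠ 0 := fun k h => by
      have h1 := h3.norm k
      rw [hW_apply, h, polar_zero_left] at h1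
      exact zero_ne_one h1
    have hmC : ∀ k i, ∀ n ∈ N0, π ⟨X k * X i, hXE k i⟩ * n = n * π ⟨X k * X i, hXE k i⟩ := fun k i =>
      l.mem_C L (hXE k i) fun n hn => ⟨1, fun w => by
        rw [one_smul, mul_assoc, hXN i n hn, ← mul_assoc, hXN k n hn, mul_assoc]⟩
    have hsE := l.Nh_le l.sN
    have h01 : X 0 * X 1 * (X 0 * X 0) = X 0 * X 0 * (X 0 * X 1) := by
      rw [mul_assoc, ← mul_assoc (X 1), hXX 1 0, mul_assoc (X 0) (X 1), hXX 1 0, ← mul_assoc, mul_assoc (X 0) (X 0)]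
    refine T.T5 (a := π ⟨X 0 * X 1, hXE 0 1⟩) (b := π ⟨X 0 * X 0, hXE 0 0⟩) (hmC 0 1) (hmC 0 0) ?_ ?_ ?_ ?_
    · have h02 := congrArg π (show (⟨X 0 * X 1, hXE 0 1⟩ * ⟨X 0 * X 0, hXE 0 0⟩ : E Q) =
        ⟨X 0 * X 0, hXE 0 0⟩ * ⟨X 0 * X 1, hXE 0 1⟩ from Subtype.ext h01)
      exact (map_mul π _ _).symm.trans (h02.trans (map_mul π _ _))
    · rw [← map_pow, ← map_one π]
      refine congrArg π (Subtype.ext ?_)
      change (X 0 * X 1) ^ 4 = 1
      rw [(show Commute (X 0) (X 1) from hXX 0 1).mul_pow, hX4, hX4, one_mul]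
    · rw [← map_pow, ← map_one π]
      refine congrArg π (Subtype.ext ?_)
      change (X 0 * X 0) ^ 2 = 1
      rw [← pow_two, ← pow_mul, hX4]
    · intro i k hik
      obtain ⟨t, ht⟩ := mem_powers_iff_mem_zpowers.2 hik
      have ht0 : s ^ t = π ⟨X 0 * X 1, hXE 0 1⟩ ^ i * π ⟨X 0 * X 0, hXE 0 0⟩ ^ k := ht
      obtain ⟨d, hd0, hd⟩ := L.smul_of_eq (g := ⟨X 0 * X 1, hXE 0 1⟩ ^ i * ⟨X 0 * X 0, hXE 0 0⟩ ^ k)
        (h := ⟨sh, hsE⟩ ^ t) (by rw [map_mul, map_pow, map_pow, map_pow, l.pi_s hsE, ht0])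
      have hR : ∀ w, ((X 0 * X 1) ^ i) (((X 0 * X 0) ^ k) w) = d • (sh ^ t) w := hd
      have f01 : ∀ w, X 0 w = w → X 1 w = w → ((X 0 * X 1) ^ i) (((X 0 * X 0) ^ k) w) = w := by
        intro w h0 h1
        have e1 : (X 0 * X 0) w = w := by change X 0 (X 0 w) = w; rw [h0, h0]
        have e2 : (X 0 * X 1) w = w := by change X 0 (X 1 w) = w; rw [h1, h0]
        rw [pow_fix e1, pow_fix e2]
      have g1 := hR a0
      have g2 := hR (v 2)
      rw [f01 a0 (hXr 0 a0 haa) (hXr 1 a0 haa)] at g1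
      rw [f01 (v 2) (hXv 0 2 (by decide)) (hXv 1 2 (by decide))] at g2
      have hsq : ∀ w, (sh ^ t) ((sh ^ t) w) = (u ^ t) w := fun w => by
        rw [hudef, (Commute.refl sh).mul_pow]; rfl
      have k1 : (d * d) • a0 = a0 := by
        have h2 : d • (sh ^ t) (d • (sh ^ t) a0) = a0 := by rw [← g1, ← g1]
        rw [map_smul, hsq, pow_fix (show u a0 = a0 from haa), smul_smul] at h2
        exact h2
      have k2 : (d * d) • ((-1 : F) ^ t • (v 2 : V)) = v 2 := by
        have h2 : d • (sh ^ t) (d • (sh ^ t) (v 2 : V)) = v 2 := by rw [← g2, ← g2]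
        rw [map_smul, hsq, pow_neg_fix (v 2).2, smul_smul] at h2
        exact h2
      have k3 : d * d = 1 := by
        have h3 : (d * d - 1) • a0 = 0 := by rw [sub_smul, k1, one_smul, sub_self]
        exact sub_eq_zero.1 ((smul_eq_zero.1 h3).resolve_right ha0)
      rw [k3, one_smul] at k2
      obtain ⟨t', rfl⟩ := even_of_fix two (hv0 2) k2
      have hst : ∀ w, (sh ^ (t' + t')) w = (u ^ t') w := fun w => by
        rw [hudef, (Commute.refl sh).mul_pow, pow_add]
      rw [hst, pow_fix (show u a0 = a0 from haa)] at g1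
      have k4 : d = 1 := by
        have h3 : (d - 1) • a0 = 0 := by rw [sub_smul, ← g1, one_smul, sub_self]
        exact sub_eq_zero.1 ((smul_eq_zero.1 h3).resolve_right ha0)
      rw [hst, pow_neg_fix (v 2).2, k4, one_smul] at g2
      obtain ⟨t'', rfl⟩ := even_of_fix two (hv0 2) g2.symm
      have hR1 : ∀ w, ((X 0 * X 1) ^ i) (((X 0 * X 0) ^ k) w) = w := by
        intro w
        have e1 : u ^ (t'' + t'') = 1 := by rw [← two_mul, pow_mul, pow_two, hu, one_pow]
        rw [hR, hst, k4, one_smul, e1]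
        rfl
      -- on `v 1`
      have hZ1 : (X 0 * X 1) (v 1 : V) = sh (v 1) := by
        change X 0 (X 1 (v 1 : V)) = _
        rw [hXs, hXJ 0 1 (by decide)]
      have hZ2 : (X 0 * X 1) (sh (v 1 : V)) = -(v 1 : V) := by
        change X 0 (X 1 (sh (v 1 : V))) = _
        rw [hXsJ, map_neg, hXv 0 1 (by decide)]
      have hY1 : ((X 0 * X 0) ^ k) (v 1 : V) = v 1 := by
        refine pow_fix ?_ k
        change X 0 (X 0 (v 1 : V)) = _
        rw [hXv 0 1 (by decide), hXv 0 1 (by decide)]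
      have hi := hR1 (v 1)
      rw [hY1] at hi
      have hZ4 : (X 0 * X 1) ^ 4 = 1 := by
        rw [(show Commute (X 0) (X 1) from hXX 0 1).mul_pow, hX4, hX4, one_mul]
      have hv1 : ∀ w : V, w ≠ 0 → w ≠ -w := by
        intro w hw h
        have h5 : (2 : F) • w = 0 := by
          rw [two_smul]; nth_rewrite 1 [h]; rw [neg_add_cancel]
        exact hw ((smul_eq_zero.1 h5).resolve_left two)
      have hsv : sh (sh (v 1 : V)) = -(v 1 : V) := (v 1).2
      have h4i : 4 ∣ i := by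
        rw [← Nat.div_add_mod i 4, pow_add, pow_mul, hZ4, one_pow, one_mul] at hi
        have hlt := Nat.mod_lt i (show 0 < 4 by norm_num)
        rw [Nat.dvd_iff_mod_eq_zero]
        by_contra hne
        obtain h | h | h : i % 4 = 1 ∨ i % 4 = 2 ∨ i % 4 = 3 := by omega
        · rw [h, pow_one, hZ1] at hi
          rw [hi, hi] at hsv
          exact hv1 _ (hv0 1) hsv
        · rw [h, pow_two] at hi
          change (X 0 * X 1) ((X 0 * X 1) (v 1 : V)) = _ at hi
          rw [hZ1, hZ2] at hi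
          exact hv1 _ (hv0 1) hi.symm
        · rw [h, pow_succ, pow_two] at hi
          change (X 0 * X 1) ((X 0 * X 1) ((X 0 * X 1) (v 1 : V))) = _ at hi
          rw [hZ1, hZ2, map_neg, hZ1] at hi
          have h5 : sh (v 1 : V) = -(v 1 : V) := neg_eq_iff_eq_neg.1 hi
          rw [h5, map_neg, h5, neg_neg] at hsv
          exact hv1 _ (hv0 1) hsv
      refine ⟨h4i, ?_⟩
      -- on `v 0`
      obtain ⟨i', rfl⟩ := h4i
      have h0 := hR1 (v 0)
      rw [pow_mul, hZ4, one_pow] at h0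
      have e1 : (X 0 * X 0) (v 0 : V) = -(v 0 : V) := by
        change X 0 (X 0 (v 0 : V)) = _
        rw [hXs, hXsJ]
      have e2 : ((X 0 * X 0) ^ k) (v 0 : V) = v 0 := h0
      rw [pow_neg_fix e1] at e2
      exact (even_of_fix two (hv0 0) e2).two_dvd
  · rcases ht.mem with hm | ⟨hcomm, hEE, v, hv, hspan⟩
    · -- `T1`
      exfalso
      have hτE : extW two hu t ∈ E Q := extW_mem_E two hu hG huO hm
      have hτr : ∀ a, u a = a → extW two hu t a = a := fun a ha => extW_fix two hu t ha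
      have hτc : ∀ b (hb : u b = -b), extW two hu t b = (t ⟨b, hb⟩ : V) := fun b hb => extW_mem two hu t ⟨b, hb⟩
      have hT := l.T1 T L (g := extW two hu t) hτE ?_ ?_
      · obtain ⟨c4, -, h4⟩ := hT
        have h4' : ∀ v, extW two hu t (sh v) = c4 • sh (extW two hu t v) := h4
        have husa : u (sh a0) = sh a0 := by
          change sh (sh (sh a0)) = sh a0
          rw [haa]
        have h5 := h4' a0
        rw [hτr a0 haa, hτr _ husa] at h5
        have h6 : (1 - c4) • sh a0 = 0 := by rw [sub_smul, one_smul, ← h5, sub_self]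
        have h7 : c4 = 1 := by
          rcases smul_eq_zero.1 h6 with h8 | h8
          · exact (sub_eq_zero.1 h8).symm
          · exact absurd (sh.map_eq_zero_iff.1 h8) ha0
        have h8 := h4' b0
        have husb : u (sh b0) = - sh b0 := by
          change sh (sh (sh b0)) = -sh b0
          rw [hbb, map_neg]
        have h9 : (t ⟨sh b0, husb⟩ : V) = - sh (t ⟨b0, hbb⟩ : V) := congrArg Subtype.val (ht.antiJ ⟨b0, hbb⟩)
        rw [hτc b0 hbb, hτc _ husb, h9, h7, one_smul] at h8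
        have h10 : (2 : F) • sh (t ⟨b0, hbb⟩ : V) = 0 := by
          rw [two_smul]; nth_rewrite 1 [← h8]; rw [neg_add_cancel]
        have h11 : (t ⟨b0, hbb⟩ : V) = 0 := sh.map_eq_zero_iff.1 ((smul_eq_zero.1 h10).resolve_left two)
        have h12 : t ⟨b0, hbb⟩ = 0 := Subtype.ext h11
        exact hb0 (congrArg Subtype.val (t.map_eq_zero_iff.1 h12))
      · intro m hm'
        have hmC := hNC hm'
        rcases ht.nn _ (hmemN m hm') with h | h
        · refine ⟨1, Or.inl fun v => ?_⟩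
          rw [one_smul]
          exact LinearEquiv.congr_fun (hext t m hmC (LinearEquiv.ext h)) v
        · refine ⟨c, Or.inr fun v => ?_⟩
          obtain ⟨a, b, rfl, ha, hb⟩ := half_decomp two hu v
          change extW two hu t (m (a + b)) = c • zh (m (extW two hu t (a + b)))
          have h1 : u (m a) = m a := by rw [cen_apply hmC, ha]
          have h2 : u (m b) = - m b := by rw [cen_apply hmC, hb, map_neg]
          have h3 : (t ⟨m b, h2⟩ : V) = - m (t ⟨b, hb⟩ : V) := congrArg Subtype.val (h ⟨b, hb⟩)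
          have h4 : u (m (t ⟨b, hb⟩ : V)) = - m (t ⟨b, hb⟩ : V) := by
            rw [cen_apply hmC, mem_Vn.1 (t ⟨b, hb⟩).2, map_neg]
          have h1' : sh (sh (m a)) = m a := h1
          rw [map_add, map_add, map_add, map_add, map_add, hτr a ha, hτr _ h1, hτc b hb, hτc _ h2, h3, hzc _ h4, hz,
            h1', smul_add, smul_smul, smul_smul, hc2, mul_neg, hc2, one_smul, neg_smul, one_smul]
      · intro e he
        refine ⟨1, fun v => ?_⟩
        rw [one_smul]
        exact LinearEquiv.congr_fun (hext t e (hEC he) (ht.ee _ (hmemE e he)).symm) v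
    · refine ⟨⟨hG, two, T, L, l, hsN, ⟨b0, hb0, hbb⟩, ?_⟩, ?_, v, sh v, ?_⟩
      · intro n hn m hm w hw
        have h1 := hcomm _ (hmemN n hn) _ (hmemN m hm)
        exact congrArg Subtype.val (LinearEquiv.congr_fun h1 ⟨w, hw⟩)
      · intro e he w hw
        have h1 : resW u ⟨e, hEC he⟩ = 1 := by
          have := hmemE e he
          rw [hEE] at this
          exact this
        exact congrArg Subtype.val (LinearEquiv.congr_fun h1 ⟨w, hw⟩)
      · intro b hb
        obtain ⟨x, y, hxy⟩ := hspan ⟨b, hb⟩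
        exact ⟨x, y, congrArg Subtype.val hxy⟩

end Cfsg.Agent.H100.C3
end

-- part: H100/C3/RowPOmega
section
/-!
# S1920, case B: the rows `PΩ_{2m+1}(F)`, `PΩ⁺_{2m}(F)`, `PΩ⁻_{2m}(F)` (helper100)
-/

set_option autoImplicit false

open Subgroup Module

namespace Cfsg.Agent.H100.C3

open QuadraticMap Cfsg.Agent.H415.C3 Cfsg.Agent.LieClassical.OrthCore Cfsg.Agent.LieClassical.OrthTrans
open Cfsg.Agent.AutOrth.Main (good_plus good_minus good_odd)
open Cfsg.Agent.LieClassical.QuadForms (plusForm minusForm oddForm coe_plusForm coe_minusForm coe_oddForm)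
open Cfsg.Agent.H13.Co3 (CB)

/-- **A simple orthogonal group in odd characteristic has no configuration `CB`.** -/
theorem false_of_lin {G : Type*} [Group G] [Finite G] {F : Type*} [Field F] [Finite F] {ι : Type*} [Finite ι]
    {Q : QuadraticForm F (ι → F)} {π : ↥(E Q) →* G} (hG : Good Q) (L : Lin (E Q) π) (h2 : (2 : F) ≠ 0)
    {P N0 : Subgroup G} {z s : G} {ψ : ↥(normalizer (P : Set G)) →* Equiv.Perm (Fin 6)} (C : CB P N0 z s ψ) :
    False := by
  obtain ⟨A, Ek, x, r, φ, T⟩ := exists_kit C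
  have hVV : Finite ((ι → F) ≃ₗ[F] (ι → F)) :=
    Finite.of_injective (fun f : (ι → F) ≃ₗ[F] (ι → F) => (f : (ι → F) → (ι → F))) DFunLike.coe_injective
  obtain ⟨Nh, Eh, zh, sh, xh, rh, l⟩ := exists_lkit L h2 T
  obtain ⟨S, hE, -⟩ := step_two hG h2 T L l
  exact Cfsg.Agent.H14.C3.sec_five_aux S hE fun ε n1 n2 m1 m2 B => arf_zero S B

theorem false_of_pomega {ι : Type} [Fintype ι] [DecidableEq ι] {F : Type*} [Field F] [Finite F]
    {Q : QuadraticForm F (ι → F)} (hG : Good Q) {f : (ι → F) → F} (h : ⇑Q = f) {G : Type*} [Group G] [Finite G]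
    (e : G ≃* Cfsg.POmega F f) (h2 : (2 : F) ≠ 0)
    {P N0 : Subgroup G} {z s : G} {ψ : ↥(normalizer (P : Set G)) →* Equiv.Perm (Fin 6)} (C : CB P N0 z s ψ) :
    False := by
  obtain ⟨π, L⟩ := lin_pomega hG h e
  exact false_of_lin hG L h2 C

universe u

/-- **The row `IsPOmegaOdd`** -/
theorem row_odd : Cfsg.Agent.H527.Co3.Row.{u} @Cfsg.IsPOmegaOdd := by
  intro G _ _ _ hG P N0 z s ψ C
  obtain ⟨F, i1, i2, m, hm, hodd, ⟨e⟩⟩ := hG
  have h2 : (2 : F) ≠ 0 := by
    intro h2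
    have h3 := FiniteField.even_card_of_char_two (F := F)
      (CharP.ringChar_of_prime_eq_zero Nat.prime_two (by exact_mod_cast h2))
    rw [Nat.odd_iff] at hodd
    omega
  exact false_of_pomega (good_odd (by omega) h2) (coe_oddForm m) e h2 C

section

variable (H : ∀ (G : Type u) [Group G] [Finite G] [IsSimpleGroup G] (P N0 : Subgroup G) (z s : G)
    (ψ : ↥(normalizer (P : Set G)) →* Equiv.Perm (Fin 6)), CB P N0 z s ψ → Cfsg.IsLieTypeChar 2 G → False)
include H

/-- **The row `IsPOmegaPlus`**, from the characteristic 2 case (`H738/C3/Char2Rows.false_of_lieTwo`) -/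
theorem row_plus_of : Cfsg.Agent.H527.Co3.Row.{u} @Cfsg.IsPOmegaPlus := by
  intro G _ _ _ hG P N0 z s ψ C
  obtain ⟨F, i1, i2, m, hm, ⟨e⟩⟩ := hG
  by_cases h2 : (2 : F) = 0
  · have hch : CharP F 2 := CharTwo.of_one_ne_zero_of_two_eq_zero one_ne_zero h2
    exact H G P N0 z s ψ C (Or.inr (Or.inr (Or.inr (Or.inr (Or.inl ⟨F, i1, i2, hch, m, hm, ⟨e⟩⟩)))))
  · exact false_of_pomega (good_plus (by omega)) (coe_plusForm m) e h2 C

/-- **The row `IsPOmegaMinus`**, from the characteristic 2 case (`H738/C3/Char2Rows.false_of_lieTwo`) -/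
theorem row_minus_of : Cfsg.Agent.H527.Co3.Row.{u} @Cfsg.IsPOmegaMinus := by
  intro G _ _ _ hG P N0 z s ψ C
  obtain ⟨F, i1, i2, m, a, b, hm, hab, ⟨e⟩⟩ := hG
  by_cases h2 : (2 : F) = 0
  · have hch : CharP F 2 := CharTwo.of_one_ne_zero_of_two_eq_zero one_ne_zero h2
    exact H G P N0 z s ψ C (Or.inr (Or.inr (Or.inr (Or.inr (Or.inr (Or.inl ⟨F, i1, i2, hch, m, a, b, hm, hab, ⟨e⟩⟩))))))
  · exact false_of_pomega (good_minus (by omega) hab) (coe_minusForm (m - 1) a b) e h2 C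

end

end Cfsg.Agent.H100.C3
end

private theorem dce_4729d807df47 : _root_.True := by
  try have : _root_.True := by simp only [_root_.Cfsg.Agent.H527.C3.Full.jv.eq_1]
  try have : _root_.True := by simp only [_root_.Cfsg.Agent.H100.C3.extF.eq_1]
  try have : _root_.True := by simp only [_root_.Cfsg.Agent.H527.C3.Full.sw.eq_1]
  try have : _root_.True := by simp only [_root_.Cfsg.Agent.H527.C3.Full.Ru.congr_simp]
  try have : _root_.True := by simp only [_root_.Cfsg.Agent.H527.C3.Dat.Same.congr_simp]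
  try have : _root_.True := by simp only [_root_.Cfsg.Agent.H527.C3.Full.Tu.congr_simp]
  try have : _root_.True := by simp only [_root_.Cfsg.Agent.H527.C3.Full.jv.congr_simp]
  exact _root_.True.intro
end

-- part: H542/Co3/X0E8_mg
section
prune_inst 0x315041007e6202000000000600000230280004000000000008a00000010900200900200006000000000080000000000000100010004000000e000000000500000000120011400100000008000000000000000000000000000000000000000000000000000
set_option linter.all false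
open scoped Cfsg.Agent.FastGrp

-- part: H542/Co3/Tab
section
/-!
# Truth tables over `(Z/4)^l` (helper542, S1920)

For a list `R` of vectors with natural coordinates and a vector `v : Fin l → ZMod 4`, let `c₁` be the number of `r ∈ R`
with `⟨r, v⟩` odd and `c₂` the number with `⟨r, v⟩ = 2`. `check l n R L = true` implies that `(c₁, c₂)` lies in the list
`L`, for all `v`. The check works with truth tables: a function on the `4 ^ l` vectors is a natural number with `4 ^ l`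
binary digits.
-/

set_option autoImplicit false

namespace Cfsg.Agent.H542.Co3.Tab

/-! ### truth tables of the coordinates -/

/-- the truth table of the binary digit `j`, on `2 ^ n` positions -/
def sl : ℕ → ℕ → ℕ
  | 0, _ => 0
  | n + 1, j => if j = n then (2 ^ 2 ^ n - 1) * 2 ^ 2 ^ n else sl n j * (2 ^ 2 ^ n + 1)

theorem sl_lt : ∀ n j : ℕ, sl n j < 2 ^ 2 ^ n
  | 0, _ => by simp [sl]
  | n + 1, j => by
    have h := sl_lt n j
    have h1 : 0 < 2 ^ 2 ^ n := by positivity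
    have h2 : (2 : ℕ) ^ 2 ^ (n + 1) = 2 ^ 2 ^ n * 2 ^ 2 ^ n := by rw [← pow_add]; congr 1; ring
    rw [sl, h2]
    split_ifs
    · exact Nat.mul_lt_mul_of_pos_right (Nat.sub_lt h1 one_pos) h1
    · generalize 2 ^ 2 ^ n = a at *
      nlinarith only [h]

theorem testBit_sl : ∀ n j : ℕ, j < n → ∀ p < 2 ^ n, (sl n j).testBit p = p.testBit j
  | 0, j, h => absurd h (Nat.not_lt_zero j)
  | n + 1, j, h => by
    intro p hp
    rw [sl]
    split_ifs with hj
    · subst hj
      rw [mul_comm, ← add_zero (2 ^ 2 ^ j * (2 ^ 2 ^ j - 1)), Nat.testBit_two_pow_mul_add _ (by positivity),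
        Nat.zero_testBit, Nat.testBit_two_pow_sub_one]
      rcases lt_or_ge p (2 ^ j) with h1 | h1
      · rw [if_pos h1, Nat.testBit_lt_two_pow h1]
      · rw [if_neg (not_lt.2 h1)]
        obtain ⟨q, rfl⟩ := Nat.exists_eq_add_of_le h1
        have hq : q < 2 ^ j := by rw [pow_succ] at hp; omega
        rw [Nat.testBit_two_pow_add_eq, Nat.testBit_lt_two_pow hq]
        simp [hq]
    · have hjn : j < n := by omega
      have e1 : sl n j * (2 ^ 2 ^ n + 1) = 2 ^ 2 ^ n * sl n j + sl n j := by ring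
      rw [e1, Nat.testBit_two_pow_mul_add _ (sl_lt n j)]
      rcases lt_or_ge p (2 ^ n) with h1 | h1
      · rw [if_pos h1, testBit_sl n j hjn p h1]
      · rw [if_neg (not_lt.2 h1)]
        obtain ⟨q, rfl⟩ := Nat.exists_eq_add_of_le h1
        have hq : q < 2 ^ n := by rw [pow_succ] at hp; omega
        rw [Nat.add_sub_cancel_left, testBit_sl n j hjn q hq, Nat.testBit_two_pow_add_gt hjn]

/-! ### tables with values in `Z/4` -/

/-- addition of two tables with values in `Z/4` -/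
def add4 (x y : ℕ × ℕ) : ℕ × ℕ := (x.1 ^^^ y.1, (x.2 ^^^ y.2) ^^^ (x.1 &&& y.1))

/-- the value at `p` -/
def v4 (p : ℕ) (x : ℕ × ℕ) : ZMod 4 := ((x.1.testBit p).toNat : ZMod 4) + 2 * ((x.2.testBit p).toNat : ZMod 4)

theorem v4_add4 (p : ℕ) (x y : ℕ × ℕ) : v4 p (add4 x y) = v4 p x + v4 p y := by
  unfold v4 add4
  simp only [Nat.testBit_xor, Nat.testBit_and]
  cases x.1.testBit p <;> cases y.1.testBit p <;> cases x.2.testBit p <;> cases y.2.testBit p <;> decide

/-- multiples -/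
def mul4 : ℕ → ℕ × ℕ → ℕ × ℕ
  | 0, _ => (0, 0)
  | n + 1, x => add4 (mul4 n x) x

theorem v4_zero (p : ℕ) : v4 p (0, 0) = 0 := by
  simp [v4]

theorem v4_mul4 (p : ℕ) (x : ℕ × ℕ) : ∀ n : ℕ, v4 p (mul4 n x) = n * v4 p x
  | 0 => by rw [mul4, v4_zero]; simp
  | n + 1 => by rw [mul4, v4_add4, v4_mul4 p x n]; push_cast; ring

/-- linear combinations -/
def dot : List ℕ → List (ℕ × ℕ) → ℕ × ℕ
  | a :: as, x :: xs => add4 (mul4 a x) (dot as xs)
  | _, _ => (0, 0)

/-- linear combinations of values -/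
def dotV : List ℕ → List (ZMod 4) → ZMod 4
  | a :: as, x :: xs => a * x + dotV as xs
  | _, _ => 0

theorem v4_dot (p : ℕ) : ∀ (a : List ℕ) (x : List (ℕ × ℕ)), v4 p (dot a x) = dotV a (x.map (v4 p))
  | [], _ => by simp only [dot, dotV, v4_zero]
  | _ :: _, [] => by simp only [dot, List.map_nil, dotV, v4_zero]
  | a :: as, x :: xs => by rw [dot, List.map_cons, dotV, v4_add4, v4_mul4, v4_dot p as xs]

/-! ### counters -/

/-- add one table to a counter -/
def inc : List ℕ → ℕ → List ℕ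
  | [], _ => []
  | c :: cs, b => (c ^^^ b) :: inc cs (c &&& b)

/-- the value of a counter at `p` -/
def cv (p : ℕ) : List ℕ → ℕ
  | [] => 0
  | c :: cs => (c.testBit p).toNat + 2 * cv p cs

theorem inc_length : ∀ (cs : List ℕ) (b : ℕ), (inc cs b).length = cs.length
  | [], _ => rfl
  | c :: cs, b => by rw [inc, List.length_cons, List.length_cons, inc_length cs]

theorem cv_inc (p : ℕ) : ∀ (cs : List ℕ) (b : ℕ), cv p (inc cs b) ≡ cv p cs + (b.testBit p).toNat [MOD 2 ^ cs.length]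
  | [], b => by simp [Nat.modEq_one]
  | c :: cs, b => by
    rw [inc, cv, cv, List.length_cons, pow_succ']
    have h := (cv_inc p cs (c &&& b)).mul_left' 2
    rw [Nat.testBit_and] at h
    have h2 := h.add_left ((c ^^^ b).testBit p).toNat
    refine h2.trans ?_
    rw [Nat.testBit_xor]
    cases c.testBit p <;> cases b.testBit p <;> simp only [mul_add, _root_.bne_self_eq_false, _root_.Bool.toNat_false, _root_.Bool.and_self, _root_.add_zero, _root_.zero_add, _root_.Bool.bne_true, _root_.Bool.not_false, _root_.Bool.toNat_true, _root_.Bool.and_true, _root_.Bool.bne_false, _root_.Bool.and_false, _root_.mul_one] <;> rw [Nat.ModEq] <;> congr 1 <;> ring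

/-- zero counter -/
def zer (n : ℕ) : List ℕ := List.replicate n 0

theorem cv_zer (p : ℕ) : ∀ n : ℕ, cv p (zer n) = 0
  | 0 => rfl
  | n + 1 => by
    have := cv_zer p n
    rw [zer, List.replicate_succ, cv]
    rw [zer] at this
    rw [this]
    simp

/-- count -/
def cnt (n : ℕ) : List ℕ → List ℕ
  | [] => zer n
  | b :: bs => inc (cnt n bs) b

theorem cnt_length (n : ℕ) : ∀ bs : List ℕ, (cnt n bs).length = n
  | [] => by simp [cnt, zer]
  | b :: bs => by rw [cnt, inc_length, cnt_length n bs]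

theorem cv_cnt (p n : ℕ) : ∀ bs : List ℕ, cv p (cnt n bs) ≡ (bs.countP fun b => b.testBit p) [MOD 2 ^ n]
  | [] => by rw [cnt, cv_zer]; rfl
  | b :: bs => by
    rw [cnt]
    have h := cv_inc p (cnt n bs) b
    rw [cnt_length] at h
    refine h.trans (((cv_cnt p n bs).add_right _).trans ?_)
    rw [List.countP_cons]
    cases b.testBit p <;> rfl

theorem cv_lt (p : ℕ) : ∀ cs : List ℕ, cv p cs < 2 ^ cs.length
  | [] => by simp [cv]
  | c :: cs => by
    have := cv_lt p cs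
    rw [cv, List.length_cons, pow_succ']
    have h1 : (c.testBit p).toNat ≤ 1 := by cases c.testBit p <;> simp
    omega

theorem cv_cnt_eq (p n : ℕ) (bs : List ℕ) (h : bs.length < 2 ^ n) :
    cv p (cnt n bs) = bs.countP fun b => b.testBit p := by
  have h1 := cv_cnt p n bs
  have h2 := cv_lt p (cnt n bs)
  rw [cnt_length] at h2
  exact Nat.ModEq.eq_of_lt_of_lt h1 h2 (List.countP_le_length.trans_lt h)

/-! ### the test of the values -/

/-- the table of the positions where the counter has the value `a` -/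
def eqc (full : ℕ) : List ℕ → ℕ → ℕ
  | [], _ => full
  | c :: cs, a => (if a % 2 = 1 then c else c ^^^ full) &&& eqc full cs (a / 2)

theorem eqc_spec {full p : ℕ} (hp : full.testBit p = true) : ∀ (cs : List ℕ) (a : ℕ), a < 2 ^ cs.length →
    (eqc full cs a).testBit p = true → cv p cs = a
  | [], a, ha => by
    intro _
    simp at ha
    rw [cv, ha]
  | c :: cs, a, ha => by
    intro h
    rw [eqc, Nat.testBit_and, Bool.and_eq_true] at h
    rw [List.length_cons, pow_succ'] at ha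
    rw [cv, eqc_spec hp cs (a / 2) (by omega) h.2]
    have h1 := h.1
    split_ifs at h1 with h2
    · rw [h1]; simp; omega
    · rw [Nat.testBit_xor, hp] at h1
      have : c.testBit p = false := by
        cases hc : c.testBit p
        · rfl
        · rw [hc] at h1; exact absurd h1 (by decide)
      rw [this]; simp; omega

/-- the union of the tables for the pairs of `L` -/
def good (full : ℕ) (cs ds : List ℕ) : List (ℕ × ℕ) → ℕ
  | [] => 0
  | x :: L => (eqc full cs x.1 &&& eqc full ds x.2) ||| good full cs ds L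

theorem good_spec {full p n : ℕ} (hp : full.testBit p = true) {cs ds : List ℕ} (hcs : cs.length = n)
    (hds : ds.length = n) : ∀ (L : List (ℕ × ℕ)), (∀ x ∈ L, x.1 < 2 ^ n ∧ x.2 < 2 ^ n) →
    (good full cs ds L).testBit p = true → (cv p cs, cv p ds) ∈ L
  | [], _, h => by simp [good] at h
  | x :: L, hL, h => by
    rw [good, Nat.testBit_or, Bool.or_eq_true] at h
    rcases h with h | h
    · rw [Nat.testBit_and, Bool.and_eq_true] at h
      have hx := hL x (by simp)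
      rw [eqc_spec hp cs x.1 (by rw [hcs]; exact hx.1) h.1, eqc_spec hp ds x.2 (by rw [hds]; exact hx.2) h.2]
      simp
    · exact List.mem_cons_of_mem _ (good_spec hp hcs hds L (fun y hy => hL y (by simp [hy])) h)

/-! ### the check -/

/-- the tables of the coordinates -/
def coords (l : ℕ) : List (ℕ × ℕ) := (List.range l).map fun i => (sl (2 * l) (2 * i), sl (2 * l) (2 * i + 1))

/-- the check -/
def check (l n : ℕ) (R : List (List ℕ)) (L : List (ℕ × ℕ)) : Bool :=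
  (fun (T : List (ℕ × ℕ)) => Nat.beq (good (2 ^ 2 ^ (2 * l) - 1) (cnt n (T.map fun x => x.1))
    (cnt n (T.map fun x => x.2 ^^^ (x.1 &&& x.2))) L) (2 ^ 2 ^ (2 * l) - 1)) (R.map fun r => dot r (coords l))

/-- **Correctness of the check**. -/
theorem check_spec {l n : ℕ} {R : List (List ℕ)} {L : List (ℕ × ℕ)} (h : check l n R L = true)
    (hR : R.length < 2 ^ n) (hL : ∀ x ∈ L, x.1 < 2 ^ n ∧ x.2 < 2 ^ n) (v : Fin l → ZMod 4) :
    (R.countP (fun r => decide (dotV r (List.ofFn v) = 1 ∨ dotV r (List.ofFn v) = 3)),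
      R.countP (fun r => decide (dotV r (List.ofFn v) = 2))) ∈ L := by
  classical
  -- the position of `v`
  set f : Fin (2 * l) → Bool := fun j => (v ⟨j / 2, by omega⟩).val.testBit (j % 2) with hf
  set p := Nat.ofBits f with hpd
  have hp : p < 2 ^ (2 * l) := Nat.ofBits_lt_two_pow f
  set full := 2 ^ 2 ^ (2 * l) - 1 with hfull
  have hpf : full.testBit p = true := by
    rw [hfull, Nat.testBit_two_pow_sub_one]
    simpa using hp
  have hco : (coords l).map (v4 p) = List.ofFn v := by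
    rw [coords, List.map_map]
    apply List.ext_getElem
    · simp
    · intro i h1 h2
      have hi : i < l := by simpa using h1
      rw [List.getElem_map, List.getElem_range, List.getElem_ofFn, Function.comp_apply]
      unfold v4
      rw [testBit_sl _ _ (by omega) _ hp, testBit_sl _ _ (by omega) _ hp, hpd,
        Nat.testBit_ofBits_lt _ _ (by omega), Nat.testBit_ofBits_lt _ _ (by omega)]
      simp only [hf]
      have e1 : (⟨2 * i / 2, by omega⟩ : Fin l) = ⟨i, hi⟩ := Fin.ext (by simp)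
      have e2 : (⟨(2 * i + 1) / 2, by omega⟩ : Fin l) = ⟨i, hi⟩ := Fin.ext (by simp; omega)
      rw [e1, e2]
      have e3 : 2 * i % 2 = 0 := by omega
      have e4 : (2 * i + 1) % 2 = 1 := by omega
      rw [e3, e4]
      generalize v ⟨i, hi⟩ = a
      revert a
      decide
  have hd : ∀ r : List ℕ, v4 p (dot r (coords l)) = dotV r (List.ofFn v) := fun r => by rw [v4_dot, hco]
  rw [check] at h
  have h1 := Nat.eq_of_beq_eq_true h
  rw [← hfull] at h1
  have h2 := hpf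
  rw [← h1] at h2
  have h3 := good_spec hpf (cnt_length n _) (cnt_length n _) L hL h2
  rw [cv_cnt_eq _ _ _ (by simpa using hR), cv_cnt_eq _ _ _ (by simpa using hR), List.map_map, List.map_map,
    List.countP_map, List.countP_map] at h3
  convert h3 using 2
  · refine List.countP_congr fun r _ => ?_
    rw [← hd]
    simp only [Function.comp_apply]
    unfold v4
    cases (dot r (coords l)).1.testBit p <;> cases (dot r (coords l)).2.testBit p <;> decide
  · refine List.countP_congr fun r _ => ?_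
    rw [← hd]
    simp only [Function.comp_apply, Nat.testBit_xor, Nat.testBit_and]
    unfold v4
    cases (dot r (coords l)).1.testBit p <;> cases (dot r (coords l)).2.testBit p <;> decide

end Cfsg.Agent.H542.Co3.Tab
end

-- part: H542/Co3/TabRoot
section
/-!
# Numbers of roots by value (helper542, S1920)

`g ^ 4 = 1` in `D.group F`, `F` finite of odd order, `R` the table of the positive roots of `D` (`chkTab D l R = true`).
If `check l n R L = true`, then `(mL D (g * g), mL D g) = (2 * a, 2 * b)` with `(a, b) ∈ L`; here `mL D g` is the dimension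
of the `(-1)`-eigenspace of `g` on the adjoint module.
-/

set_option autoImplicit false

namespace Cfsg.Agent.H542.Co3.Tab

open Cfsg.Lie Cfsg.Agent.ChevalleyStructure Cfsg.Agent.ChevalleyStructure.CoxeterGeomTypes Cfsg.Agent.Nodes.RGDChev
open Cfsg.Agent.H944.RootVals Cfsg.Agent.H944.Tab Cfsg.Agent.H167.Co3

theorem dotV_eq : ∀ (l : ℕ) (r : List ℕ) (v : Fin l → ZMod 4), dotV r (List.ofFn v) = dotF r v
  | 0, r, v => by
    rw [List.ofFn_zero]
    unfold dotF
    cases r <;> simp only [dotV, _root_.Finset.univ_eq_empty, _root_.List.getD_eq_getElem?_getD, _root_.List.length_nil, _root_.not_lt_zero, _root_.not_false_eq_true, _root_.getElem?_neg, _root_.Option.getD_none, _root_.Nat.cast_zero, _root_.MulZeroClass.zero_mul, _root_.Finset.sum_const_zero, _root_.Finset.sum_empty]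
  | l + 1, [], v => by
    rw [List.ofFn_succ, dotF]
    simp [dotV]
  | l + 1, a :: r, v => by
    rw [List.ofFn_succ, dotV, dotV_eq l r, dotF, dotF, Fin.sum_univ_succ]
    simp only [_root_.List.getD_eq_getElem?_getD, _root_.Fin.coe_ofNat_eq_mod, _root_.Nat.zero_mod, _root_.List.length_cons, _root_.lt_add_iff_pos_left, _root_.Order.lt_add_one_iff, _root_.zero_le, _root_.getElem?_pos, _root_.List.getElem_cons_zero, _root_.Option.getD_some, _root_.Fin.val_succ, _root_.List.getElem?_cons_succ]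

theorem mod4 (n : ℤ) : n % 4 = 2 ↔ ((n : ℤ) : ZMod 4) = 2 := by
  have h := ZMod.intCast_eq_intCast_iff' n 2 4
  rw [show ((2 : ℤ) : ZMod 4) = 2 from rfl] at h
  rw [h]
  norm_num

theorem mod2 (n : ℤ) : n % 2 = 1 ↔ ((n : ℤ) : ZMod 4) = 1 ∨ ((n : ℤ) : ZMod 4) = 3 := by
  have h := ZMod.intCast_eq_intCast_iff' n 1 4
  have h' := ZMod.intCast_eq_intCast_iff' n 3 4
  rw [show ((1 : ℤ) : ZMod 4) = 1 from rfl] at h
  rw [show ((3 : ℤ) : ZMod 4) = 3 from rfl] at h'
  rw [h, h']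
  norm_num
  (clear * -; solve | lia | omega)

variable {D : ChevalleyDatum} {l : ℕ}

theorem card_val {S : Type*} [DecidableEq S] (n : ℕ) (f : Fin n → S) (P : S → Prop) [DecidablePred P] :
    Nat.card {s : Fin n // P (f s)} = ((Finset.univ : Finset (Fin n)).val.map f).countP P := by
  classical
  rw [Nat.card_eq_fintype_card, Fintype.card_subtype, Multiset.countP_map]
  rfl

/-- numbers of roots from the table of the positive roots -/
theorem card_root {R : List (List ℕ)} (hR : chkTab D l R = true) (e : Fin l → ℤ) (P : ZMod 4 → Prop)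
    [DecidablePred P] (hP : ∀ a, P (-a) ↔ P a) :
    Nat.card {s : Fin D.nroots // P ((pr e (vec D l s) : ℤ) : ZMod 4)} =
      2 * R.countP fun r => decide (P (dotV r (List.ofFn fun i => ((e i : ℤ) : ZMod 4)))) := by
  classical
  rw [card_val D.nroots (fun s : Fin D.nroots => ((pr e (vec D l s) : ℤ) : ZMod 4)) P]
  have h1 : (Finset.univ : Finset (Fin D.nroots)).val.map (fun s : Fin D.nroots => ((pr e (vec D l s) : ℤ) : ZMod 4)) =
      ms D l (fun i => ((e i : ℤ) : ZMod 4)) := by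
    unfold ms pr
    refine Multiset.map_congr rfl fun s _ => ?_
    push_cast
    rfl
  rw [h1, ms_tab hR, Multiset.countP_add, Multiset.coe_countP, Multiset.coe_countP, List.countP_map, List.countP_map,
    two_mul]
  congr 1
  · refine List.countP_congr fun r _ => ?_
    rw [dotV_eq, Function.comp_apply]
  · refine List.countP_congr fun r _ => ?_
    rw [dotV_eq, Function.comp_apply, decide_eq_true_iff, decide_eq_true_iff, hP]

variable {M : CoxeterMatrix (Fin l)} (hp : IsType D l M)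

include hp in
/-- **The dimensions of the `(-1)`-eigenspaces of `g` and `g * g`**, for `g ^ 4 = 1`. -/
theorem mem_tab {F : Type} [Field F] [Fintype F] (h2 : (2 : F) ≠ 0) {n : ℕ} {R : List (List ℕ)}
    {L : List (ℕ × ℕ)} (hR : chkTab D l R = true) (hc : check l n R L = true) (hn : R.length < 2 ^ n)
    (hL : ∀ x ∈ L, x.1 < 2 ^ n ∧ x.2 < 2 ^ n) {g : ↥(D.group F)} (h4 : g ^ 4 = 1) :
    ∃ a b : ℕ, (a, b) ∈ L ∧ mL D (g * g) = 2 * a ∧ mL D g = 2 * b := by
  classical
  obtain ⟨e, he1, he2, -, -⟩ := exists_exp hp h2 h4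
  refine ⟨_, _, check_spec hc hn hL (fun i => ((e i : ℤ) : ZMod 4)), ?_, ?_⟩
  · rw [he2]
    have := card_root hR e (fun a => a = 1 ∨ a = 3) (by decide)
    rw [← this]
    exact Nat.card_congr (Equiv.subtypeEquivRight fun s => mod2 _)
  · rw [he1]
    have := card_root hR e (fun a => a = 2) (by decide)
    rw [← this]
    exact Nat.card_congr (Equiv.subtypeEquivRight fun s => mod4 _)

/-- an element of order 2 has a nonzero `(-1)`-eigenspace -/
theorem mL_ne_zero {F : Type} [Field F] {g : ↥(D.group F)} (h : g * g = 1) (hg : g ≠ 1) :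
    mL D g ≠ 0 := by
  classical
  intro h0
  rw [mL_rho] at h0
  have hk : LinearMap.ker (H392.KKL.rho D F g + 1) = ⊥ := Submodule.finrank_eq_zero.1 h0
  apply hg
  have h3 : (H392.KKL.rho D F g + 1) * (H392.KKL.rho D F g - 1) = 0 := by
    have h4 : H392.KKL.rho D F g * H392.KKL.rho D F g = 1 := by rw [← map_mul, h, map_one]
    rw [add_mul, mul_sub, h4]
    simp only [_root_.mul_one, _root_.one_mul, _root_.sub_add_sub_cancel, _root_.sub_self]
  have h5 : H392.KKL.rho D F g - 1 = 0 := by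
    refine LinearMap.ext fun v => ?_
    have h6 := LinearMap.congr_fun h3 v
    rw [Module.End.mul_apply, LinearMap.zero_apply] at h6
    have h7 : (H392.KKL.rho D F g - 1) v ∈ LinearMap.ker (H392.KKL.rho D F g + 1) := h6
    rw [hk, Submodule.mem_bot] at h7
    rw [h7]
    rfl
  have h6 : H392.KKL.rho D F g = 1 := sub_eq_zero.1 h5
  rw [H392.KKL.rho_apply] at h6
  have h7 : Matrix.toLin' (((g : ↥(D.group F)) : GL D.Idx F) : Matrix D.Idx D.Idx F) = Matrix.toLin' 1 := by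
    rw [h6, Matrix.toLin'_one]
    rfl
  exact Subtype.ext (Units.ext (Matrix.toLin'.injective h7))

end Cfsg.Agent.H542.Co3.Tab
end

-- part: H542/Co3/X0E8
section
/-!
# `E8(q)`, `q` odd: the `(-1)`-eigenspaces of the elements of order dividing 4 (helper542, S1920, box X0)

`m g` = dimension of the `(-1)`-eigenspace of `g` on the adjoint module (dimension 248).

* `mE8_two` : `g * g = 1`, `g ≠ 1` : `m g` is 112 or 128;
* `mE8_four` : `g * g = z`, `m z = 112` : `m g ∈ {2, 54, 66, 70}`; `m z = 128` : `m g ∈ {28, 56, 60}`.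
-/

set_option autoImplicit false
set_option maxRecDepth 100000

namespace Cfsg.Agent.H542.Co3.X0E8

open Cfsg.Lie Cfsg.Agent.ChevalleyStructure Cfsg.Agent.ChevalleyStructure.CoxeterGeomTypes Cfsg.Agent.Nodes.RGDChev
open Cfsg.Agent.H167.Co3 Cfsg.Agent.H542.Co3.Tab

/-- half of the pairs `(m (g * g), m g)` -/
def L8 : List (ℕ × ℕ) :=
  [(0, 0), (0, 56), (0, 64), (56, 1), (56, 27), (56, 33), (56, 35), (64, 14), (64, 28), (64, 30)]

theorem check8 : check 8 7 Cfsg.Agent.H943.E8Tab.R8 L8 = true := by decide +kernel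

theorem length8 : Cfsg.Agent.H943.E8Tab.R8.length < 2 ^ 7 := by decide +kernel

theorem lt8 : ∀ x ∈ L8, x.1 < 2 ^ 7 ∧ x.2 < 2 ^ 7 := by decide

variable {F : Type} [Field F] [Fintype F]

theorem of_mem {a b x y : ℕ} (hab : (a, b) ∈ L8) (ha : x = 2 * a) (hb : y = 2 * b) :
    (x = 0 ∧ y = 0) ∨ (x = 0 ∧ y = 112) ∨ (x = 0 ∧ y = 128) ∨ (x = 112 ∧ y = 2) ∨ (x = 112 ∧ y = 54) ∨
    (x = 112 ∧ y = 66) ∨ (x = 112 ∧ y = 70) ∨ (x = 128 ∧ y = 28) ∨ (x = 128 ∧ y = 56) ∨ (x = 128 ∧ y = 60) := by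
  simp only [L8, List.mem_cons, Prod.mk.injEq, List.not_mem_nil, or_false] at hab
  rcases hab with h | h | h | h | h | h | h | h | h | h <;> obtain ⟨rfl, rfl⟩ := h <;> subst ha <;> subst hb <;> simp

/-- the pairs `(m (g * g), m g)`, `g ^ 4 = 1` -/
theorem mL_mem (h2 : (2 : F) ≠ 0) {g : ↥(chevE8.group F)} (h4 : g ^ 4 = 1) {x y : ℕ}
    (hx : mL chevE8 (g * g) = x) (hy : mL chevE8 g = y) :
    (x = 0 ∧ y = 0) ∨ (x = 0 ∧ y = 112) ∨ (x = 0 ∧ y = 128) ∨ (x = 112 ∧ y = 2) ∨ (x = 112 ∧ y = 54) ∨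
    (x = 112 ∧ y = 66) ∨ (x = 112 ∧ y = 70) ∨ (x = 128 ∧ y = 28) ∨ (x = 128 ∧ y = 56) ∨ (x = 128 ∧ y = 60) := by
  obtain ⟨a, b, hab, ha, hb⟩ := mem_tab Cfsg.Agent.H943.E8Tab.e8T h2 Cfsg.Agent.H943.E8Tab.tab8 check8 length8 lt8 h4
  exact of_mem hab (hx.symm.trans ha) (hy.symm.trans hb)

/-- **Involutions of `E8(q)`, `q` odd.** -/
theorem mE8_two (h2 : (2 : F) ≠ 0) {g : ↥(chevE8.group F)} (h : g * g = 1) (hg : g ≠ 1) :
    Module.finrank F ↥(LinearMap.ker (H392.KKL.rho chevE8 F g + 1)) = 112 ∨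
    Module.finrank F ↥(LinearMap.ker (H392.KKL.rho chevE8 F g + 1)) = 128 := by
  rw [← mL_rho]
  have h4 : g ^ 4 = 1 := by
    rw [show (4 : ℕ) = 2 * 2 from rfl, pow_mul, pow_two g, h, one_pow]
  have h0 := mL_ne_zero h hg
  have h1 : mL chevE8 (g * g) = 0 := by
    rw [h, mL_rho, map_one]
    have : LinearMap.ker ((1 : Module.End F (chevE8.Idx → F)) + 1) = ⊥ := by
      rw [LinearMap.ker_eq_bot']
      intro v hv
      have h3 : (2 : F) • v = 0 := by
        rw [two_smul]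
        exact hv
      exact (smul_eq_zero.1 h3).resolve_left h2
    rw [this, finrank_bot]
  have h5 := mL_mem h2 h4 h1 rfl
  generalize mL chevE8 g = y at h0 h5 ⊢
  omega

/-- **Square roots of involutions of `E8(q)`, `q` odd**: `m z = 112`. -/
theorem mE8_four_112 (h2 : (2 : F) ≠ 0) {g z : ↥(chevE8.group F)} (hg : g * g = z) (hz : z * z = 1)
    (hm : Module.finrank F ↥(LinearMap.ker (H392.KKL.rho chevE8 F z + 1)) = 112) :
    Module.finrank F ↥(LinearMap.ker (H392.KKL.rho chevE8 F g + 1)) ∈ ({2, 54, 66, 70} : Set ℕ) := by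
  rw [← mL_rho] at hm ⊢
  have h4 : g ^ 4 = 1 := by
    rw [show (4 : ℕ) = 2 * 2 from rfl, pow_mul, pow_two g, hg, pow_two, hz]
  rw [← hg] at hm
  have h5 := mL_mem h2 h4 hm rfl
  generalize mL chevE8 g = y at h5 ⊢
  simp only [Set.mem_insert_iff, Set.mem_singleton_iff]
  (clear * - h5; solve | lia | omega)

/-- **Square roots of involutions of `E8(q)`, `q` odd**: `m z = 128`. -/
theorem mE8_four_128 (h2 : (2 : F) ≠ 0) {g z : ↥(chevE8.group F)} (hg : g * g = z) (hz : z * z = 1)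
    (hm : Module.finrank F ↥(LinearMap.ker (H392.KKL.rho chevE8 F z + 1)) = 128) :
    Module.finrank F ↥(LinearMap.ker (H392.KKL.rho chevE8 F g + 1)) ∈ ({28, 56, 60} : Set ℕ) := by
  rw [← mL_rho] at hm ⊢
  have h4 : g ^ 4 = 1 := by
    rw [show (4 : ℕ) = 2 * 2 from rfl, pow_mul, pow_two g, hg, pow_two, hz]
  rw [← hg] at hm
  have h5 := mL_mem h2 h4 hm rfl
  generalize mL chevE8 g = y at h5 ⊢
  simp only [Set.mem_insert_iff, Set.mem_singleton_iff]
  omega

end Cfsg.Agent.H542.Co3.X0E8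
end

-- part: H292/Co3/Signs
section
/-!
# S1920: sign changes with respect to an orthogonal basis (helper292)

`F` a finite field of odd characteristic, `v` an orthogonal basis of nonsingular vectors.

* `sg v J` : the sign change on the vectors `v j`, `j ∈ J`; `sg_mul`, `det_sg`, `spin_sg`;
* `sg_mem_E_iff` : `sg v J ∈ E Q ↔ Even #J ∧ IsSquare (∏ j ∈ J, Q (v j))`; `sg_mem_E_iff'` : the version for `polar Q`.
* `Tg v` : the group of all sign changes, of order `2 ^ n` (`card_Tg`);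
* `Sg Q v = {s ∈ E Q : ∀ i, s (v i) = v i ∨ s (v i) = - v i}` : `mem_Sg_iff`, `Sg_sq`, `Sg_comm`, `Sg_two` (a `2`-group),
  `Sg_card : 2 ^ (n - 2) ∣ Nat.card (Sg Q v)`.
-/

set_option autoImplicit false
set_option linter.unusedSectionVars false

namespace Cfsg.Agent.H292.Co3

open QuadraticMap Module Cfsg.Agent.LieClassical.OrthCore Cfsg.Agent.LieClassical.OrthTrans
open Cfsg.Agent.H160.QSpin
open Cfsg.Agent.LieClassical.OrthFinite (good_of_finite)

variable {F V : Type*} [Field F] [AddCommGroup V] [Module F V] {Q : QuadraticForm F V} {n : ℕ}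

/-- the sign change as an endomorphism -/
noncomputable def sgE (v : Basis (Fin n) F V) (J : Finset (Fin n)) : Module.End F V :=
  v.constr F (fun j => if j ∈ J then -v j else v j)

theorem sgE_basis (v : Basis (Fin n) F V) (J : Finset (Fin n)) (j : Fin n) :
    sgE v J (v j) = if j ∈ J then -v j else v j := v.constr_basis F _ j

/-- the sign change -/
noncomputable def sg (v : Basis (Fin n) F V) (J : Finset (Fin n)) : V ≃ₗ[F] V :=
  LinearEquiv.ofInvolutive (sgE v J) (by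
    have h : sgE v J ∘ₗ sgE v J = LinearMap.id := by
      apply v.ext
      intro j
      rw [LinearMap.comp_apply, sgE_basis, LinearMap.id_apply]
      by_cases hj : j ∈ J
      · rw [if_pos hj, map_neg, sgE_basis, if_pos hj, neg_neg]
      · rw [if_neg hj, sgE_basis, if_neg hj]
    exact fun x => LinearMap.congr_fun h x)

theorem sg_basis (v : Basis (Fin n) F V) (J : Finset (Fin n)) (j : Fin n) :
    sg v J (v j) = if j ∈ J then -v j else v j := sgE_basis v J j

theorem sg_empty (v : Basis (Fin n) F V) : sg v ∅ = 1 := by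
  apply LinearEquiv.toLinearMap_injective
  apply v.ext
  intro j
  rw [LinearEquiv.coe_coe, sg_basis, if_neg (Finset.notMem_empty j)]
  rfl

theorem sg_mul (v : Basis (Fin n) F V) (J K : Finset (Fin n)) : sg v J * sg v K = sg v (symmDiff J K) := by
  apply LinearEquiv.toLinearMap_injective
  apply v.ext
  intro j
  rw [LinearEquiv.coe_coe, LinearEquiv.coe_coe, LinearEquiv.mul_apply, sg_basis, sg_basis]
  by_cases h1 : j ∈ J <;> by_cases h2 : j ∈ K <;>
    simp only [h1, h2, Finset.mem_symmDiff, sg_basis, ↓ _root_.reduceIte, _root_.map_neg, _root_.neg_neg, _root_.not_true_eq_false, _root_.and_false, _root_.or_self, _root_.not_false_eq_true, _root_.and_self, _root_.or_false, _root_.or_true, _root_.and_true]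

theorem sg_mul_self (v : Basis (Fin n) F V) (J : Finset (Fin n)) : sg v J * sg v J = 1 := by
  rw [sg_mul, symmDiff_self]
  exact sg_empty v

theorem sg_injective [Nontrivial V] (h2 : (2 : F) ≠ 0) (v : Basis (Fin n) F V) : Function.Injective (sg v) := by
  intro J K h
  ext j
  have h1 : sg v J (v j) = sg v K (v j) := by rw [h]
  rw [sg_basis, sg_basis] at h1
  have h3 : -v j ≠ v j := by
    intro h4
    have h5 : (2 : F) • v j = 0 := by
      rw [two_smul]
      nth_rewrite 1 [← h4]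
      exact neg_add_cancel _
    rcases smul_eq_zero.1 h5 with h6 | h6
    · exact h2 h6
    · exact v.ne_zero j h6
  by_cases hJ : j ∈ J <;> by_cases hK : j ∈ K
  · exact ⟨fun _ => hK, fun _ => hJ⟩
  · rw [if_pos hJ, if_neg hK] at h1
    exact absurd h1 h3
  · rw [if_neg hJ, if_pos hK] at h1
    exact absurd h1.symm h3
  · exact ⟨fun h => absurd h hJ, fun h => absurd h hK⟩

section orth

variable {v : Basis (Fin n) F V}

/-- adding a reflection -/
theorem sg_insert (ho : ∀ i j, i ≠ j → polar Q (v i) (v j) = 0) {j : Fin n} (hj : Q (v j) ≠ 0) {J : Finset (Fin n)}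
    (hJ : j ∉ J) : sg v (insert j J) = refl Q (v j) hj * sg v J := by
  apply LinearEquiv.toLinearMap_injective
  apply v.ext
  intro i
  rw [LinearEquiv.coe_coe, LinearEquiv.coe_coe, LinearEquiv.mul_apply, sg_basis, sg_basis]
  by_cases hi : i = j
  · subst hi
    rw [if_pos (Finset.mem_insert_self _ _), if_neg hJ, refl_apply, polar_self]
    have e : (Q (v i))⁻¹ * (2 • Q (v i)) = 2 := by
      rw [nsmul_eq_mul, mul_left_comm, inv_mul_cancel₀ hj, mul_one]
      norm_num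
    rw [e, two_smul]
    abel
  · have h1 : i ∈ insert j J ↔ i ∈ J := by
      rw [Finset.mem_insert]
      exact ⟨fun h => h.resolve_left hi, Or.inr⟩
    have h2 : refl Q (v j) hj (v i) = v i := by
      rw [refl_apply, ho j i (Ne.symm hi), mul_zero, zero_smul, sub_zero]
    by_cases h3 : i ∈ J
    · rw [if_pos (h1.2 h3), if_pos h3, map_neg, h2]
    · rw [if_neg (fun h => h3 (h1.1 h)), if_neg h3, h2]

theorem sg_mem_O (ho : ∀ i j, i ≠ j → polar Q (v i) (v j) = 0) (hv : ∀ j, Q (v j) ≠ 0) (J : Finset (Fin n)) :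
    sg v J ∈ O Q := by
  induction J using Finset.induction_on with
  | empty => rw [sg_empty]; exact (O Q).one_mem
  | insert j J hJ ih =>
    rw [sg_insert ho (hv j) hJ]
    exact (O Q).mul_mem (refl_mem_O _) ih

theorem det_sg (ho : ∀ i j, i ≠ j → polar Q (v i) (v j) = 0) (hv : ∀ j, Q (v j) ≠ 0) (J : Finset (Fin n)) :
    LinearEquiv.det (sg v J) = (-1) ^ J.card := by
  have hfd : FiniteDimensional F V := Module.Finite.of_basis v
  induction J using Finset.induction_on with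
  | empty => rw [sg_empty, map_one, Finset.card_empty, pow_zero]
  | insert j J hJ ih =>
    rw [sg_insert ho (hv j) hJ, map_mul, ih, det_refl, Finset.card_insert_of_notMem hJ, pow_succ']

end orth

section count

/-- the group of all sign changes -/
noncomputable def Tg (v : Basis (Fin n) F V) : Subgroup (V ≃ₗ[F] V) where
  carrier := Set.range (sg v)
  mul_mem' := by
    rintro _ _ ⟨J, rfl⟩ ⟨K, rfl⟩
    exact ⟨symmDiff J K, (sg_mul v J K).symm⟩
  one_mem' := ⟨∅, sg_empty v⟩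
  inv_mem' := by
    rintro _ ⟨J, rfl⟩
    exact ⟨J, (inv_eq_of_mul_eq_one_right (sg_mul_self v J)).symm⟩

theorem mem_Tg_iff (v : Basis (Fin n) F V) {s : V ≃ₗ[F] V} : s ∈ Tg v ↔ ∀ i, s (v i) = v i ∨ s (v i) = -v i := by
  classical
  constructor
  · rintro ⟨J, rfl⟩ i
    rw [sg_basis]
    by_cases h : i ∈ J
    · rw [if_pos h]; exact Or.inr rfl
    · rw [if_neg h]; exact Or.inl rfl
  · intro h
    refine ⟨Finset.univ.filter fun i => s (v i) ≠ v i, ?_⟩
    apply LinearEquiv.toLinearMap_injective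
    apply v.ext
    intro i
    rw [LinearEquiv.coe_coe, LinearEquiv.coe_coe, sg_basis]
    by_cases hi : s (v i) = v i
    · rw [if_neg (by simp only [hi, _root_.ne_eq, _root_.Finset.mem_filter, _root_.Finset.mem_univ, _root_.not_true_eq_false, _root_.and_false, _root_.not_false_eq_true]), hi]
    · rw [if_pos (by simp only [hi, _root_.ne_eq, _root_.Finset.mem_filter, _root_.Finset.mem_univ, _root_.not_false_eq_true, _root_.and_self])]
      exact ((h i).resolve_left hi).symm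

theorem card_Tg [Nontrivial V] (h2 : (2 : F) ≠ 0) (v : Basis (Fin n) F V) : Nat.card (Tg v) = 2 ^ n := by
  have h : Nat.card (Tg v) = Nat.card (Finset (Fin n)) :=
    Nat.card_congr (Equiv.ofInjective (sg v) (sg_injective h2 v)).symm
  rw [h, Nat.card_eq_fintype_card, Fintype.card_finset, Fintype.card_fin]

/-- the sign changes in `E Q` -/
noncomputable def Sg (Q : QuadraticForm F V) (v : Basis (Fin n) F V) : Subgroup (V ≃ₗ[F] V) := E Q ⊓ Tg v

theorem mem_Sg_iff {Q : QuadraticForm F V} {v : Basis (Fin n) F V} {s : V ≃ₗ[F] V} :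
    s ∈ Sg Q v ↔ s ∈ E Q ∧ ∀ i, s (v i) = v i ∨ s (v i) = -v i := by
  rw [Sg, Subgroup.mem_inf, mem_Tg_iff]

theorem Tg_sq {v : Basis (Fin n) F V} {s : V ≃ₗ[F] V} (hs : s ∈ Tg v) : s * s = 1 := by
  obtain ⟨J, rfl⟩ := hs
  exact sg_mul_self v J

theorem Sg_sq {Q : QuadraticForm F V} {v : Basis (Fin n) F V} {s : V ≃ₗ[F] V} (hs : s ∈ Sg Q v) : s * s = 1 :=
  Tg_sq hs.2

/-- **The order of the group of the sign changes in `E Q`.** -/
theorem Sg_card [Finite F] [Finite V] (hG : Good Q) (h2 : (2 : F) ≠ 0) {v : Basis (Fin n) F V}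
    (ho : ∀ i j, i ≠ j → polar Q (v i) (v j) = 0) (hv : ∀ j, Q (v j) ≠ 0) :
    2 ^ (n - 2) ∣ Nat.card (Sg Q v) := by
  classical
  have hfd : FiniteDimensional F V := Module.Finite.of_basis v
  have hd : n = finrank F V := by rw [finrank_eq_card_basis v, Fintype.card_fin]
  have hn : 5 ≤ n := hd ▸ hG.dim
  have : Nontrivial V := Module.nontrivial_of_finrank_pos (R := F) (by omega)
  have hT : Tg v ≤ O Q := by
    rintro _ ⟨J, rfl⟩
    exact sg_mem_O ho hv J
  let ψ : Tg v →* Fˣ × ℤˣ :=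
    ((LinearEquiv.det.comp (O Q).subtype).prod (spin Q)).comp (Subgroup.inclusion hT)
  have h1 : Nat.card ψ.ker * Nat.card ψ.range = 2 ^ n := by
    rw [← card_Tg h2 v, ← Subgroup.index_ker, Subgroup.card_mul_index]
  have h3 : Nat.card ψ.range ≤ 4 := by
    have h4 : (ψ.range : Set (Fˣ × ℤˣ)) ⊆ (({1, -1} : Finset Fˣ) ×ˢ (Finset.univ : Finset ℤˣ) : Finset (Fˣ × ℤˣ)) := by
      rintro _ ⟨⟨_, J, rfl⟩, rfl⟩
      rw [Finset.mem_coe, Finset.mem_product]
      refine ⟨?_, Finset.mem_univ _⟩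
      have h5 : (ψ ⟨sg v J, J, rfl⟩).1 = (-1) ^ J.card := det_sg ho hv J
      rw [h5]
      rcases neg_one_pow_eq_or Fˣ J.card with h6 | h6 <;> rw [h6] <;> simp only [_root_.Finset.mem_insert, _root_.Finset.mem_singleton, _root_.true_or, _root_.or_true]
    have h5 : Nat.card ψ.range ≤ (({1, -1} : Finset Fˣ) ×ˢ (Finset.univ : Finset ℤˣ)).card := by
      have h9 := Set.ncard_le_ncard h4 (Finset.finite_toSet _)
      rwa [Set.ncard_coe_finset, ← Nat.card_coe_set_eq] at h9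
    refine h5.trans ?_
    rw [Finset.card_product]
    have h6 : ({1, -1} : Finset Fˣ).card ≤ 2 := Finset.card_le_two
    have h7 : (Finset.univ : Finset ℤˣ).card = 2 := by decide
    rw [h7]
    omega
  have h4 : Nat.card ψ.ker ∣ Nat.card (Sg Q v) := by
    have h5 : ψ.ker.map (Tg v).subtype ≤ Sg Q v := by
      rintro _ ⟨⟨s, hs⟩, hk, rfl⟩
      have hk' : ψ ⟨s, hs⟩ = 1 := hk
      exact ⟨Cfsg.Agent.H35.KB.mem_E_of hG h2 (hT hs) (congrArg Prod.fst hk') (congrArg Prod.snd hk'), hs⟩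
    rw [Nat.card_congr (ψ.ker.equivMapOfInjective (Tg v).subtype (Tg v).subtype_injective).toEquiv]
    exact Subgroup.card_dvd_of_le h5
  obtain ⟨j, hj, hj2⟩ := (Nat.dvd_prime_pow Nat.prime_two).1 (Dvd.intro_left _ h1)
  have hj3 : j ≤ 2 := by
    by_contra hc
    have h6 : 2 ^ 3 ≤ 2 ^ j := Nat.pow_le_pow_right (by norm_num) (by omega)
    omega
  refine Dvd.dvd.trans ?_ h4
  rw [hj2] at h1
  have h7 : Nat.card ψ.ker = 2 ^ (n - j) := by
    have h8 : 2 ^ n = 2 ^ (n - j) * 2 ^ j := by rw [← pow_add, Nat.sub_add_cancel hj]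
    rw [h8] at h1
    exact Nat.eq_of_mul_eq_mul_right (by positivity) h1
  rw [h7]
  exact pow_dvd_pow 2 (by omega)

end count

end Cfsg.Agent.H292.Co3
end

-- part: H64/Co3/D8C0
section
/-!
# S1920, E8-D8, the case where all the lifts of `N0` commute (helper64)
-/

set_option autoImplicit false

open Subgroup QuadraticMap

namespace Cfsg.Agent.H64.Co3

open Cfsg.Agent.LieClassical.OrthCore Cfsg.Agent.LieClassical.OrthTrans Cfsg.Agent.H13.Co3

/-- the hom to `ℤˣ` given by a predicate -/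
noncomputable def homOf {N : Type*} [Group N] (p : N → Prop) (h : ∀ n m, p (n * m) ↔ (p n ↔ p m)) : N →* ℤˣ := by
  classical
  exact
  { toFun := fun n => if p n then 1 else -1
    map_one' := by
      have h1 := h 1 1
      rw [mul_one] at h1
      rw [if_pos (by itauto)]
    map_mul' := fun n m => by
      have h1 := h n m
      by_cases hn : p n <;> by_cases hm : p m <;> simp [h1, hn, hm] }

theorem homOf_eq {N : Type*} [Group N] (p : N → Prop) (h : ∀ n m, p (n * m) ↔ (p n ↔ p m)) (n : N) :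
    (homOf p h n = -1 ↔ ¬ p n) ∧ (homOf p h n = 1 ↔ p n) := by
  classical
  have e : homOf p h n = if p n then 1 else -1 := by
    unfold homOf
    simp only [MonoidHom.coe_mk, OneHom.coe_mk]
  rw [e]
  by_cases hn : p n
  · simp [hn]
  · simp [hn]

theorem homOf_all {N : Type*} [Group N] (p : N → Prop) (h : ∀ n m, p (n * m) ↔ (p n ↔ p m))
    (h1 : homOf p h = 1) (n : N) : p n := by
  rw [← (homOf_eq p h n).2, h1]; rfl

/-- products of nonzero elements of a finite field -/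
theorem isSquare_mul_iff {F : Type*} [Field F] [Finite F] {x y : F} (hx : x ≠ 0) (hy : y ≠ 0) :
    IsSquare (x * y) ↔ (IsSquare x ↔ IsSquare y) := by
  classical
  have : Fintype F := Fintype.ofFinite F
  have h1 : ((1 : ℤ) = -1) ↔ False := by decide
  have h2 : ((-1 : ℤ) = 1) ↔ False := by decide
  rw [← quadraticChar_one_iff_isSquare hx, ← quadraticChar_one_iff_isSquare hy,
    ← quadraticChar_one_iff_isSquare (mul_ne_zero hx hy), map_mul]
  rcases quadraticChar_dichotomy hx with h | h <;> rcases quadraticChar_dichotomy hy with h' | h' <;> rw [h, h'] <;>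
    simp

variable {F V G : Type*} [Field F] [AddCommGroup V] [Module F V] [Group G] {Q : QuadraticForm F V}
  {P N0 : Subgroup G} {z s : G} {ψ : ↥(normalizer (P : Set G)) →* Equiv.Perm (Fin 6)}
  {R : G → (V ≃ₗ[F] V) → Prop}

theorem SA.mul {M L : V ≃ₗ[F] V} (h : SA Q M) (h' : SA Q L) (hc : ∀ v, M (L v) = L (M v)) : SA Q (M * L) := by
  intro u v
  show polar Q (M (L u)) v = polar Q u (M (L v))
  rw [h, h', hc]

theorem SK.mul {M L : V ≃ₗ[F] V} (h : SK Q M) (h' : SK Q L) (hc : ∀ v, M (L v) = L (M v)) : SA Q (M * L) := by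
  intro u v
  show polar Q (M (L u)) v = polar Q u (M (L v))
  rw [h, h', hc, neg_neg]

theorem SA.mul_sk {M L : V ≃ₗ[F] V} (h : SA Q M) (h' : SK Q L) (hc : ∀ v, M (L v) = L (M v)) : SK Q (M * L) := by
  intro u v
  show polar Q (M (L u)) v = - polar Q u (M (L v))
  rw [h, h', hc]

theorem SK.mul_sa {M L : V ≃ₗ[F] V} (h : SK Q M) (h' : SA Q L) (hc : ∀ v, M (L v) = L (M v)) : SK Q (M * L) := by
  intro u v
  show polar Q (M (L u)) v = - polar Q u (M (L v))
  rw [h, h', hc]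

theorem not_sa_sk (T : D8I Q z R) {M : V ≃ₗ[F] V} (h : SA Q M) (h' : SK Q M) : False := by
  obtain ⟨v, hv⟩ := T.exists_vec_ne
  apply hv
  apply T.nondeg
  intro y
  obtain ⟨y, rfl⟩ := M.surjective y
  have h1 := h v y
  rw [h'] at h1
  exact eq_zero_of_neg T.two h1.symm

theorem sa_congr (T : D8I Q z R) {g : G} {M L : V ≃ₗ[F] V} (hM : R g M) (hL : R g L) (h : SA Q M) : SA Q L := by
  obtain ⟨c, -, h1⟩ := T.uniq hM hL
  intro u v
  rw [h1, h1, polar_smul_left, polar_smul_right, h]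

/-- all the lifts are self-adjoint -/
theorem all_sa [FiniteDimensional F V] (C : CB P N0 z s ψ) (T : D8I Q z R) (tab : TabI N0 Q z R)
    (hc : ∀ n ∈ N0, ∀ m ∈ N0, ∀ M L, R n M → R m L → ∀ v, M (L v) = L (M v)) {n : G} (hn : n ∈ N0)
    {M : V ≃ₗ[F] V} (hM : R n M) : SA Q M := by
  let p : ↥N0 → Prop := fun n => ∃ M, R (n : G) M ∧ SA Q M
  have hp : ∀ n m : ↥N0, p (n * m) ↔ (p n ↔ p m) := by
    intro n m
    obtain ⟨M, hM⟩ := T.ex (n : G) (nz C n.2)
    obtain ⟨L, hL⟩ := T.ex (m : G) (nz C m.2)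
    obtain ⟨l, hl, h1⟩ := exists_sq C T n.2 hM
    obtain ⟨l', hl', h1'⟩ := exists_sq C T m.2 hL
    have hcc := hc n n.2 m m.2 M L hM hL
    have hML : R ((n * m : ↥N0) : G) (M * L) := T.mul hM hL
    have key : ∀ {k : ↥N0} {K : V ≃ₗ[F] V}, R (k : G) K → (p k ↔ SA Q K) := by
      intro k K hK
      exact ⟨fun ⟨K', hK', h⟩ => sa_congr T hK' hK h, fun h => ⟨K, hK, h⟩⟩
    rw [key hM, key hL, key hML]
    rcases sa_or_sk T hM hl h1 with ⟨a, -⟩ | ⟨a, -⟩ <;> rcases sa_or_sk T hL hl' h1' with ⟨a', -⟩ | ⟨a', -⟩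
    · simp [a, a', a.mul a' hcc]
    · have h3 : ¬ SA Q L := fun h => not_sa_sk T h a'
      have h4 : ¬ SA Q (M * L) := fun h => not_sa_sk T h (a.mul_sk a' hcc)
      itauto
    · have h3 : ¬ SA Q M := fun h => not_sa_sk T h a
      have h4 : ¬ SA Q (M * L) := fun h => not_sa_sk T h (a.mul_sa a' hcc)
      itauto
    · have h3 : ¬ SA Q M := fun h => not_sa_sk T h a
      have h5 : ¬ SA Q L := fun h => not_sa_sk T h a'
      have h4 : SA Q (M * L) := a.mul a' hcc
      itauto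
  have h1 : homOf p hp = 1 := by
    by_contra hne
    refine H731.C3.no_hom_one C (homOf p hp) hne fun n hn => ?_
    have h2 : ¬ p n := (homOf_eq p hp n).1.1 hn
    obtain ⟨M, hM⟩ := T.ex (n : G) (nz C n.2)
    obtain ⟨l, hl, h3⟩ := exists_sq C T n.2 hM
    rcases sa_or_sk T hM hl h3 with ⟨a, -⟩ | ⟨a, -⟩
    · exact absurd ⟨M, hM, a⟩ h2
    · exact sq_of_skew C T tab n.2 hM a
  obtain ⟨M', hM', h2⟩ := homOf_all p hp h1 ⟨n, hn⟩
  exact sa_congr T hM' hM h2

/-- all the squares are squares -/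
theorem all_sq [Finite F] [FiniteDimensional F V] (C : CB P N0 z s ψ) (T : D8I Q z R) (tab : TabI N0 Q z R)
    (hc : ∀ n ∈ N0, ∀ m ∈ N0, ∀ M L, R n M → R m L → ∀ v, M (L v) = L (M v)) {n : G} (hn : n ∈ N0)
    {M : V ≃ₗ[F] V} (hM : R n M) {l : F} (hl : ∀ v, M (M v) = l • v) : IsSquare l := by
  obtain ⟨v0, hv0⟩ := T.exists_vec_ne
  have key : ∀ {g : G} {M L : V ≃ₗ[F] V} {l l' : F}, R g M → R g L → (∀ v, M (M v) = l • v) →
      (∀ v, L (L v) = l' • v) → IsSquare l → IsSquare l' := by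
    intro g M L l l' hM hL h1 h2 h3
    obtain ⟨c, hc, h4⟩ := T.uniq hM hL
    have h5 := h2 v0
    rw [h4, h4, map_smul, h1, smul_smul, smul_smul] at h5
    have h6 : l' = c * c * l := by
      have h7 : (l' - c * c * l) • v0 = 0 := by rw [sub_smul, ← h5, sub_self]
      exact sub_eq_zero.1 ((smul_eq_zero.1 h7).resolve_right hv0)
    rw [h6]
    exact (IsSquare.mul_self c).mul h3
  let p : ↥N0 → Prop := fun n => ∃ (M : V ≃ₗ[F] V) (l : F), R (n : G) M ∧ (∀ v, M (M v) = l • v) ∧ IsSquare l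
  have hp : ∀ n m : ↥N0, p (n * m) ↔ (p n ↔ p m) := by
    intro n m
    obtain ⟨M, hM⟩ := T.ex (n : G) (nz C n.2)
    obtain ⟨L, hL⟩ := T.ex (m : G) (nz C m.2)
    obtain ⟨l, hl, h1⟩ := exists_sq C T n.2 hM
    obtain ⟨l', hl', h1'⟩ := exists_sq C T m.2 hL
    have hcc := hc n n.2 m m.2 M L hM hL
    have hML : R ((n * m : ↥N0) : G) (M * L) := T.mul hM hL
    have key' : ∀ {k : ↥N0} {K : V ≃ₗ[F] V} {l : F}, R (k : G) K → (∀ v, K (K v) = l • v) → (p k ↔ IsSquare l) := by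
      intro k K l hK hl
      exact ⟨fun ⟨K', l', hK', h, h'⟩ => key hK' hK h hl h', fun h => ⟨K, l, hK, hl, h⟩⟩
    have h3 : ∀ v, (M * L) ((M * L) v) = (l * l') • v := by
      intro v
      show M (L (M (L v))) = _
      rw [← hcc, h1, h1', smul_smul]
    rw [key' hM h1, key' hL h1', key' hML h3]
    exact isSquare_mul_iff hl hl'
  have h1 : homOf p hp = 1 := by
    by_contra hne
    refine H731.C3.no_hom_two C (homOf p hp) hne fun n hn => ?_
    have h2 : ¬ p n := (homOf_eq p hp n).1.1 hn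
    obtain ⟨M, hM⟩ := T.ex (n : G) (nz C n.2)
    obtain ⟨l, hl, h3⟩ := exists_sq C T n.2 hM
    exact sq_of_nonsq C T tab n.2 hM (all_sa C T tab hc n.2 hM) h3 fun h => h2 ⟨M, l, hM, h3, h⟩
  obtain ⟨M', l', hM', h2, h3⟩ := homOf_all p hp h1 ⟨n, hn⟩
  exact key hM' hM h2 hl h3

/-- the 2-group over a group of isometries -/
def WW (T : D8I Q z R) (S : Subgroup (V ≃ₗ[F] V)) : Subgroup G where
  carrier := {g | g * z = z * g ∧ ∃ σ ∈ S, R g σ}
  one_mem' := ⟨by simp, 1, S.one_mem, T.R_one⟩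
  mul_mem' := by
    rintro g h ⟨hg, σ, hσ, h1⟩ ⟨hh, τ, hτ, h2⟩
    refine ⟨?_, σ * τ, S.mul_mem hσ hτ, T.mul h1 h2⟩
    rw [mul_assoc, hh, ← mul_assoc, hg, mul_assoc]
  inv_mem' := by
    rintro g ⟨hg, σ, hσ, h1⟩
    refine ⟨?_, σ⁻¹, S.inv_mem hσ, T.inv hg h1⟩
    rw [inv_mul_eq_iff_eq_mul, ← mul_assoc, hg, mul_inv_cancel_right]

/-- **Case `c = 0`** : the lifts of the elements of `N0` do not all commute. -/
theorem d8_comm [Finite F] [FiniteDimensional F V] [Finite G] (C : CB P N0 z s ψ) (T : D8I Q z R)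
    (tab : TabI N0 Q z R)
    (hc : ∀ n ∈ N0, ∀ m ∈ N0, ∀ M L, R n M → R m L → ∀ v, M (L v) = L (M v)) : False := by
  classical
  have hV : Finite V := Module.finite_of_finite F
  have hG : Good Q := LieClassical.OrthFinite.good_of_finite T.nondeg (by rw [T.dim]; norm_num)
  -- the eigenbasis
  let S : Set (Module.End F V) := {X | ∃ n ∈ N0, ∃ M : V ≃ₗ[F] V, R n M ∧ (M : V →ₗ[F] V) = X}
  obtain ⟨v, hv1, hv2, hv3⟩ := H898.Co3.exists_eigenbasis (B := polarBilin Q) (S := S) T.two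
    (fun u v => polar_comm Q u v) (fun u hu => T.nondeg u hu)
    (by
      rintro _ ⟨n, hn, M, hM, rfl⟩
      obtain ⟨l, hl, h1⟩ := exists_sq C T hn hM
      obtain ⟨ν, hν⟩ := all_sq C T tab hc hn hM h1
      refine ⟨ν, ?_, ?_⟩
      · rintro rfl
        exact hl (by rw [hν, mul_zero])
      · ext u
        show M (M u) = ν ^ 2 • u
        rw [h1, hν, pow_two])
    (by
      rintro _ ⟨n, hn, M, hM, rfl⟩ u w
      exact all_sa C T tab hc hn hM u w)
    (by
      rintro _ ⟨n, hn, M, hM, rfl⟩ _ ⟨m, hm, L, hL, rfl⟩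
      ext u
      exact hc n hn m hm M L hM hL u)
    T.dim
  have ho : ∀ i j, i ≠ j → polar Q (v i) (v j) = 0 := hv1
  have hq : ∀ j, Q (v j) ≠ 0 := by
    intro j h0
    apply hv2 j
    show polar Q (v j) (v j) = 0
    rw [polar_self', h0, mul_zero]
  set Sg := H292.Co3.Sg Q v with hSg
  have hcard : 2 ^ (16 - 2) ∣ Nat.card Sg := H292.Co3.Sg_card hG T.two ho hq
  set W := WW T Sg with hW
  -- `W` is a 2-group
  have hW2 : IsPGroup 2 W := by
    rintro ⟨g, hg, σ, hσ, h1⟩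
    have h2 := T.mul h1 h1
    rw [H292.Co3.Sg_sq hσ] at h2
    refine ⟨2, Subtype.ext ?_⟩
    show g ^ (2 ^ 2) = 1
    rw [show (2 ^ 2 : ℕ) = 2 + 2 by norm_num, pow_add, pow_two]
    rcases (T.one _).1 h2 with h3 | h3
    · rw [h3, one_mul]
    · rw [h3, C.z_sq]
  -- `W ≤ A`
  have hWA : W ≤ H13.Co3.AA C := by
    rintro g ⟨hg, σ, hσ, h1⟩
    rw [mem_AA, H738.C3.act_iff C]
    intro n hn
    obtain ⟨M, hM⟩ := T.ex n (nz C hn)
    have h2 : σ * M = M * σ := by
      have h3 : (σ : V →ₗ[F] V) ∘ₗ (M : V →ₗ[F] V) = (M : V →ₗ[F] V) ∘ₗ (σ : V →ₗ[F] V) := by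
        apply v.ext
        intro i
        show σ (M (v i)) = M (σ (v i))
        obtain ⟨c, hc⟩ := hv3 (M : V →ₗ[F] V) ⟨n, hn, M, hM, rfl⟩ i
        have hc' : M (v i) = c • v i := hc
        rcases (H292.Co3.mem_Sg_iff.1 hσ).2 i with h4 | h4
        · rw [hc', h4, map_smul, h4, hc']
        · rw [hc', h4, map_smul, h4, map_neg, hc', smul_neg]
      ext u
      exact congrArg (fun f : V →ₗ[F] V => f u) h3
    have h3 := T.mul h1 hM
    have h4 := T.mul hM h1
    have hng : (n * g) * z = z * (n * g) := by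
      rw [mul_assoc, hg, ← mul_assoc, nz C hn, mul_assoc]
    have h5 := T.mul h3 (T.inv hng h4)
    rw [h2, mul_inv_cancel] at h5
    rcases (T.one _).1 h5 with h6 | h6
    · left; exact mul_inv_eq_one.1 h6
    · right; exact mul_inv_eq_iff_eq_mul.1 h6
  have h1 := (card_dvd C hW2 hWA).1
  have h2 : Nat.card W ≤ 2 ^ 10 := Nat.le_of_dvd (by norm_num) h1
  -- `|Sg| ≤ 2 |W|`
  have h3 : ∀ σ : ↥Sg, ∃ g : ↥W, R (g : G) (σ : V ≃ₗ[F] V) := by
    intro σ
    obtain ⟨g, hg, h4⟩ := T.om σ.1 (H292.Co3.mem_Sg_iff.1 σ.2).1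
    exact ⟨⟨g, hg, σ.1, σ.2, h4⟩, h4⟩
  choose f hf using h3
  have hinj : Function.Injective (fun σ : ↥Sg => ((f σ, decide ((σ : V ≃ₗ[F] V) (v 0) = v 0)) : ↥W × Bool)) := by
    intro σ τ hστ
    obtain ⟨h4, h5⟩ := Prod.mk.inj hστ
    have h6 : R (f σ : G) (τ : V ≃ₗ[F] V) := by rw [h4]; exact hf τ
    obtain ⟨c, hc, h7⟩ := T.uniq (hf σ) h6
    have hv0 : v 0 ≠ 0 := v.ne_zero 0
    have hc1 : c = 1 := by
      have h8 := h7 (v 0)
      have h9 : ((σ : V ≃ₗ[F] V) (v 0) = v 0) ↔ ((τ : V ≃ₗ[F] V) (v 0) = v 0) := by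
        rw [← decide_eq_decide]; exact h5
      have h10 : (σ : V ≃ₗ[F] V) (v 0) = (τ : V ≃ₗ[F] V) (v 0) := by
        rcases (H292.Co3.mem_Sg_iff.1 σ.2).2 0 with h11 | h11
        · rw [h11, h9.1 h11]
        · rcases (H292.Co3.mem_Sg_iff.1 τ.2).2 0 with h12 | h12
          · rw [h9.2 h12, h12]
          · rw [h11, h12]
      rw [← h10] at h8
      have h11 : (1 - c) • (σ : V ≃ₗ[F] V) (v 0) = 0 := by rw [sub_smul, one_smul, ← h8, sub_self]
      have h12 : (σ : V ≃ₗ[F] V) (v 0) ≠ 0 := fun h => hv0 (by rwa [LinearEquiv.map_eq_zero_iff] at h)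
      exact (sub_eq_zero.1 ((smul_eq_zero.1 h11).resolve_right h12)).symm
    apply Subtype.ext
    apply LinearEquiv.ext
    intro u
    rw [h7, hc1, one_smul]
  have h4 := Nat.card_le_card_of_injective _ hinj
  rw [Nat.card_prod, Nat.card_eq_fintype_card (α := Bool), Fintype.card_bool] at h4
  have hfS : Finite ↥Sg := Finite.of_injective _ hinj
  have h5 : 0 < Nat.card ↥Sg := Nat.card_pos
  have h6 := Nat.le_of_dvd h5 hcard
  norm_num only [] at h6 h2
  omega

end Cfsg.Agent.H64.Co3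
end

-- part: H64/Co3/D8
section
/-!
# S1920, case B, E8 with `z` of type D8 (helper64)
-/

set_option autoImplicit false

open Subgroup QuadraticMap

namespace Cfsg.Agent.H64.Co3

open Cfsg.Agent.H13.Co3

variable {F V G : Type*} [Field F] [AddCommGroup V] [Module F V] [Group G] {Q : QuadraticForm F V}
  {P N0 : Subgroup G} {z s : G} {ψ : ↥(normalizer (P : Set G)) →* Equiv.Perm (Fin 6)}
  {R : G → (V ≃ₗ[F] V) → Prop}

/-- **E8, `z` of type D8** : the configuration does not exist. -/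
theorem d8_false [Finite F] [FiniteDimensional F V] [Finite G] (C : CB P N0 z s ψ) (T : D8I Q z R)
    (tab : TabI N0 Q z R) : False := by
  refine d8_comm C T tab fun n hn m hm M L hM hL => ?_
  by_contra hc
  exact d8_anti C T tab hn hm fun h => hc ((cm_iff T hM hL).1 h)

end Cfsg.Agent.H64.Co3
end

private theorem dce_454875b76a33 : _root_.True := by
  try have : _root_.True := by simp only [_root_.Cfsg.Agent.H542.Co3.Tab.mul4.eq_2]
  try have : _root_.True := by simp only [_root_.Cfsg.Agent.H542.Co3.Tab.good.eq_def]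
  try have : _root_.True := by simp only [_root_.Cfsg.Agent.H542.Co3.Tab.good.eq_1]
  try have : _root_.True := by simp only [_root_.Cfsg.Agent.H944.Tab.dotF.eq_1]
  try have : _root_.True := by simp only [_root_.Cfsg.Agent.H542.Co3.Tab.inc.eq_2]
  try have : _root_.True := by simp only [_root_.Cfsg.Agent.H292.Co3.Sg.eq_1]
  try have : _root_.True := by simp only [_root_.Cfsg.Agent.H542.Co3.Tab.coords.eq_1]
  try have : _root_.True := by simp only [_root_.Cfsg.Agent.H542.Co3.Tab.cnt.eq_1]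
  try have : _root_.True := by simp only [_root_.Cfsg.Agent.H542.Co3.Tab.eqc.eq_def]
  try have : _root_.True := by simp only [_root_.Cfsg.Agent.H542.Co3.Tab.dot.eq_2]
  try have : _root_.True := by simp only [_root_.Cfsg.Agent.H542.Co3.Tab.dot.eq_def]
  try have : _root_.True := by simp only [_root_.Cfsg.Agent.H542.Co3.Tab.dot._sparseCasesOn_1.else_eq]
  try have : _root_.True := by simp only [_root_.Cfsg.Agent.H542.Co3.Tab.zer.eq_1]
  try have : _root_.True := by simp only [_root_.Cfsg.Agent.H542.Co3.Tab.dot.eq_1]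
  try have : _root_.True := by simp only [_root_.Cfsg.Agent.H542.Co3.Tab.dotV.eq_2]
  try have : _root_.True := by simp only [_root_.Cfsg.Agent.H542.Co3.Tab.inc.eq_def]
  try have : _root_.True := by simp only [_root_.Cfsg.Agent.H542.Co3.Tab.v4.eq_1]
  try have : _root_.True := by simp only [_root_.Cfsg.Agent.H542.Co3.Tab.good.eq_2]
  try have : _root_.True := by simp only [_root_.Cfsg.Agent.H542.Co3.Tab.mul4.eq_def]
  try have : _root_.True := by simp only [_root_.Cfsg.Agent.H542.Co3.Tab.cv.eq_1]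
  try have : _root_.True := by simp only [_root_.Cfsg.Agent.H542.Co3.Tab.mul4.eq_1]
  try have : _root_.True := by simp only [_root_.Cfsg.Agent.H542.Co3.Tab.cv.eq_def]
  try have : _root_.True := by simp only [_root_.Cfsg.Agent.H542.Co3.Tab.cv.eq_2]
  try have : _root_.True := by simp only [_root_.Cfsg.Agent.H542.Co3.Tab.sl.eq_def]
  try have : _root_.True := by simp only [_root_.Cfsg.Agent.H542.Co3.Tab.cnt.eq_2]
  try have : _root_.True := by simp only [_root_.Cfsg.Agent.H542.Co3.Tab.inc.eq_1]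
  try have : _root_.True := by simp only [_root_.Cfsg.Agent.H542.Co3.Tab.dotV.eq_1]
  try have : _root_.True := by simp only [_root_.Cfsg.Agent.H542.Co3.Tab.dotV.eq_def]
  try have : _root_.True := by simp only [_root_.Cfsg.Agent.H542.Co3.X0E8.L8.eq_1]
  try have : _root_.True := by simp only [_root_.Cfsg.Agent.H542.Co3.Tab.check.eq_1]
  try have : _root_.True := by simp only [_root_.Cfsg.Agent.H542.Co3.Tab.eqc.eq_1]
  try have : _root_.True := by simp only [_root_.Cfsg.Agent.H542.Co3.Tab.sl.eq_2]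
  try have : _root_.True := by simp only [_root_.Cfsg.Agent.H542.Co3.Tab.cnt.eq_def]
  try have : _root_.True := by simp only [_root_.Cfsg.Agent.H542.Co3.Tab.eqc.eq_2]
  try have : _root_.True := by simp only [_root_.Cfsg.Agent.H542.Co3.Tab.sl.eq_1]
  exact _root_.True.intro
end

-- part: H877/C3/Rows
section
prune_inst 0x4016034640be202000000059631003e569e000492004b8001d9e003420486de6a09022e20cca00912002088040034006815001034625000000e000400011901a088a25202b348a10ce6001f803182100000000000000000000000000000041004000000000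
set_option linter.all false
open scoped Cfsg.Agent.FastGrp

-- part: H877/C3/Red
section
/-!
# S1920, the rows of the Baby Monster and of the Monster: the reductions (helper877)

* `Conf.map` : transport of the configuration;
* `Red u K f` : `K ≤ C(u)` of index at most 2, `f : K → S` onto with kernel of order at most 4, the centralizers of the
  involutions of `S` are of characteristic 2;
* `kill_red`, `kill_ct` : no configuration in `Γ`, `θ : B → Γ`, `p : B → X` onto with kernel of order at most 2.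
-/

set_option autoImplicit false
set_option linter.unusedSectionVars false

open Subgroup

namespace Cfsg.Agent.H877.C3

open Cfsg Cfsg.Agent.H738.C3

section transport

variable {G G' : Type*} [Group G] [Group G'] {z : G} {N0 : Subgroup G}

theorem act_map (e : G ≃* G') {g : G} : Act (e z) (N0.map e.toMonoidHom) (e g) ↔ Act z N0 g := by
  have hz : ∀ x : G, e x ∈ zpowers (e z) ↔ x ∈ zpowers z := by
    intro x
    constructor
    · rintro ⟨k, hk⟩
      refine ⟨k, e.injective ?_⟩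
      rw [← hk]
      exact map_zpow e z k
    · rintro ⟨k, rfl⟩
      exact ⟨k, (map_zpow e z k).symm⟩
  constructor
  · intro h a ha
    have h1 := h (e a) ⟨a, ha, rfl⟩
    rw [← map_inv, ← map_inv, ← map_mul, ← map_mul, ← map_mul] at h1
    exact (hz _).1 h1
  · rintro h _ ⟨a, ha, rfl⟩
    show e g * e a * (e g)⁻¹ * (e a)⁻¹ ∈ _
    rw [← map_inv, ← map_inv, ← map_mul, ← map_mul, ← map_mul]
    exact (hz _).2 (h a ha)

/-- **Transport of the configuration.** -/
theorem conf_map (C : Conf z N0) (e : G ≃* G') : Conf (e z) (N0.map e.toMonoidHom) where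
  ord := by rw [MulEquiv.orderOf_eq]; exact C.ord
  mem := ⟨z, C.mem, rfl⟩
  card := by
    rw [← C.card]
    exact (Nat.card_congr (N0.equivMapOfInjective e.toMonoidHom e.injective).toEquiv).symm
  comm := by
    rintro _ ⟨a, ha, rfl⟩
    exact (act_map e).2 (C.comm a ha)
  sq := by
    rintro _ ⟨a, ha, rfl⟩
    obtain ⟨k, hk⟩ := C.sq a ha
    refine ⟨k, ?_⟩
    show e z ^ k = e a * e a
    rw [← map_zpow, ← map_mul]
    exact congrArg e hk
  kill := by
    intro W hW hWA hWn c hc w hw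
    have key := C.kill (W.comap e.toMonoidHom) (hW.comap_of_injective e.toMonoidHom e.injective) ?_ ?_ (e.symm c) ?_
      (e.symm w) ?_
    · have h1 := congrArg e key
      rwa [map_mul, map_mul, e.apply_symm_apply, e.apply_symm_apply] at h1
    · intro w hw
      exact (act_map e).1 (hWA _ hw)
    · intro g hg w hw
      show e (g * w * g⁻¹) ∈ W
      rw [map_mul, map_mul, map_inv]
      exact hWn _ ((act_map e).2 hg) _ hw
    · intro a ha
      apply e.injective
      rw [map_mul, map_mul, e.apply_symm_apply]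
      exact hc _ ⟨a, ha, rfl⟩
    · show e (e.symm w) ∈ W
      rwa [e.apply_symm_apply]

/-- Transport of the elements of `C(N0)`. -/
theorem comm_map (e : G ≃* G') {y : G} (hy : ∀ a ∈ N0, y * a = a * y) :
    ∀ a ∈ N0.map e.toMonoidHom, e y * a = a * e y := by
  rintro _ ⟨a, ha, rfl⟩
  show e y * e a = e a * e y
  rw [← map_mul, hy a ha, map_mul]

end transport

/-- The reduction at the involution `u`. -/
structure Red {X : Type*} [Group X] (u : X) (K : Subgroup X) {S : Type*} [Group S] (f : ↥K →* S) : Prop where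
  idx : ∀ g h, g * u = u * g → h * u = u * h → g ∉ K → h ∉ K → g * h ∈ K
  surj : Function.Surjective f
  ker_card : Nat.card ↥f.ker ≤ 4
  ker_two : IsPGroup 2 ↥f.ker
  one : ∀ h : u ∈ K, f ⟨u, h⟩ = 1
  nrm : ∀ g, g * u = u * g → ∀ k ∈ K, g * k * g⁻¹ ∈ K
  inv : ∀ g (hg : g * u = u * g) (k : ↥K), f k = 1 → f ⟨g * k * g⁻¹, nrm g hg k k.2⟩ = 1
  ch : ∀ v : S, orderOf v = 2 → IsOfCharacteristicTwo ↥(centralizer ({v} : Set S))

section kill

variable {Γ B X : Type*} [Group Γ] [Group B] [Group X] [Finite Γ] {z : Γ} {N0 : Subgroup Γ}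

theorem comap_surj {B X : Type*} [Group B] [Group X] {p : B →* X} (hp : Function.Surjective p) (K : Subgroup X) :
    Function.Surjective (p.subgroupComap K) := by
  rintro ⟨x, hx⟩
  obtain ⟨b, rfl⟩ := hp x
  exact ⟨⟨b, hx⟩, rfl⟩

/-- A subgroup `K` as in `idx` contains the elements of odd order. -/
theorem mem_of_odd {X : Type*} [Group X] {K : Subgroup X} {g : X} (h : g ∉ K → g * g ∈ K) (ho : Odd (orderOf g)) :
    g ∈ K := by
  by_contra hg
  have h1 := h hg
  obtain ⟨k, hk⟩ := ho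
  apply hg
  have h2 : g = (g * g) ^ (k + 1) := by
    rw [← pow_two, ← pow_mul, show 2 * (k + 1) = orderOf g + 1 by omega, pow_succ, pow_orderOf_eq_one, one_mul]
  rw [h2]
  exact pow_mem h1 _

/-- **The reduction.** -/
theorem kill_red (C : Conf z N0) {y : Γ} (hy1 : y ≠ 1) (ho : Odd (orderOf y)) (hyN : ∀ a ∈ N0, y * a = a * y)
    {θ : B →* Γ} (hθ : Function.Injective θ) (hA : ∀ g, Act z N0 g → ∃ b, θ b = g)
    {p : B →* X} (hp : Function.Surjective p) (hpk : Nat.card ↥p.ker ≤ 2) (hpk2 : IsPGroup 2 ↥p.ker)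
    {u : X} {K : Subgroup X} {S : Type*} [Group S] {f : ↥K →* S} (R : Red u K f)
    (hu : ∀ b, Act z N0 (θ b) → p b * u = u * p b) (hz : ∀ b, θ b = z → p b = 1 ∨ p b = u) : False := by
  classical
  have hfB : Finite B := Finite.of_injective θ hθ
  have hfX : Finite X := Finite.of_surjective p hp
  -- the map on `θ (p⁻¹ K)`
  let K₁ : Subgroup B := K.comap p
  let e : ↥K₁ ≃* ↥(K₁.map θ) := K₁.equivMapOfInjective θ hθ
  let F : ↥(K₁.map θ) →* S := (f.comp (p.subgroupComap K)).comp e.symm.toMonoidHom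
  have hF : ∀ (b : B) (hb : p b ∈ K) (h : θ b ∈ K₁.map θ), F ⟨θ b, h⟩ = f ⟨p b, hb⟩ := by
    intro b hb h
    have h1 : e.symm ⟨θ b, h⟩ = ⟨b, hb⟩ := by
      rw [MulEquiv.symm_apply_eq]
      exact Subtype.ext rfl
    show f (p.subgroupComap K (e.symm ⟨θ b, h⟩)) = _
    rw [h1]
    rfl
  have hFs : Function.Surjective F :=
    (R.surj.comp (comap_surj hp K)).comp e.symm.surjective
  have hmem : ∀ b : B, p b ∈ K → θ b ∈ K₁.map θ := fun b hb => ⟨b, hb, rfl⟩
  have hex : ∀ k ∈ K₁.map θ, ∃ b : B, p b ∈ K ∧ θ b = k := by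
    rintro _ ⟨b, hb, rfl⟩
    exact ⟨b, hb, rfl⟩
  have hzp : ∀ x ∈ zpowers z, x = 1 ∨ x = z := fun x hx => mem_zp C.ord hx
  -- `F z = 1`
  have hFz : ∀ h : z ∈ K₁.map θ, F ⟨z, h⟩ = 1 := by
    intro h
    obtain ⟨b, hb, hbz⟩ := hex z h
    have h1 : (⟨z, h⟩ : ↥(K₁.map θ)) = ⟨θ b, hmem b hb⟩ := Subtype.ext hbz.symm
    rw [h1, hF b hb]
    rcases hz b hbz with h2 | h2
    · have : (⟨p b, hb⟩ : ↥K) = 1 := Subtype.ext h2
      rw [this, map_one]
    · have h3 : u ∈ K := h2 ▸ hb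
      have : (⟨p b, hb⟩ : ↥K) = ⟨u, h3⟩ := Subtype.ext h2
      rw [this, R.one]
  -- an element of `N0`
  obtain ⟨n, hn, hnK, hn1⟩ : ∃ n ∈ N0, ∃ h : n ∈ K₁.map θ, F ⟨n, h⟩ ≠ 1 := by
    by_contra hcon
    push Not at hcon
    let N : Subgroup B := N0.comap θ
    have hNcard : Nat.card ↥N = 64 := by
      rw [← C.card]
      refine Nat.card_congr (Equiv.ofBijective (fun b : ↥N => (⟨θ b, b.2⟩ : ↥N0)) ⟨?_, ?_⟩)
      · intro a b hab
        exact Subtype.ext (hθ (congrArg Subtype.val hab))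
      · rintro ⟨n, hn⟩
        obtain ⟨b, rfl⟩ := hA n (C.comm n hn)
        exact ⟨⟨b, hn⟩, rfl⟩
    have hNu : ∀ b ∈ N, p b * u = u * p b := fun b hb => hu b (C.comm _ hb)
    let A : Subgroup B := K₁ ⊓ N
    have h1 : Nat.card ↥N ≤ 2 * Nat.card ↥A := by
      by_cases hall : ∀ b ∈ N, p b ∈ K
      · have : N ≤ A := fun b hb => mem_inf.2 ⟨hall b hb, hb⟩
        have h2 := Nat.card_le_card_of_injective _ (Subgroup.inclusion_injective this)
        omega
      · push Not at hall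
        obtain ⟨h, hh, hhK⟩ := hall
        have hcard : 2 * Nat.card ↥A = Nat.card (Bool × ↥A) := by
          rw [Nat.card_prod, Nat.card_eq_fintype_card (α := Bool), Fintype.card_bool]
        rw [hcard]
        have hA2 : ∀ g ∈ N, p g ∉ K → h * g ∈ A := by
          intro g hg hgK
          refine mem_inf.2 ⟨?_, N.mul_mem hh hg⟩
          show p (h * g) ∈ K
          rw [map_mul]
          exact R.idx _ _ (hNu h hh) (hNu g hg) hhK hgK
        refine Nat.card_le_card_of_injective (fun g : ↥N => if hg : p g ∈ K then (true, (⟨g, mem_inf.2 ⟨hg, g.2⟩⟩ : ↥A))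
          else (false, (⟨h * g, hA2 g g.2 hg⟩ : ↥A))) ?_
        intro a b hab
        by_cases ha : p a ∈ K <;> by_cases hb : p b ∈ K
        · simp only [ha, hb, dif_pos] at hab
          exact Subtype.ext (congrArg (fun x : Bool × ↥A => ((x.2 : ↥A) : B)) hab)
        · simp [ha, hb] at hab
        · simp [ha, hb] at hab
        · simp only [ha, hb, dif_neg, not_false_eq_true] at hab
          have := congrArg (fun x : Bool × ↥A => ((x.2 : ↥A) : B)) hab
          exact Subtype.ext (mul_left_cancel this)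
    have h2 : Nat.card ↥A ≤ 2 * 4 := by
      have hf1 : ∀ a : ↥A, f ⟨p a, (mem_inf.1 a.2).1⟩ = 1 := by
        intro a
        have h3 := hcon (θ a) (mem_inf.1 a.2).2 (hmem _ (mem_inf.1 a.2).1)
        rwa [hF a (mem_inf.1 a.2).1] at h3
      let φ : ↥A →* ↥f.ker :=
        { toFun := fun a => ⟨⟨p a, (mem_inf.1 a.2).1⟩, hf1 a⟩
          map_one' := Subtype.ext (Subtype.ext (map_one p))
          map_mul' := fun a b => Subtype.ext (Subtype.ext (map_mul p (a : B) b)) }
      have hk : Nat.card ↥φ.ker ≤ 2 := by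
        refine le_trans (Nat.card_le_card_of_injective (fun a : ↥φ.ker => (⟨(a : ↥A), by
          have := a.2
          rw [MonoidHom.mem_ker] at this ⊢
          exact congrArg (fun x : ↥f.ker => ((x : ↥K) : X)) this⟩ : ↥p.ker)) ?_) hpk
        intro a b hab
        have h3 := congrArg (fun x : ↥p.ker => (x : B)) hab
        exact Subtype.ext (Subtype.ext h3)
      rw [← φ.ker.card_mul_index, index_ker]
      refine Nat.mul_le_mul hk ?_
      refine le_trans ?_ R.ker_card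
      exact Nat.card_le_card_of_injective _ φ.range.subtype_injective
    omega
  have hn2 : orderOf (F ⟨n, hnK⟩) = 2 := by
    refine orderOf_eq_prime ?_ hn1
    rw [pow_two, ← map_mul]
    have h1 : n * n ∈ zpowers z := C.sq n hn
    rcases hzp _ h1 with h2 | h2
    · have : (⟨n, hnK⟩ * ⟨n, hnK⟩ : ↥(K₁.map θ)) = 1 := Subtype.ext h2
      rw [this, map_one]
    · have hzK : z ∈ K₁.map θ := by rw [← h2]; exact mul_mem hnK hnK
      have : (⟨n, hnK⟩ * ⟨n, hnK⟩ : ↥(K₁.map θ)) = ⟨z, hzK⟩ := Subtype.ext h2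
      rw [this]
      exact hFz hzK
  have hKn : ∀ g, Act z N0 g → ∀ k ∈ K₁.map θ, g * k * g⁻¹ ∈ K₁.map θ := by
    intro g hg k hk
    obtain ⟨a, rfl⟩ := hA g hg
    obtain ⟨b, hb, rfl⟩ := hex k hk
    rw [← map_mul, ← map_inv, ← map_mul]
    apply hmem
    rw [map_mul, map_mul, map_inv]
    exact R.nrm _ (hu a hg) _ hb
  have hyK : y ∈ K₁.map θ := by
    have hAy := act_of_comm (z := z) hyN
    obtain ⟨b, rfl⟩ := hA y hAy
    apply hmem
    refine mem_of_odd (fun h => R.idx _ _ (hu b hAy) (hu b hAy) h h) ?_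
    refine Odd.of_dvd_nat ho ?_
    rw [orderOf_injective θ hθ]
    exact orderOf_map_dvd p b
  refine C.kill_quot F hFs ?_ hKn ?_ hFz hn hnK (R.ch _ hn2) hyK hy1 ho hyN
  · -- the kernel is a 2-group
    rintro ⟨⟨k, hk⟩, hkF⟩
    obtain ⟨b, hb, rfl⟩ := hex k hk
    rw [MonoidHom.mem_ker, hF b hb] at hkF
    obtain ⟨i, hi⟩ := R.ker_two ⟨⟨p b, hb⟩, hkF⟩
    have hi' : p (b ^ 2 ^ i) = 1 := by
      rw [map_pow]
      exact congrArg (fun x : ↥f.ker => ((x : ↥K) : X)) hi
    obtain ⟨j, hj⟩ := hpk2 ⟨b ^ 2 ^ i, hi'⟩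
    have hj' : (b ^ 2 ^ i) ^ 2 ^ j = 1 := congrArg Subtype.val hj
    refine ⟨i + j, Subtype.ext (Subtype.ext ?_)⟩
    show θ b ^ 2 ^ (i + j) = 1
    rw [pow_add, pow_mul, ← map_pow, ← map_pow, hj', map_one]
  · intro g hg k hk
    obtain ⟨k, hkK⟩ := k
    obtain ⟨a, rfl⟩ := hA g hg
    obtain ⟨b, hb, rfl⟩ := hex k hkK
    rw [hF b hb] at hk
    have h1 := R.inv (p a) (hu a hg) ⟨p b, hb⟩ hk
    have hmm : p (a * b * a⁻¹) ∈ K := by
      rw [map_mul, map_mul, map_inv]
      exact R.nrm _ (hu a hg) _ hb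
    have h2 : (⟨θ a * θ b * (θ a)⁻¹, hKn (θ a) hg _ hkK⟩ : ↥(K₁.map θ)) = ⟨θ (a * b * a⁻¹), hmem _ hmm⟩ :=
      Subtype.ext (by
        show θ a * θ b * (θ a)⁻¹ = θ (a * b * a⁻¹)
        rw [map_mul, map_mul, map_inv])
    rw [h2, hF _ hmm, ← h1]
    congr 1
    apply Subtype.ext
    show p (a * b * a⁻¹) = p a * p b * (p a)⁻¹
    rw [map_mul, map_mul, map_inv]

/-- **The case of characteristic 2.** -/
theorem kill_ct (C : Conf z N0) {y : Γ} (hy1 : y ≠ 1) (ho : Odd (orderOf y)) (hyN : ∀ a ∈ N0, y * a = a * y)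
    {θ : B →* Γ} (hθ : Function.Injective θ) (hA : ∀ g, Act z N0 g → ∃ b, θ b = g)
    {p : B →* X} (hp : Function.Surjective p) (hpk2 : IsPGroup 2 ↥p.ker)
    {n : B} (hn : θ n ∈ N0) (hz : ∀ b, θ b = z → p b = 1) (hZ : ∀ b, z * θ b = θ b * z)
    (hch : IsOfCharacteristicTwo ↥(centralizer ({p n} : Set X))) : False := by
  classical
  let e : B ≃* ↥θ.range := MonoidHom.ofInjective hθ
  have he : ∀ b, e b = ⟨θ b, ⟨b, rfl⟩⟩ := fun b => rfl
  let F : ↥θ.range →* X := p.comp e.symm.toMonoidHom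
  have hF : ∀ (b : B) (h : θ b ∈ θ.range), F ⟨θ b, h⟩ = p b := by
    intro b h
    show p (e.symm ⟨θ b, h⟩) = p b
    congr 1
    rw [MulEquiv.symm_apply_eq]
    rfl
  have hFz : ∀ h : z ∈ θ.range, F ⟨z, h⟩ = 1 := by
    intro h
    obtain ⟨b, hb⟩ := id h
    have h1 : (⟨z, h⟩ : ↥θ.range) = ⟨θ b, ⟨b, rfl⟩⟩ := Subtype.ext hb.symm
    exact (congrArg F h1).trans ((hF b _).trans (hz b hb))
  have hKn : ∀ g, Act z N0 g → ∀ k ∈ θ.range, g * k * g⁻¹ ∈ θ.range := by
    rintro g hg _ ⟨b, rfl⟩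
    obtain ⟨a, rfl⟩ := hA g hg
    exact ⟨a * b * a⁻¹, by rw [map_mul, map_mul, map_inv]⟩
  have hyR : y ∈ θ.range := by
    obtain ⟨b, hb⟩ := hA y (act_of_comm hyN)
    exact ⟨b, hb⟩
  refine C.kill_quot (n := θ n) F (hp.comp e.symm.surjective) ?_ hKn ?_ hFz hn ⟨n, rfl⟩ ?_ hyR hy1 ho hyN
  · rintro ⟨⟨_, ⟨b, rfl⟩⟩, hk⟩
    have hk' : p b = 1 := (hF b _).symm.trans (MonoidHom.mem_ker.1 hk)
    obtain ⟨i, hi⟩ := hpk2 ⟨b, hk'⟩
    have hi' : b ^ 2 ^ i = 1 := congrArg Subtype.val hi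
    refine ⟨i, Subtype.ext (Subtype.ext ?_)⟩
    show θ b ^ 2 ^ i = 1
    rw [← map_pow, hi', map_one]
  · rintro g hg ⟨_, ⟨b, rfl⟩⟩ hk
    obtain ⟨a, rfl⟩ := hA g hg
    have hk' : p b = 1 := (hF b _).symm.trans hk
    have h2 : (⟨θ a * θ b * (θ a)⁻¹, hKn (θ a) hg _ ⟨b, rfl⟩⟩ : ↥θ.range) = ⟨θ (a * b * a⁻¹), ⟨_, rfl⟩⟩ :=
      Subtype.ext (by
        show θ a * θ b * (θ a)⁻¹ = θ (a * b * a⁻¹)
        rw [map_mul, map_mul, map_inv])
    refine (congrArg F h2).trans ((hF _ _).trans ?_)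
    rw [map_mul, map_mul, map_inv, hk', mul_one, mul_inv_cancel]
  · have h3 : F ⟨θ n, ⟨n, rfl⟩⟩ = p n := hF n _
    exact h3.symm ▸ hch

end kill

end Cfsg.Agent.H877.C3
end

-- part: H877/C3/Char
section
/-!
# S1920, the rows of the Baby Monster and of the Monster: centralizers of characteristic 2 (helper877)

`q : B → X` onto with kernel `{1, τ}`, `B = C_Γ(θ τ)` : if `w` or `w τ` is conjugate in `Γ` to the central involution of a
large extraspecial group then `C_X(q w)` is of characteristic 2.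
-/

set_option autoImplicit false
set_option linter.unusedSectionVars false

open Subgroup

namespace Cfsg.Agent.H877.C3

open Cfsg Cfsg.Agent.R01.Lifts Cfsg.Agent.BabyComp Cfsg.Agent.CpAut.TwoAbs

universe u v w

variable {X : Type u} {B : Type v} {Γ : Type w} [Group X] [Group B] [Group Γ] [Finite X] [Finite B] [Finite Γ]
  {q : B →* X} {τ : B}

/-- A lift of odd order. -/
theorem exists_odd_lift (hq : _root_.Cfsg.Agent.R01.Lifts.Ext q τ) {c : X} (ho : Odd (orderOf c)) {w : B} (hc : c * q w = q w * c) :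
    ∃ b : B, q b = c ∧ Odd (orderOf b) ∧ b * w = w * b := by
  obtain ⟨a, rfl⟩ := hq.surj c
  set m := orderOf (q a) with hm
  have hzz : τ ^ 2 = 1 := by rw [pow_two, hq.zz]
  have h1 : a ^ m = 1 ∨ a ^ m = τ := by
    rw [← hq.ker, map_pow, hm, pow_orderOf_eq_one]
  obtain ⟨k, hk⟩ := ho
  have h2 : (a ^ m) ^ 2 = 1 := by
    rcases h1 with h | h
    · rw [h, one_pow]
    · rw [h, hzz]
  have hsq : (a * a) * w = w * (a * a) := by
    rcases hq.conj_of_commute (g := a) (a := w) hc with h | h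
    · rw [mul_inv_eq_iff_eq_mul] at h
      rw [mul_assoc, h, ← mul_assoc, h, mul_assoc]
    · rw [mul_inv_eq_iff_eq_mul] at h
      calc a * a * w = a * (a * w) := mul_assoc _ _ _
        _ = a * (w * τ * a) := by rw [h]
        _ = (a * w) * (τ * a) := by group
        _ = w * τ * a * (τ * a) := by rw [h]
        _ = w * (τ * a) * (τ * a) := by group
        _ = w * (a * τ) * (τ * a) := by rw [hq.comm a]
        _ = w * a * (τ * τ) * a := by group
        _ = w * (a * a) := by rw [hq.zz, mul_one, mul_assoc]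
  refine ⟨(a * a) ^ (k + 1), ?_, ?_, ?_⟩
  · rw [← pow_two, ← pow_mul, map_pow, show 2 * (k + 1) = m + 1 by omega, pow_succ, hm, pow_orderOf_eq_one, one_mul]
  · have h3 : ((a * a) ^ (k + 1)) ^ m = 1 := by
      rw [← pow_two, ← pow_mul, ← pow_mul, show 2 * ((k + 1) * m) = m * 2 * (k + 1) by ring, pow_mul, pow_mul, h2,
        one_pow]
    exact Odd.of_dvd_nat ⟨k, hk⟩ (orderOf_dvd_of_pow_eq_one h3)
  · exact (show Commute (a * a) w from hsq).pow_left _

/-- An element of odd order which commutes with `r` modulo `τ`. -/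
theorem comm_of_odd (hq : _root_.Cfsg.Agent.R01.Lifts.Ext q τ) {b r : B} (ho : Odd (orderOf b)) (hc : q b * q r = q r * q b) : b * r = r * b := by
  rcases hq.conj_of_commute (g := b) (a := r) hc with h | h
  · exact mul_inv_eq_iff_eq_mul.1 h
  · exfalso
    have key : ∀ n : ℕ, b ^ n * r * (b ^ n)⁻¹ = r * τ ^ n := by
      intro n
      induction n with
      | zero => simp
      | succ n ih =>
        have h2 : b * τ ^ n * b⁻¹ = τ ^ n := by
          rw [mul_inv_eq_iff_eq_mul]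
          exact (show Commute b τ from hq.comm b).pow_right n
        calc b ^ (n + 1) * r * (b ^ (n + 1))⁻¹ = b * (b ^ n * r * (b ^ n)⁻¹) * b⁻¹ := by rw [pow_succ']; group
          _ = (b * r * b⁻¹) * (b * τ ^ n * b⁻¹) := by rw [ih]; group
          _ = r * τ * τ ^ n := by rw [h, h2]
          _ = r * τ ^ (n + 1) := by rw [pow_succ', mul_assoc]
    have h1 := key (orderOf b)
    rw [pow_orderOf_eq_one, pow_odd_of_sq hq.zz ho] at h1
    apply hq.zne
    have : r = r * τ := by simpa using h1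
    exact mul_eq_left.1 this.symm

/-- **The centralizer is of characteristic 2.** -/
theorem ct_cent (hq : _root_.Cfsg.Agent.R01.Lifts.Ext q τ) {θ : B →* Γ} (hθ : Function.Injective θ)
    (hr : ∀ x : Γ, x * θ τ = θ τ * x → ∃ b, θ b = x) {w : B} {Q : Subgroup Γ} (hQ : IsPGroup 2 Q)
    (hn : ∀ x, x * θ w = θ w * x → ∀ r ∈ Q, x * r * x⁻¹ ∈ Q)
    (hc : ∀ x, x * θ w = θ w * x → (∀ r ∈ Q, x * r = r * x) → x ∈ Q)
    (hQw : ∀ r ∈ Q, r * θ w = θ w * r) : IsOfCharacteristicTwo ↥(centralizer ({q w} : Set X)) := by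
  have : Fact (Nat.Prime 2) := ⟨Nat.prime_two⟩
  set C := centralizer ({q w} : Set X) with hC
  let D : Subgroup B := centralizer ({w} : Set B)
  have hcore : IsPGroup 2 ↥(pCore 2 ↥D) := Lib.Cores.pCore_isPGroup 2
  have hcn : (pCore 2 ↥D).Normal := Lib.Cores.pCore_normal 2
  have hchr : (pCore 2 ↥D).Characteristic := Lib.Cores.pCore_characteristic 2
  let P : Subgroup B := (pCore 2 ↥D).map D.subtype
  -- `P` is invariant
  have hP : ∀ b : B, q b * q w = q w * q b → ∀ r ∈ P, b * r * b⁻¹ ∈ P := by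
    intro b hb
    have hD : D.map (MulAut.conj b).toMonoidHom = D := by
      have h1 : ∀ b : B, q b * q w = q w * q b → ∀ r ∈ D, b * r * b⁻¹ ∈ D := by
        intro b hb r hr'
        have hr2 : r * w = w * r := mem_centralizer_singleton_iff.1 hr'
        have hbi : q b⁻¹ * q w = q w * q b⁻¹ := by
          rw [map_inv, inv_mul_eq_iff_eq_mul, ← mul_assoc, hb, mul_inv_cancel_right]
        show b * r * b⁻¹ ∈ centralizer ({w} : Set B)
        rw [mem_centralizer_singleton_iff]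
        have h2 : b⁻¹ * w * b = w ∨ b⁻¹ * w * b = w * τ := by
          have := hq.conj_of_commute (g := b⁻¹) (a := w) hbi
          rwa [inv_inv] at this
        have h3 : r * (b⁻¹ * w * b) = (b⁻¹ * w * b) * r := by
          rcases h2 with h2 | h2
          · rw [h2, hr2]
          · rw [h2, ← mul_assoc, hr2, mul_assoc, hq.comm r, ← mul_assoc]
        calc b * r * b⁻¹ * w = b * (r * (b⁻¹ * w * b)) * b⁻¹ := by group
          _ = b * ((b⁻¹ * w * b) * r) * b⁻¹ := by rw [h3]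
          _ = w * (b * r * b⁻¹) := by group
      have hbi : q b⁻¹ * q w = q w * q b⁻¹ := by
        rw [map_inv, inv_mul_eq_iff_eq_mul, ← mul_assoc, hb, mul_inv_cancel_right]
      apply le_antisymm
      · rintro _ ⟨r, hr', rfl⟩
        exact h1 b hb r hr'
      · intro r hr'
        refine ⟨b⁻¹ * r * b, ?_, ?_⟩
        · have := h1 b⁻¹ hbi r hr'
          rwa [inv_inv] at this
        · show b * (b⁻¹ * r * b) * b⁻¹ = r
          group
    let β : ↥D ≃* ↥D := (D.equivMapOfInjective (MulAut.conj b).toMonoidHom (MulAut.conj b).injective).trans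
      (MulEquiv.subgroupCongr hD)
    rintro _ ⟨r, hr', rfl⟩
    have h1 := characteristic_iff_le_comap.1 hchr β hr'
    exact ⟨β r, h1, rfl⟩
  let R : Subgroup ↥C := (P.map q).subgroupOf C
  have hRn : R.Normal := by
    constructor
    intro r hr' c
    have hc1 := mem_centralizer_singleton_iff.1 c.2
    obtain ⟨b, hb⟩ := hq.surj c
    rw [mem_subgroupOf] at hr' ⊢
    obtain ⟨a, ha, har⟩ := hr'
    refine ⟨b * a * b⁻¹, hP b (by rw [hb]; exact hc1) a ha, ?_⟩
    rw [map_mul, map_mul, map_inv, hb, har]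
    rfl
  have hR2 : IsPGroup 2 ↥R := ((hcore.map D.subtype).map q).comap_subtype
  refine ct_of hRn hR2 ?_
  rintro ⟨c, hcC⟩ hcR ho
  rw [Subgroup.orderOf_mk] at ho
  apply Subtype.ext
  change c = 1
  obtain ⟨b, hb, hbo, hbw⟩ := exists_odd_lift hq ho (w := w) (mem_centralizer_singleton_iff.1 hcC)
  -- `b` commutes with `P`
  have hbP : ∀ r ∈ P, b * r = r * b := by
    intro r hr'
    apply comm_of_odd hq hbo
    have hrC : q r ∈ C := by
      obtain ⟨d, -, rfl⟩ := hr'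
      rw [hC, mem_centralizer_singleton_iff, ← map_mul]
      have := mem_centralizer_singleton_iff.1 d.2
      show q ((d : B) * w) = _
      rw [this, map_mul]
      rfl
    have h1 := mem_centralizer_iff.1 hcR ⟨q r, hrC⟩ (mem_subgroupOf.2 ⟨r, hr', rfl⟩)
    have h2 : q r * c = c * q r := congrArg Subtype.val h1
    rw [hb, h2]
  -- `Q ∩ B ≤ P`
  have hQP : Q.comap θ ≤ P := by
    have hle : Q.comap θ ≤ D := by
      intro r hr'
      show r ∈ centralizer ({w} : Set B)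
      rw [mem_centralizer_singleton_iff]
      apply hθ
      rw [map_mul, map_mul]
      exact hQw _ hr'
    have h1 : (Q.comap θ).subgroupOf D ≤ pCore 2 ↥D := by
      refine Lib.Cores.le_pCore ?_ ?_
      · constructor
        intro r hr' d
        rw [mem_subgroupOf] at hr' ⊢
        show θ ((d : B) * r * (d : B)⁻¹) ∈ Q
        rw [map_mul, map_mul, map_inv]
        refine hn _ ?_ _ hr'
        rw [← map_mul, mem_centralizer_singleton_iff.1 d.2, map_mul]
      · refine IsPGroup.comap_subtype ?_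
        exact hQ.comap_of_injective θ hθ
    intro r hr'
    exact ⟨⟨r, hle hr'⟩, h1 (mem_subgroupOf.2 hr'), rfl⟩
  have hb1 : θ b = 1 := by
    refine Abs.odd_eq_one hQ (T := θ τ) (g := θ w) (by rw [← map_mul, hq.zz, map_one]) hn hc
      (by rw [← map_mul, ← map_mul, hq.comm]) (by rw [← map_mul, hbw, map_mul])
      (by rw [← map_mul, ← map_mul, hq.comm]) ?_ ?_
    · rw [orderOf_injective θ hθ]
      exact hbo.coprime_two_right
    · intro r hr' hrT
      obtain ⟨s, rfl⟩ := hr r hrT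
      rw [← map_mul, ← map_mul]
      exact congrArg θ (hbP s (hQP hr'))
  rw [← hb, hθ (hb1.trans (map_one θ).symm), map_one]

/-- **The centralizer is of characteristic 2**, in terms of `Large`. -/
theorem ct_of_large (hq : _root_.Cfsg.Agent.R01.Lifts.Ext q τ) {θ : B →* Γ} (hθ : Function.Injective θ)
    (hr : ∀ x : Γ, x * θ τ = θ τ * x → ∃ b, θ b = x) {Q : Subgroup Γ} {z : Γ}
    (hL : Cfsg.Agent.Co2Type.Quad.Large Q z) {v w : B} (hvw : w = v ∨ w = v * τ) (hw : IsConj z (θ w)) :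
    IsOfCharacteristicTwo ↥(centralizer ({q v} : Set X)) := by
  have hqv : q w = q v := by
    rcases hvw with rfl | rfl
    · rfl
    · rw [map_mul, hq.mapz, mul_one]
  rw [← hqv]
  obtain ⟨g, hg⟩ := isConj_iff.1 hw
  have hz : g⁻¹ * θ w * g = z := by rw [← hg]; group
  have hcomm : ∀ x : Γ, x * θ w = θ w * x → (g⁻¹ * x * g) * z = z * (g⁻¹ * x * g) := by
    intro x hx
    rw [← hz]
    calc g⁻¹ * x * g * (g⁻¹ * θ w * g) = g⁻¹ * (x * θ w) * g := by group
      _ = g⁻¹ * (θ w * x) * g := by rw [hx]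
      _ = _ := by group
  have hmem : ∀ x : Γ, x ∈ Q.comap (MulAut.conj g⁻¹).toMonoidHom ↔ g⁻¹ * x * g ∈ Q := by
    intro x
    show g⁻¹ * x * g⁻¹⁻¹ ∈ Q ↔ _
    rw [inv_inv]
  refine ct_cent hq hθ hr (Q := Q.comap (MulAut.conj g⁻¹).toMonoidHom) ?_ ?_ ?_ ?_
  · rintro ⟨x, hx⟩
    rw [hmem] at hx
    refine ⟨2, Subtype.ext ?_⟩
    show x ^ 2 ^ 2 = 1
    have h1 : (g⁻¹ * x * g) ^ 4 = 1 := by
      rcases hL.sq _ hx with h2 | h2
      · rw [show (4 : ℕ) = 2 * 2 by norm_num, pow_mul, pow_two (g⁻¹ * x * g), h2, one_pow]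
      · rw [show (4 : ℕ) = 2 * 2 by norm_num, pow_mul, pow_two (g⁻¹ * x * g), h2, pow_two, hL.z_sq]
    have h2 : (g⁻¹ * x * g) ^ 4 = g⁻¹ * x ^ 4 * g := by
      have := conj_pow (a := g⁻¹) (b := x) (i := 4)
      rwa [inv_inv] at this
    rw [h2] at h1
    have h3 : x ^ 4 = g * (g⁻¹ * x ^ 4 * g) * g⁻¹ := by group
    rw [show (2 : ℕ) ^ 2 = 4 by norm_num, h3, h1]
    group
  · intro x hx r hr'
    rw [hmem] at hr' ⊢
    have h1 := hL.conj_mem _ (hcomm x hx) _ hr'
    have h2 : g⁻¹ * (x * r * x⁻¹) * g = g⁻¹ * x * g * (g⁻¹ * r * g) * (g⁻¹ * x * g)⁻¹ := by group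
    rwa [h2]
  · intro x hx hxr
    rw [hmem]
    refine hL.self _ (hcomm x hx) ?_
    intro r hr'
    have h1 := hxr (g * r * g⁻¹) (by
      rw [hmem]
      have : g⁻¹ * (g * r * g⁻¹) * g = r := by group
      rwa [this])
    calc g⁻¹ * x * g * r = g⁻¹ * (x * (g * r * g⁻¹)) * g := by group
      _ = g⁻¹ * (g * r * g⁻¹ * x) * g := by rw [h1]
      _ = r * (g⁻¹ * x * g) := by group
  · intro r hr'
    rw [hmem] at hr'
    have h1 := hL.comm_z _ hr'
    rw [← hz] at h1
    calc r * θ w = g * (g⁻¹ * r * g * (g⁻¹ * θ w * g)) * g⁻¹ := by group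
      _ = g * (g⁻¹ * θ w * g * (g⁻¹ * r * g)) * g⁻¹ := by rw [h1]
      _ = θ w * r := by group

/-- **`C_Γ(z)` is of characteristic 2**, in terms of `Large`. -/
theorem ct_large {Q : Subgroup Γ} {z : Γ} (hL : Cfsg.Agent.Co2Type.Quad.Large Q z) :
    IsOfCharacteristicTwo ↥(centralizer ({z} : Set Γ)) := by
  have hle : Q ≤ centralizer ({z} : Set Γ) := fun x hx => mem_centralizer_singleton_iff.2 (hL.comm_z x hx)
  refine ct_iff.2 ⟨Q.subgroupOf (centralizer {z}), ?_, ?_, ?_⟩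
  · constructor
    intro r hr' d
    rw [mem_subgroupOf] at hr' ⊢
    exact hL.conj_mem _ (mem_centralizer_singleton_iff.1 d.2) _ hr'
  · rintro ⟨⟨x, hxc⟩, hx⟩
    rw [mem_subgroupOf] at hx
    refine ⟨2, Subtype.ext (Subtype.ext ?_)⟩
    show x ^ 2 ^ 2 = 1
    rcases hL.sq _ hx with h2 | h2
    · rw [show (2 : ℕ) ^ 2 = 2 * 2 by norm_num, pow_mul, pow_two x, h2, one_pow]
    · rw [show (2 : ℕ) ^ 2 = 2 * 2 by norm_num, pow_mul, pow_two x, h2, pow_two, hL.z_sq]
  · intro x hx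
    rw [mem_subgroupOf]
    refine hL.self _ (mem_centralizer_singleton_iff.1 x.2) ?_
    intro r hr'
    have := mem_centralizer_iff.1 hx ⟨r, hle hr'⟩ (mem_subgroupOf.2 hr')
    exact (congrArg Subtype.val this).symm

end Cfsg.Agent.H877.C3
end

-- part: H877/C3/RedTwo
section
/-!
# S1920, the rows of the Baby Monster and of the Monster: the classes `2A`, `2C` of the Baby Monster (helper877)

`red_A` : the reduction at the transposition `t`; `red_C` : at a product of two commuting transpositions;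
`cases` : all the involutions.
-/

set_option autoImplicit false
set_option linter.unusedSectionVars false

open Subgroup

namespace Cfsg.Agent.H877.C3

open Cfsg Cfsg.Agent.BabyComp Cfsg.Agent.CpAut.TwoAbs

universe u v

section two

variable {X : Type u} {E : Type v} [Group X] [Group E] [Finite X] [Finite E] {t : X} {X₀ : Subgroup X} {σ : ↥X₀ →* E}

/-- **The transposition `t`.** -/
theorem red_A (H : Sec.Data t σ)
    (hidx : ∀ g h, g * t = t * g → h * t = t * h → g ∉ X₀ → h ∉ X₀ → g * h ∈ X₀)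
    (hE : ∀ v : E, orderOf v = 2 → IsOfCharacteristicTwo ↥(centralizer ({v} : Set E))) : Red t X₀ σ where
  idx := hidx
  surj := H.surj
  ker_card := by
    have hinj : Function.Injective (fun k : ↥σ.ker => (⟨((k : ↥X₀) : X), by
        rcases (H.ker k).1 k.2 with h | h
        · rw [h]; exact one_mem _
        · rw [h]; exact mem_zpowers t⟩ : ↥(zpowers t))) := by
      intro a b hab
      have h := congrArg (fun y : ↥(zpowers t) => (y : X)) hab
      exact Subtype.ext (Subtype.ext h)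
    refine (Nat.card_le_card_of_injective _ hinj).trans ?_
    rw [Nat.card_zpowers]
    exact (orderOf_le_of_pow_eq_one (by norm_num : 0 < 2) (by rw [pow_two, H.t_sq])).trans (by norm_num)
  ker_two := by
    rintro ⟨k, hk⟩
    refine ⟨1, Subtype.ext (Subtype.ext ?_)⟩
    show (k : X) ^ 2 ^ 1 = 1
    rcases (H.ker k).1 hk with h | h
    · rw [h, one_pow]
    · rw [h, pow_one, pow_two, H.t_sq]
  one := fun h => (H.ker _).2 (Or.inr rfl)
  nrm := H.nrm
  inv := by
    intro g hg k hk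
    rw [H.ker] at hk ⊢
    show g * (k : X) * g⁻¹ = 1 ∨ g * (k : X) * g⁻¹ = t
    rcases hk with h | h
    · left; rw [h]; group
    · right; rw [h, hg, mul_inv_cancel_right]
  ch := hE

/-- **The product `u` of two commuting transpositions `t`, `u t`.** -/
theorem red_C (H : Sec.Data t σ)
    (hidx : ∀ g h, g * t = t * g → h * t = t * h → g ∉ X₀ → h ∉ X₀ → g * h ∈ X₀)
    (hE : ∀ v : E, orderOf v = 2 → IsOfCharacteristicTwo ↥(centralizer ({v} : Set E)))
    {u : X} (huu : u * u = 1) (hut : u * t = t * u) (huX : u ∉ X₀)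
    (hsw : ∀ g, g * u = u * g → g * t * g⁻¹ = t ∨ g * t * g⁻¹ = u * t)
    (hnc : ¬ IsConj (u * t) u) :
    ∃ (K : Subgroup X) (x : MulAut E) (f : ↥K →* ↥(fixedSubgroup x)), Red u K f := by
  classical
  obtain ⟨x, hx, hxx⟩ := Sec.exists_aut H hut huu
  have hui : u⁻¹ = u := inv_eq_of_mul_eq_one_left huu
  have hti : t⁻¹ = t := inv_eq_of_mul_eq_one_left H.t_sq
  let K : Subgroup X := centralizer ({t} : Set X) ⊓ centralizer ({u} : Set X)
  have hK : ∀ g : X, g ∈ K ↔ g * t = t * g ∧ g * u = u * g := by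
    intro g
    rw [mem_inf, mem_centralizer_singleton_iff, mem_centralizer_singleton_iff]
  have huK : u ∈ K := (hK u).2 ⟨hut, rfl⟩
  -- the component in `X₀`
  have hmul : ∀ k ∈ K, k ∉ X₀ → k * u ∈ X₀ := fun k hk hkX => hidx _ _ ((hK k).1 hk).1 hut hkX huX
  have hmul' : ∀ k ∈ X₀, k * u ∉ X₀ := by
    intro k hk h
    apply huX
    have : u = k⁻¹ * (k * u) := by group
    rw [this]
    exact mul_mem (inv_mem hk) h
  let pr : ↥K → ↥X₀ := fun k => if h : (k : X) ∈ X₀ then ⟨k, h⟩ else ⟨(k : X) * u, hmul k k.2 h⟩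
  have pr_in : ∀ (k : ↥K) (h : (k : X) ∈ X₀), pr k = ⟨k, h⟩ := fun k h => dif_pos h
  have pr_out : ∀ (k : ↥K) (h : (k : X) ∉ X₀), pr k = ⟨(k : X) * u, hmul k k.2 h⟩ := fun k h => dif_neg h
  have pr_mul : ∀ a b : ↥K, pr (a * b) = pr a * pr b := by
    intro a b
    have hbu : (b : X) * u = u * b := ((hK b).1 b.2).2
    have hau : (a : X) * u = u * a := ((hK a).1 a.2).2
    by_cases ha : (a : X) ∈ X₀ <;> by_cases hb : (b : X) ∈ X₀
    · rw [pr_in a ha, pr_in b hb, pr_in (a * b) (mul_mem ha hb)]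
      rfl
    · have hab : ((a * b : ↥K) : X) ∉ X₀ := by
        intro h
        apply hb
        have : (b : X) = (a : X)⁻¹ * ((a * b : ↥K) : X) := by
          rw [coe_mul]; group
        rw [this]
        exact mul_mem (inv_mem ha) h
      rw [pr_in a ha, pr_out b hb, pr_out (a * b) hab]
      apply Subtype.ext
      show (a : X) * b * u = a * (b * u)
      rw [mul_assoc]
    · have hab : ((a * b : ↥K) : X) ∉ X₀ := by
        intro h
        apply ha
        have : (a : X) = ((a * b : ↥K) : X) * (b : X)⁻¹ := by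
          rw [coe_mul]; group
        rw [this]
        exact mul_mem h (inv_mem hb)
      rw [pr_out a ha, pr_in b hb, pr_out (a * b) hab]
      apply Subtype.ext
      show (a : X) * b * u = a * u * b
      rw [mul_assoc, hbu, ← mul_assoc]
    · have hab : ((a * b : ↥K) : X) ∈ X₀ := hidx _ _ ((hK a).1 a.2).1 ((hK b).1 b.2).1 ha hb
      rw [pr_out a ha, pr_out b hb, pr_in (a * b) hab]
      apply Subtype.ext
      show (a : X) * b = a * u * (b * u)
      rw [hbu]
      calc (a : X) * b = a * 1 * b := by rw [mul_one]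
        _ = a * u * (u * b) := by rw [← huu]; group
  have pr_fix : ∀ k : ↥K, x (σ (pr k)) = σ (pr k) := by
    intro k
    rw [hx]
    congr 1
    apply Subtype.ext
    rw [Sec.cj_coe]
    have hku : (k : X) * u = u * k := ((hK k).1 k.2).2
    by_cases h : (k : X) ∈ X₀
    · rw [pr_in k h]
      show u * (k : X) * u⁻¹ = k
      rw [← hku, mul_inv_cancel_right]
    · rw [pr_out k h]
      show u * ((k : X) * u) * u⁻¹ = k * u
      calc u * ((k : X) * u) * u⁻¹ = u * k := by group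
        _ = k * u := hku.symm
  let f : ↥K →* ↥(fixedSubgroup x) :=
    { toFun := fun k => ⟨σ (pr k), pr_fix k⟩
      map_one' := by
        apply Subtype.ext
        show σ (pr 1) = 1
        rw [pr_in 1 (one_mem _)]
        exact map_one σ
      map_mul' := fun a b => by
        apply Subtype.ext
        show σ (pr (a * b)) = σ (pr a) * σ (pr b)
        rw [pr_mul, map_mul] }
  have hfc : ∀ k : ↥K, ((f k : ↥(fixedSubgroup x)) : E) = σ (pr k) := fun k => rfl
  -- the kernel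
  have hker : ∀ k : ↥K, f k = 1 ↔ ((k : X) = 1 ∨ (k : X) = t ∨ (k : X) = u ∨ (k : X) = t * u) := by
    intro k
    have h1 : f k = 1 ↔ σ (pr k) = 1 := ⟨fun h => congrArg Subtype.val h, fun h => Subtype.ext h⟩
    rw [h1, H.ker]
    by_cases h : (k : X) ∈ X₀
    · rw [pr_in k h]
      show (k : X) = 1 ∨ (k : X) = t ↔ _
      constructor
      · rintro (h2 | h2)
        · exact Or.inl h2
        · exact Or.inr (Or.inl h2)
      · rintro (h2 | h2 | h2 | h2)
        · exact Or.inl h2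
        · exact Or.inr h2
        · exact absurd (h2 ▸ h) huX
        · exact absurd (h2 ▸ h) (hmul' t H.mem)
    · rw [pr_out k h]
      show (k : X) * u = 1 ∨ (k : X) * u = t ↔ _
      constructor
      · rintro (h2 | h2)
        · right; right; left
          rw [eq_inv_of_mul_eq_one_left h2, hui]
        · right; right; right
          rw [← h2, mul_assoc, huu, mul_one]
      · rintro (h2 | h2 | h2 | h2)
        · exact absurd (by rw [h2]; exact one_mem _) h
        · exact absurd (by rw [h2]; exact H.mem) h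
        · left; rw [h2, huu]
        · right; rw [h2, mul_assoc, huu, mul_one]
  have hswap : ∀ g, g * u = u * g → g * (u * t) * g⁻¹ = t ∨ g * (u * t) * g⁻¹ = u * t := by
    intro g hg
    have h1 : g * (u * t) * g⁻¹ = u * (g * t * g⁻¹) := by
      rw [← mul_assoc, hg]; group
    rcases hsw g hg with h | h
    · right; rw [h1, h]
    · left; rw [h1, h, ← mul_assoc, huu, one_mul]
  have hnrm : ∀ g, g * u = u * g → ∀ k ∈ K, g * k * g⁻¹ ∈ K := by
    intro g hg k hk
    obtain ⟨h1, h2⟩ := (hK k).1 hk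
    have hgi : g⁻¹ * u = u * g⁻¹ := by
      rw [inv_mul_eq_iff_eq_mul, ← mul_assoc, hg, mul_inv_cancel_right]
    rw [hK]
    constructor
    · have h3 : k * (g⁻¹ * t * g) = (g⁻¹ * t * g) * k := by
        have h4 := hsw g⁻¹ hgi
        rw [inv_inv] at h4
        rcases h4 with h4 | h4
        · rw [h4, h1]
        · rw [h4, ← mul_assoc, h2, mul_assoc, h1, mul_assoc]
      calc g * k * g⁻¹ * t = g * (k * (g⁻¹ * t * g)) * g⁻¹ := by group
        _ = g * ((g⁻¹ * t * g) * k) * g⁻¹ := by rw [h3]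
        _ = t * (g * k * g⁻¹) := by group
    · calc g * k * g⁻¹ * u = g * k * (g⁻¹ * u) := by group
        _ = g * (k * u) * g⁻¹ := by rw [hgi]; group
        _ = (g * u) * k * g⁻¹ := by rw [h2]; group
        _ = u * (g * k * g⁻¹) := by rw [hg]; group
  have hcl : ∀ k : ↥K, f k = 1 → (k : X) * k = 1 := by
    intro k hk
    rcases (hker k).1 hk with h | h | h | h
    · rw [h, one_mul]
    · rw [h, H.t_sq]
    · rw [h, huu]
    · rw [h]
      calc t * u * (t * u) = t * (u * t) * u := by group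
        _ = (t * t) * (u * u) := by rw [hut]; group
        _ = 1 := by rw [H.t_sq, huu, one_mul]
  refine ⟨K, x, f, ?_⟩
  refine ⟨?_, ?_, ?_, ?_, ?_, hnrm, ?_, ?_⟩
  · -- index
    intro g h hg hh hgK hhK
    have h1 : g * t * g⁻¹ = u * t := (hsw g hg).resolve_left (fun e => hgK ((hK g).2
      ⟨mul_inv_eq_iff_eq_mul.1 e, hg⟩))
    have h2 : h * t * h⁻¹ = u * t := (hsw h hh).resolve_left (fun e => hhK ((hK h).2
      ⟨mul_inv_eq_iff_eq_mul.1 e, hh⟩))
    rw [hK]
    constructor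
    · have h3 : g * h * t * (g * h)⁻¹ = t := by
        calc g * h * t * (g * h)⁻¹ = g * (h * t * h⁻¹) * g⁻¹ := by group
          _ = (g * u) * t * g⁻¹ := by rw [h2]; group
          _ = u * (g * t * g⁻¹) := by rw [hg]; group
          _ = t := by rw [h1, ← mul_assoc, huu, one_mul]
      exact mul_inv_eq_iff_eq_mul.1 h3
    · rw [mul_assoc, hh, ← mul_assoc, hg, mul_assoc]
  · -- surjective
    rintro ⟨a, ha⟩
    obtain ⟨m, rfl⟩ := H.surj a
    have ha' : x (σ m) = σ m := ha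
    rw [hx, H.map_eq, Sec.cj_coe] at ha'
    rcases ha' with h | h
    · have hm : (m : X) ∈ K := (hK _).2 ⟨H.comm _ m.2, (mul_inv_eq_iff_eq_mul.1 h).symm⟩
      refine ⟨⟨m, hm⟩, Subtype.ext ?_⟩
      rw [hfc, pr_in ⟨m, hm⟩ m.2]
    · exfalso
      apply hnc
      rw [mul_inv_eq_iff_eq_mul] at h
      refine isConj_iff.2 ⟨m, ?_⟩
      rw [mul_inv_eq_iff_eq_mul, h, hut, mul_assoc]
  · -- the kernel has order at most 4
    have hinj : Function.Injective (fun k : ↥f.ker => (⟨((k : ↥K) : X), by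
        have := (hker k).1 k.2
        simp only [Finset.mem_insert, Finset.mem_singleton]
        exact this⟩ : ↥(({1, t, u, t * u} : Finset X)))) := by
      intro a b hab
      have h := congrArg (fun y : ↥(({1, t, u, t * u} : Finset X)) => (y : X)) hab
      exact Subtype.ext (Subtype.ext h)
    refine (Nat.card_le_card_of_injective _ hinj).trans ?_
    rw [Nat.card_eq_fintype_card, Fintype.card_coe]
    exact Finset.card_le_four
  · rintro ⟨k, hk⟩
    refine ⟨1, Subtype.ext (Subtype.ext ?_)⟩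
    show (k : X) ^ 2 ^ 1 = 1
    rw [pow_one, pow_two, hcl k hk]
  · intro h
    exact (hker _).2 (Or.inr (Or.inr (Or.inl rfl)))
  · intro g hg k hk
    rw [hker] at hk ⊢
    show g * (k : X) * g⁻¹ = 1 ∨ g * (k : X) * g⁻¹ = t ∨ g * (k : X) * g⁻¹ = u ∨ g * (k : X) * g⁻¹ = t * u
    rcases hk with h | h | h | h
    · left; rw [h]; group
    · rw [h]
      rcases hsw g hg with h1 | h1
      · right; left; exact h1
      · right; right; right; rw [h1, hut]
    · right; right; left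
      rw [h, hg, mul_inv_cancel_right]
    · rw [h, ← hut]
      rcases hswap g hg with h1 | h1
      · right; left; exact h1
      · right; right; right; exact h1
  · intro v hv
    refine ct_cent_fix hxx v (hE v ?_)
    rw [Subgroup.orderOf_coe, hv]

end two

end Cfsg.Agent.H877.C3
end

-- part: H877/C3/Cls
section
/-!
# S1920, the rows of the Baby Monster and of the Monster: all the involutions of the Baby Monster (helper877)
-/

set_option autoImplicit false
set_option linter.unusedSectionVars false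

open Subgroup

namespace Cfsg.Agent.H877.C3

open Cfsg Cfsg.Agent.BabyComp Cfsg.Agent.CpAut.TwoAbs
open Cfsg.Agent.R01.Lifts Cfsg.Agent.MonsterN Cfsg.Agent.MonsterN.Lit Cfsg.Agent.BabyComp.Main

universe u v

/-- The statement at the involution `u`. -/
def Good.{a, b} (X : Type a) [Group X] (u : X) : Prop :=
  IsOfCharacteristicTwo ↥(centralizer ({u} : Set X)) ∨
    ∃ (K : Subgroup X) (S : Type b) (_ : Group S) (f : ↥K →* S), Red u K f

variable {B : Type*} {X : Type u} {E : Type v} [Group B] [Group X] [Group E] [Finite B] [Finite X] [Finite E]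
  {q : B →* X} {τ : B} {R : Set E}
variable {y : ℕ → B} {h : Pre y} {π : KK y →* E} {f₁ f₂ f₃ f₄ : B}

/-- **All the involutions.** -/
theorem cases {Γ : Type*} [Group Γ] [Finite Γ] (hq : _root_.Cfsg.Agent.R01.Lifts.Ext q τ) (h10 : y 10 = τ) (D : KD h R π)
    (Fc : FusionType.Facts τ f₁ f₂ f₃ f₄) {θ : B →* Γ} {z : Γ}
    (hθ : Function.Injective θ) (hr : ∀ x : Γ, x * θ τ = θ τ * x → ∃ b, θ b = x)
    (hcz : IsConj z (θ (τ * (f₁ * f₂)))) (hcd : IsConj z (θ (f₁ * f₂ * f₃)))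
    {Q : Subgroup Γ} (hL : Cfsg.Agent.Co2Type.Quad.Large Q z)
    (hc5 : IsConj f₁ (y 5)) (big : KEq.Big B τ (y 5))
    {F : Type*} [Field F] [Fintype F] {hF : Fintype.card F = 2 ^ 2}
    (hR : Cfsg.Agent.BabyU.RootCfg.RootFacts hF R) (hX : Cfsg.Agent.BabyU.Key.Extra hF R)
    (Rt : Cfsg.Agent.BabyU.Lab.Roots E R)
    (hE : ∀ v : E, orderOf v = 2 → IsOfCharacteristicTwo ↥(centralizer ({v} : Set E)))
    {M₁ : Subgroup X} (Bs : BaseTwo.Base2 (q (y 5)) M₁) (u : X) (huu : u * u = 1) (hu1 : u ≠ 1) :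
    ∃ g u' : X, u = g * u' * g⁻¹ ∧ Good.{u, v} X u' := by
  obtain ⟨σ, hσ⟩ := exists_sigma hq h10 D
  have H := data hq h10 D big hσ
  have hM : M₁ = (KK y).map q := BaseTwo.Base.eq_map hq h10 big Bs.toBase
  have hidx : ∀ g h, g * q (y 5) = q (y 5) * g → h * q (y 5) = q (y 5) * h → g ∉ (KK y).map q →
      h ∉ (KK y).map q → g * h ∈ (KK y).map q := hM ▸ Bs.M_index
  have hA : Good.{u, v} X (q (y 5)) := Or.inr ⟨_, E, inferInstance, σ, red_A H hidx hE⟩
  -- case I
  have key : ∀ g, g⁻¹ * u * g ∈ M₁ → ∃ g u' : X, u = g * u' * g⁻¹ ∧ Good.{u, v} X u' := by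
    intro g hg
    obtain ⟨k, hk, hqk⟩ := M_le hq h10 big Bs.toBase _ hg
    have hgu : u = g * q k * g⁻¹ := by rw [hqk]; group
    have hkk : k * k = 1 := by
      refine lift_sq hR hX Rt hq h10 D hk ?_
      rw [hqk]
      calc g⁻¹ * u * g * (g⁻¹ * u * g) = g⁻¹ * (u * u) * g := by group
        _ = 1 := by rw [huu]; group
    have hqk1 : q k ≠ 1 := by
      intro e
      apply hu1
      rw [hgu, e]; group
    have hk1 : k ≠ 1 := fun e => hqk1 (by rw [e, map_one])
    have hkτ : k ≠ τ := fun e => hqk1 (by rw [e, hq.mapz])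
    rcases Fc.classes k hkk hk1 hkτ with h1 | h1 | h1 | h1
    · obtain ⟨c, hc⟩ := isConj_iff.1 (q.map_isConj (hc5.symm.trans h1))
      refine ⟨g * c, q (y 5), ?_, hA⟩
      rw [hgu, ← hc]; group
    · refine ⟨g, q k, hgu, Or.inl (ct_of_large hq hθ hr hL (v := k) (w := k * τ) (Or.inr rfl) ?_)⟩
      refine hcz.trans (θ.map_isConj ?_)
      rw [hq.comm]
      exact FusionType.conj_mul_t Fc.cen h1
    · exact ⟨g, q k, hgu, Or.inl (ct_of_large hq hθ hr hL (v := k) (w := k) (Or.inl rfl)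
        (hcz.trans (θ.map_isConj h1)))⟩
    · exact ⟨g, q k, hgu, Or.inl (ct_of_large hq hθ hr hL (v := k) (w := k) (Or.inl rfl)
        (hcd.trans (θ.map_isConj h1)))⟩
  rcases Bs.classes u huu hu1 with ⟨g, hg⟩ | ⟨d, hd, hc, hud⟩
  · exact key g hg
  -- case II
  obtain ⟨g, hg⟩ := isConj_iff.1 hd
  obtain ⟨t, ht⟩ : ∃ t, t = q (y 5) := ⟨_, rfl⟩
  rw [← ht] at hg hA Bs hidx hd hud
  have H' : ∃ (X₀ : Subgroup X) (σ : ↥X₀ →* E), M₁ = X₀ ∧ Sec.Data t σ :=
    ⟨_, σ, hM, by rw [ht]; exact H⟩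
  clear hσ H hM hidx
  obtain ⟨X₀, σ, hM, H⟩ := H'
  have hidx : ∀ g h, g * t = t * g → h * t = t * h → g ∉ X₀ → h ∉ X₀ → g * h ∈ X₀ := hM ▸ Bs.M_index
  obtain ⟨w, hw⟩ : ∃ w, w = g⁻¹ * u * g := ⟨_, rfl⟩
  have huw : u = g * w * g⁻¹ := by rw [hw]; group
  have hww : w * w = 1 := by
    rw [hw]
    calc g⁻¹ * u * g * (g⁻¹ * u * g) = g⁻¹ * (u * u) * g := by group
      _ = 1 := by rw [huu]; group
  have hwt : w * t = t * w := by
    have h1 : t = g⁻¹ * d * g := by rw [← hg]; group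
    rw [hw, h1]
    calc g⁻¹ * u * g * (g⁻¹ * d * g) = g⁻¹ * (u * d) * g := by group
      _ = g⁻¹ * (d * u) * g := by rw [hc]
      _ = g⁻¹ * d * g * (g⁻¹ * u * g) := by group
  have hcw : IsConj t (w * t) := by
    refine hud.trans (isConj_iff.2 ⟨g⁻¹, ?_⟩)
    rw [hw, ← hg]; group
  by_cases hwM : w ∈ M₁
  · exact key g (by rw [← hw]; exact hwM)
  by_cases hwc : IsConj t w
  · obtain ⟨c, hc'⟩ := isConj_iff.1 hwc
    refine ⟨g * c, t, ?_, hA⟩
    rw [huw, ← hc']; group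
  obtain ⟨K, x, f, hf⟩ := red_C H hidx hE hww hwt (hM ▸ hwM) (by
    intro g' hg'
    have htt := H.t_sq
    have hcw' : IsConj t (t * w) := hwt ▸ hcw
    have e1 : t * (t * w) = w := by rw [← mul_assoc, htt, one_mul]
    have h1 := Bs.uniq (t * w) (g' * t * g'⁻¹) hcw' (by rw [mul_assoc, hwt]) (by
      intro h2
      apply hwM
      have h3 : t ∈ M₁ := by rw [hM]; exact H.mem
      have h4 := mul_mem h3 h2
      rwa [e1] at h4) (isConj_iff.2 ⟨g', rfl⟩) (by
      rw [e1]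
      have hgi : g'⁻¹ * w = w * g'⁻¹ := by
        rw [inv_mul_eq_iff_eq_mul, ← mul_assoc, hg', mul_inv_cancel_right]
      calc g' * t * g'⁻¹ * w = g' * t * (g'⁻¹ * w) := by group
        _ = g' * (t * w) * g'⁻¹ := by rw [hgi]; group
        _ = (g' * w) * t * g'⁻¹ := by rw [← hwt]; group
        _ = w * (g' * t * g'⁻¹) := by rw [hg']; group) (by
      rw [e1]
      refine hcw.trans (isConj_iff.2 ⟨g', ?_⟩)
      have hgi : g'⁻¹ * w = w * g'⁻¹ := by
        rw [inv_mul_eq_iff_eq_mul, ← mul_assoc, hg', mul_inv_cancel_right]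
      calc g' * (w * t) * g'⁻¹ = g' * t * (w * g'⁻¹) := by rw [hwt]; group
        _ = g' * t * g'⁻¹ * w := by rw [← hgi]; group)
    rcases h1 with h1 | h1
    · exact Or.inl h1
    · right; rw [h1, hwt]) (fun h1 => hwc (hcw.trans h1))
  exact ⟨g, w, huw, Or.inr ⟨K, ↥(fixedSubgroup x), inferInstance, f, hf⟩⟩

end Cfsg.Agent.H877.C3
end

-- part: H877/C3/Rows
section
/-!
# S1920 (`Co3`), case B: the rows of the Baby Monster and of the Monster (helper877)

`exists_red` : `q : 2.B → B` and all the involutions of `B`; `kill_B`, `kill_M`; `row_B`, `row_M`.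
-/

set_option autoImplicit false
set_option maxRecDepth 100000
set_option linter.constructorNameAsVariable false
set_option linter.style.haveILetI false

open Subgroup

namespace Cfsg.Agent.H877.C3

open Cfsg Cfsg.Lie Cfsg.Agent.Bimonster Cfsg.Agent.BabyU Cfsg.Agent.TwoESix.Cover
open Cfsg.Agent.MonsterX Cfsg.Agent.MonsterX.KSide Cfsg.Agent.MonsterX.KLift Cfsg.Agent.MonsterX.KModel
open Cfsg.Agent.MonsterX.Model Cfsg.Agent.MonsterX.MainPack Cfsg.Agent.MonsterX.MainSimple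
open Cfsg.Agent.MonsterX.MainBasic Cfsg.Agent.MonsterU Cfsg.Agent.MonsterU.Assembly Cfsg.Agent.MonsterN
open Cfsg.Agent.MonsterN.Lit
open Cfsg.Agent.MonsterN.LitInst Cfsg.Agent.MonsterU.Lam2 Cfsg.Agent.MonsterU.TwoCls
open Cfsg.Agent.BabyComp Cfsg.Agent.BabyComp.Main Cfsg.Agent.BabyComp.BaseTwo Cfsg.Agent.R01.Lifts
open Cfsg.Agent.MonsterP Cfsg.Agent.MonsterP.NodeData Cfsg.Agent.MonsterP.NodesConj Cfsg.Agent.CTwoTab.BInst
open Cfsg.Agent.H877.SK.B Cfsg.Agent.H738.C3 Cfsg.Agent.H13.Co3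

/-- **The involutions of the Baby Monster.** -/
theorem exists_red : (∃ (q : ↥BB' →* X), _root_.Cfsg.Agent.R01.Lifts.Ext q τ ∧ ∀ u : X, u * u = 1 → u ≠ 1 →
      ∃ g u' : X, u = g * u' * g⁻¹ ∧ Good.{0, 0} X u') ∧ Finite MG ∧
      IsOfCharacteristicTwo ↥(centralizer ({zz} : Set MG)) := by
  have hfin : Finite MG := G_finite all.hO
  have hz : KDone.K.z = zG all.hG := Subtype.ext KDone.lnk.z_eq.symm
  have hL : Cfsg.Agent.Co2Type.Quad.Large (InstData.M.Q.subgroupOf InstData.M.G) KDone.K.z := by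
    rw [hz]
    exact Cfsg.Agent.MonsterU.ModelChart.large all.hG all.hR all.hL all.hO all.hT
  refine ⟨?_, hfin, ct_large hL⟩
  refine SK.B.elim all KDone.lnk KDone.lft
    (TauInst.tauHyp (Final.cent InstanceFinal.mOrbit Instance.mTrans)) (NodesGrp.prel CTwoTab.BInst.H) (NodesNe.ne CTwoTab.BInst.H)
    conj_ten ?_
  intro K _ _ hK hF _ _ _ _ q y h π f₁ f₂ f₃ f₄ hq h10 DK Fc hcz hcd hct hc5 big hq5 hnz
  obtain ⟨M₁, B2⟩ := BaseTwo.exists_base2 hq5
  have hr : ∀ x : MG, x * (BB KDone.K KLinkInst.x₀).subtype (tb KDone.K KLinkInst.x₀) =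
      (BB KDone.K KLinkInst.x₀).subtype (tb KDone.K KLinkInst.x₀) * x →
      ∃ b, (BB KDone.K KLinkInst.x₀).subtype b = x := fun x hx => ⟨⟨x, mem_centralizer_singleton_iff.2 hx⟩, rfl⟩
  exact ⟨q, hq, fun u huu hu1 => cases hq h10 DK Fc (Subgroup.subtype_injective _) hr hcz hcd hL hc5 big
    (Cfsg.Agent.TwoESix.LeviG.rootFacts hK hF) (KeyInst.extra hF) (Cfsg.Agent.TwoESix.RootsInst.roots K hF)
    (EFacts.charTwo K hK) B2 u huu hu1⟩

/-- No configuration in the Baby Monster. -/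
theorem kill_B {z : X} {N0 : Subgroup X} (C : Conf z N0) {y : X} (hy1 : y ≠ 1) (ho : Odd (orderOf y))
    (hyN : ∀ a ∈ N0, y * a = a * y) : False := by
  obtain ⟨⟨q, hq, hall⟩, hfin, -⟩ := exists_red
  have hfX : Finite X := Finite.of_surjective q hq.surj
  have hzz : z * z = 1 := by rw [← pow_two, ← C.ord, pow_orderOf_eq_one]
  have hz1 : z ≠ 1 := by
    intro h
    have := C.ord
    rw [h, orderOf_one] at this
    norm_num at this
  obtain ⟨g, u, hu, hgood⟩ := hall z hzz hz1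
  let e : X ≃* X := MulAut.conj g⁻¹
  have hez : e z = u := by
    show g⁻¹ * z * g⁻¹⁻¹ = u
    rw [hu]; group
  have C' := conf_map C e
  have hc' := comm_map e hyN
  have ho' : Odd (orderOf (e y)) := by rwa [MulEquiv.orderOf_eq]
  have hy' : e y ≠ 1 := by rwa [Ne, e.map_eq_one_iff]
  rw [hez] at C'
  rcases hgood with hct | ⟨K, S, _, f, R⟩
  · exact C'.not_char2_cent hc' ho' hy' hct
  · refine kill_red C' hy' ho' hc' (θ := MonoidHom.id X) Function.injective_id (fun g _ => ⟨g, rfl⟩)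
      (p := MonoidHom.id X) Function.surjective_id ?_ ?_ R ?_ ?_
    · have h1 : (MonoidHom.id X).ker = ⊥ := by
        rw [eq_bot_iff]
        intro x hx
        exact hx
      rw [h1, card_bot]
      norm_num
    · rintro ⟨x, hx⟩
      exact ⟨0, Subtype.ext (by
        have h1 : x = 1 := hx
        show x ^ 2 ^ 0 = 1
        rw [h1, one_pow])⟩
    · intro b hb
      exact hb.comm_z C'.ord C'.mem
    · intro b hb
      exact Or.inr hb

/-- the kernel of `q` -/
theorem card_ker {q : ↥BB' →* X} (hq : _root_.Cfsg.Agent.R01.Lifts.Ext q τ) : Nat.card ↥q.ker ≤ 2 := by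
  classical
  have h1 : Function.Injective (fun k : ↥q.ker => (⟨(k : ↥BB'), by
      have := (hq.ker _).1 k.2
      rcases this with h | h
      · rw [h]; exact one_mem _
      · rw [h]; exact mem_zpowers _⟩ : ↥(zpowers τ))) := by
    intro a b hab
    exact Subtype.ext (congrArg (fun x : ↥(zpowers τ) => (x : ↥BB')) hab)
  have h2 : Nat.card ↥(zpowers τ) ≤ 2 := by
    rw [Nat.card_zpowers]
    exact orderOf_le_of_pow_eq_one (by norm_num) (by rw [pow_two, hq.zz])
  have h3 : Finite ↥(zpowers τ) :=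
    Set.Finite.to_subtype (finite_zpowers.2 (isOfFinOrder_iff_pow_eq_one.2 ⟨2, by norm_num, by rw [pow_two, hq.zz]⟩))
  exact (Nat.card_le_card_of_injective _ h1).trans h2

theorem two_ker {q : ↥BB' →* X} (hq : _root_.Cfsg.Agent.R01.Lifts.Ext q τ) : IsPGroup 2 ↥q.ker := by
  rintro ⟨k, hk⟩
  refine ⟨1, Subtype.ext ?_⟩
  show k ^ 2 ^ 1 = 1
  rcases (hq.ker k).1 hk with h | h
  · rw [h, one_pow]
  · rw [h, pow_one, pow_two, hq.zz]

/-- No configuration in the Monster with the involution `2A`. -/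
theorem kill_MA {N0 : Subgroup MG} (C : Conf (τ : MG) N0) {y : MG} (hy1 : y ≠ 1) (ho : Odd (orderOf y))
    (hyN : ∀ a ∈ N0, y * a = a * y) : False := by
  obtain ⟨⟨q, hq, hall⟩, hfin, -⟩ := exists_red
  have hfX : Finite X := Finite.of_surjective q hq.surj
  have hmemB : ∀ g : MG, g * (τ : MG) = (τ : MG) * g → ∃ b : ↥BB', (b : MG) = g := fun g hg =>
    ⟨⟨g, mem_centralizer_singleton_iff.2 hg⟩, rfl⟩
  -- an element of `N0`
  obtain ⟨n, hn, hnz⟩ : ∃ n ∈ N0, n ∉ zpowers (τ : MG) := by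
    by_contra hcon
    push Not at hcon
    have h1 : Nat.card ↥N0 ≤ Nat.card ↥(zpowers (τ : MG)) :=
      Nat.card_le_card_of_injective _ (Subgroup.inclusion_injective (show N0 ≤ zpowers (τ : MG) from hcon))
    rw [C.card, Nat.card_zpowers, C.ord] at h1
    norm_num at h1
  obtain ⟨b, rfl⟩ := hmemB n ((C.comm n hn).comm_z C.ord C.mem)
  have hbz : b ≠ 1 ∧ b ≠ τ := by
    constructor
    · rintro rfl; exact hnz (one_mem _)
    · rintro rfl; exact hnz (mem_zpowers _)
  have hb1 : q b ≠ 1 := by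
    intro h
    rcases (hq.ker b).1 h with h1 | h1
    · exact hbz.1 h1
    · exact hbz.2 h1
  have hbb : q b * q b = 1 := by
    rw [← map_mul, hq.ker]
    have h1 := mem_zp C.ord (C.sq _ hn)
    rcases h1 with h1 | h1
    · exact Or.inl (Subtype.ext h1)
    · exact Or.inr (Subtype.ext h1)
  obtain ⟨g, u, hu, hgood⟩ := hall (q b) hbb hb1
  obtain ⟨c, rfl⟩ := hq.surj g
  let e : MG ≃* MG := MulAut.conj (c : MG)⁻¹
  have hec : ∀ x : ↥BB', e (x : MG) = ((c⁻¹ * x * c : ↥BB') : MG) := by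
    intro x
    show (c : MG)⁻¹ * x * (c : MG)⁻¹⁻¹ = _
    rw [inv_inv]
    rfl
  have het : e (τ : MG) = τ := by
    rw [hec, mul_assoc, ← hq.comm c, inv_mul_cancel_left]
  have C' := conf_map C e
  have hc' := comm_map e hyN
  have ho' : Odd (orderOf (e y)) := by rwa [MulEquiv.orderOf_eq]
  have hy' : e y ≠ 1 := by rwa [Ne, e.map_eq_one_iff]
  rw [het] at C'
  have hnN : ((c⁻¹ * b * c : ↥BB') : MG) ∈ N0.map e.toMonoidHom := ⟨b, hn, hec b⟩
  have hqu : q (c⁻¹ * b * c) = u := by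
    rw [map_mul, map_mul, map_inv, hu]; group
  have hA : ∀ g, Act (τ : MG) (N0.map e.toMonoidHom) g → ∃ b : ↥BB', BB'.subtype b = g := by
    intro g hg
    obtain ⟨b, hb⟩ := hmemB g (hg.comm_z C'.ord C'.mem)
    exact ⟨b, hb⟩
  rcases hgood with hct | ⟨K, S, _, f, R⟩
  · rw [← hqu] at hct
    refine kill_ct C' hy' ho' hc' (θ := BB'.subtype) (Subgroup.subtype_injective _) hA (p := q) hq.surj (two_ker hq)
      hnN ?_ ?_ hct
    · intro b hb
      have : b = τ := Subtype.ext hb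
      rw [this]; exact hq.mapz
    · intro b
      show (τ : MG) * (b : MG) = b * τ
      exact (congrArg Subtype.val (hq.comm b)).symm
  · refine kill_red C' hy' ho' hc' (θ := BB'.subtype) (Subgroup.subtype_injective _) hA
      (p := q) hq.surj (card_ker hq) (two_ker hq) R ?_ ?_
    · intro d hd
      have h1 := mem_zp C'.ord (hd _ hnN)
      rw [← hqu, ← map_mul, ← map_mul, hq.map_eq]
      rcases h1 with h1 | h1
      · left
        have h2 : (d * (c⁻¹ * b * c) * d⁻¹ * (c⁻¹ * b * c)⁻¹ : ↥BB') = 1 := Subtype.ext h1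
        rw [mul_inv_eq_one, mul_inv_eq_iff_eq_mul] at h2
        exact h2
      · right
        have h2 : (d * (c⁻¹ * b * c) * d⁻¹ * (c⁻¹ * b * c)⁻¹ : ↥BB') = τ := Subtype.ext h1
        rw [mul_inv_eq_iff_eq_mul, mul_inv_eq_iff_eq_mul] at h2
        rw [h2, hq.comm (c⁻¹ * b * c * d), mul_assoc]
    · intro b hb
      left
      have : b = τ := Subtype.ext hb
      rw [this]; exact hq.mapz

/-- No configuration in the Monster. -/
theorem kill_M {z : MG} {N0 : Subgroup MG} (C : Conf z N0) {y : MG} (hy1 : y ≠ 1) (ho : Odd (orderOf y))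
    (hyN : ∀ a ∈ N0, y * a = a * y) : False := by
  obtain ⟨-, hfin, hct⟩ := exists_red
  have hzz : z * z = 1 := by rw [← pow_two, ← C.ord, pow_orderOf_eq_one]
  have hz1 : z ≠ 1 := by
    intro h
    have := C.ord
    rw [h, orderOf_one] at this
    norm_num at this
  have key : ∀ (g w : MG), g * w * g⁻¹ = z → ∃ (N : Subgroup MG) (y : MG), Conf w N ∧ y ≠ 1 ∧ Odd (orderOf y) ∧
      ∀ a ∈ N, y * a = a * y := by
    intro g w hg
    let e : MG ≃* MG := MulAut.conj g⁻¹
    have hez : e z = w := by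
      show g⁻¹ * z * g⁻¹⁻¹ = w
      rw [← hg]; group
    have C' := conf_map C e
    rw [hez] at C'
    exact ⟨_, e y, C', by rwa [Ne, e.map_eq_one_iff], by rwa [MulEquiv.orderOf_eq], comm_map e hyN⟩
  rcases MFive.Row.two z hzz hz1 with ⟨g, hg⟩ | ⟨g, hg⟩
  · obtain ⟨N, y, C', h1, h2, h3⟩ := key g _ hg
    exact C'.not_char2_cent h3 h2 h1 hct
  · have ht : tG KDone.mGroup KDone.mRep = ((τ : ↥BB') : MG) := Subtype.ext KDone.lnk.t₀_eq
    obtain ⟨N, y, C', h1, h2, h3⟩ := key g _ hg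
    rw [ht] at C'
    exact kill_MA C' h1 h2 h3

universe u

/-- **The row of the Baby Monster.** -/
theorem row_B {G : Type u} [Group G] [Finite G] (h : Cfsg.Spor.IsoB G) {P N0 : Subgroup G} {z s : G}
    {ψ : ↥(normalizer (P : Set G)) →* Equiv.Perm (Fin 6)} (C : CB P N0 z s ψ) : False := by
  obtain ⟨e⟩ := h
  obtain ⟨y, hy, hyN⟩ := exists_five C
  have hy1 : y ≠ 1 := by
    rintro rfl
    rw [orderOf_one] at hy
    norm_num at hy
  refine kill_B (conf_map (conf C) e) (y := e y) (by rwa [Ne, e.map_eq_one_iff]) ?_ (comm_map e hyN)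
  rw [MulEquiv.orderOf_eq, hy]
  decide

/-- **The row of the Monster.** -/
theorem row_M {G : Type u} [Group G] [Finite G] (h : Cfsg.Spor.IsoM G) {P N0 : Subgroup G} {z s : G}
    {ψ : ↥(normalizer (P : Set G)) →* Equiv.Perm (Fin 6)} (C : CB P N0 z s ψ) : False := by
  obtain ⟨e₁⟩ := h
  obtain ⟨e₂⟩ := Cfsg.Agent.MonsterP.Equiv.equiv
  let e := e₁.trans e₂
  obtain ⟨y, hy, hyN⟩ := exists_five C
  have hy1 : y ≠ 1 := by
    rintro rfl
    rw [orderOf_one] at hy
    norm_num at hy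
  refine kill_M (conf_map (conf C) e) (y := e y) (by rwa [Ne, e.map_eq_one_iff]) ?_ (comm_map e hyN)
  rw [MulEquiv.orderOf_eq, hy]
  decide

end Cfsg.Agent.H877.C3
end
end

-- part: H129/Co3/TwE6
section
set_option linter.all false
open scoped Cfsg.Agent.FastGrp

/-!
# S1920, case B: the row `²E₆(q)` (helper129)

`eig_Gs` : the eigenvalues of an element of `Gs φ` on the 27-dimensional module over the algebraic closure are closed
under `l ↦ l ^ (-q)`; `row_te6` : the row.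
-/

set_option autoImplicit false
set_option linter.unusedSectionVars false

open Subgroup Module

universe u

namespace Cfsg.Agent.H129.Co3

open Cfsg Cfsg.Lie
open Cfsg.Agent.ChevalleyStructure
open Cfsg.Agent.ChevalleyStructure.E6Min.Tables Cfsg.Agent.ChevalleyStructure.E6Min.Basic
  Cfsg.Agent.ChevalleyStructure.E6Min.Adjoint
open Cfsg.Agent.H163.E6 (V V')
open Cfsg.Agent.H944.E6T (jm coe_jm jm_injective ev_V gm coe_gm zM_map)
open Cfsg.Agent.H944.E6Tw
open Cfsg.Agent.H952.F4 (ev)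
open Cfsg.Agent.H13.Co3 (CB)

/-! ### eigenvalues -/

theorem jm_sE {F K : Type u} [Field F] [Field K] (f : F →+* K) (φ : F →+* F) (Φ : K →+* K)
    (h : ∀ t, Φ (f t) = f (φ t)) (g : ↥(Zgrp F)) : jm f (sE φ g) = sE Φ (jm f g) := by
  have hz : ∀ (r : Fin 72) (t : F), gm f (zU r.val t) = zU r.val (f t) := by
    intro r t
    apply Units.ext
    rw [coe_gm, coe_zU r.isLt, coe_zU r.isLt, zM_map]
  have h1 : (jm f).comp (sE φ) = (sE Φ).comp (jm f) := by
    apply hom_ext
    intro r t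
    apply Subtype.ext
    show gm f (sZ φ (zU r.val t)) = sZ Φ (gm f (zU r.val t))
    rw [sZ_zU, hz, hz, sZ_zU, map_mul, map_intCast, h]
  exact DFunLike.congr_fun h1 g

theorem hasEigenvalue_iff_ev {F : Type u} [Field F] {T : Module.End F (I27 → F)} {l : F} :
    T.HasEigenvalue l ↔ ev T l ≠ 0 := by
  rw [Module.End.hasEigenvalue_iff]
  unfold ev
  rw [Ne, Ne, Submodule.finrank_eq_zero]

theorem V_ne_zero {F : Type u} [Field F] (g : ↥(Zgrp F)) {l : F} (hl : Module.End.HasEigenvalue (V F g) l) : l ≠ 0 := by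
  rintro rfl
  obtain ⟨v, hv, hv0⟩ := hl.exists_hasEigenvector
  rw [Module.End.mem_eigenspace_iff, zero_smul] at hv
  apply hv0
  have h1 : V F g⁻¹ (V F g v) = v := by
    rw [← Module.End.mul_apply, ← map_mul, inv_mul_cancel, map_one, Module.End.one_apply]
  rw [← h1, hv, map_zero]

theorem eig_semi {F : Type u} [Field F] (Φ : F →+* F) {g : ↥(Zgrp F)} (hg : g ∈ Gs Φ) {l : F}
    (hl : Module.End.HasEigenvalue (V F g) l) : Module.End.HasEigenvalue (V F g) (Φ l)⁻¹ := by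
  obtain ⟨v, hv, hv0⟩ := hl.exists_hasEigenvector
  rw [Module.End.mem_eigenspace_iff] at hv
  have hl0 := V_ne_zero g hl
  have h1 : V' F g (J Φ v) = Φ l • J Φ v := by rw [V'_J Φ hg, hv, J_smul]
  have h2 : J Φ v ≠ 0 := by
    intro h
    apply hv0
    funext i
    have h3 := congrFun h i
    rw [J_apply, Pi.zero_apply] at h3
    have h4 : ((qe i : ℤ) : F) * ((qe i : ℤ) : F) = 1 := by
      rw [← Int.cast_mul, qe_sq, Int.cast_one]
    rcases mul_eq_zero.1 h3 with h5 | h5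
    · rw [h5, zero_mul] at h4
      exact absurd h4 zero_ne_one
    · exact (map_eq_zero Φ).1 h5
  have h5 : ev (V' F g) (Φ l) ≠ 0 :=
    hasEigenvalue_iff_ev.1 (Module.End.hasEigenvalue_of_hasEigenvector ⟨Module.End.mem_eigenspace_iff.2 h1, h2⟩)
  rw [Cfsg.Agent.H163.E6.Act.ev_dual g ((map_ne_zero Φ).2 hl0)] at h5
  exact hasEigenvalue_iff_ev.2 h5

section row

variable {K : Type} [Field K] [Fintype K] {q : ℕ} {φ : K →+* K}

theorem eig_Gs (p n : ℕ) [Fact p.Prime] [CharP K p] (hqn : q = p ^ n) (hφ : ∀ t, φ t = t ^ q) {g : ↥(Zgrp K)}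
    (hg : g ∈ Gs φ) {l : AlgebraicClosure K}
    (hl : Module.End.HasEigenvalue (V (AlgebraicClosure K) (jm (algebraMap K (AlgebraicClosure K)) g)) l) :
    Module.End.HasEigenvalue (V (AlgebraicClosure K) (jm (algebraMap K (AlgebraicClosure K)) g)) (l ^ (-(q : ℤ))) := by
  have : CharP (AlgebraicClosure K) p := charP_of_injective_algebraMap (algebraMap K (AlgebraicClosure K)).injective p
  have h1 : ∀ t : AlgebraicClosure K, iterateFrobenius (AlgebraicClosure K) p n t = t ^ q := fun t => by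
    rw [iterateFrobenius_def, hqn]
  have h2 : jm (algebraMap K (AlgebraicClosure K)) g ∈ Gs (iterateFrobenius (AlgebraicClosure K) p n) := by
    rw [mem_Gs, ← jm_sE (algebraMap K (AlgebraicClosure K)) φ _ (fun t => by rw [h1, hφ, map_pow]), (mem_Gs φ).1 hg]
  have h3 := eig_semi _ h2 hl
  rw [h1] at h3
  rwa [zpow_neg, zpow_natCast]

/-- the covering map of `²E₆(q)` -/
noncomputable def toTw (hq : IsPrimePow q) (hF : Fintype.card K = q ^ 2) (hφ : ∀ t, φ t = t ^ q)
    (hqq : ∀ t : K, (t ^ q) ^ q = t) : ↥(Gs φ) →* ↥(twistedE6 K q) :=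
  (((chevE6.group K).subtype.comp (ad K)).comp (Gs φ).subtype).codRestrict (twistedE6 K q) fun g =>
    mem_Gl.1 (Gs_le_Gl hq hF hφ hqq g.2)

theorem toTw_surjective (hq : IsPrimePow q) (hF : Fintype.card K = q ^ 2) (hφ : ∀ t, φ t = t ^ q)
    (hqq : ∀ t : K, (t ^ q) ^ q = t) : Function.Surjective (toTw hq hF hφ hqq) := by
  intro y
  obtain ⟨g, hg, h⟩ := exists_Gs φ hφ hqq y.2
  exact ⟨⟨g, hg⟩, Subtype.ext h⟩

theorem three_pow_mod (n : ℕ) : 3 ^ n % 20 = 1 ∨ 3 ^ n % 20 = 3 ∨ 3 ^ n % 20 = 9 ∨ 3 ^ n % 20 = 7 := by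
  induction n with
  | zero => left; rfl
  | succ n ih => rw [pow_succ]; omega

/-- **No configuration in a quotient of a subgroup of `Zgrp K` by central scalars, `p = 3`**, if the eigenvalues are
closed under `l ↦ l ^ e` for a suitable `e`. -/
theorem kill3 (p : ℕ) [Fact p.Prime] [CharP K p] (hp3 : p = 3) {S : Subgroup ↥(Zgrp K)} {G : Type*} [Group G]
    (f : ↥S →* G) (hf : Function.Surjective f) (hker : ∀ g : ↥S, f g = 1 → ad K (g : ↥(Zgrp K)) = 1)
    {P N0 : Subgroup G} {z s : G} {ψ : ↥(normalizer (P : Set G)) →* Equiv.Perm (Fin 6)} (C : CB P N0 z s ψ)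
    {e : ℤ} (he : (e % 4 = 1 ∧ e % 5 ≠ 1 ∧ e % 5 ≠ 4) ∨ (e % 4 = 3 ∧ e % 5 ≠ 2 ∧ e % 5 ≠ 3))
    (hself : ∀ (g : ↥S) (l : AlgebraicClosure K), Module.End.HasEigenvalue (RR K S g) l →
      Module.End.HasEigenvalue (RR K S g) (l ^ e)) : False := by
  obtain ⟨Ph, Nh, zh, sh, ψh, Ch⟩ := lift_cb f hf hker C
  obtain ⟨A, E, x, r, ψ', Kt⟩ := Cfsg.Agent.H415.C3.exists_kit Ch
  obtain ⟨h16, hρz, hfaith⟩ := setup p (by rw [hp3]; norm_num) Kt
  have h2k : (2 : AlgebraicClosure K) ≠ 0 := by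
    exact_mod_cast cast_ne' (K := K) p Nat.prime_two (by rw [hp3]; norm_num)
  have h5k : (5 : AlgebraicClosure K) ≠ 0 := by
    exact_mod_cast cast_ne' (K := K) p (by norm_num : (5 : ℕ).Prime) (by rw [hp3]; norm_num)
  have heo : Odd e := by
    rw [Int.odd_iff]
    rcases he with h | h <;> omega
  refine Cfsg.Agent.H858.Co3.eig_ne5 Kt (eigRep (RR K S) zh (-1)) h16 h2k h5k
    (mem_centralizer_singleton_iff.2 rfl) (hρz _) (fun e he _ h1 => hfaith e he h1) e he ?_
  rintro g ⟨m, hm⟩ - l hl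
  exact eig_transfer (RR K S) zh hm heo (hself (g : ↥S)) hl

/-- **No configuration in `²E₆(q)`, `q` odd.** -/
theorem no_te6 (p : ℕ) [Fact p.Prime] [CharP K p] (hp2 : p ≠ 2) (hq : IsPrimePow q)
    (hF : Fintype.card K = q ^ 2) {G : Type u} [Group G] (e : G ≃* twistedE6 K q) {P N0 : Subgroup G} {z s : G}
    {ψ : ↥(normalizer (P : Set G)) →* Equiv.Perm (Fin 6)} (C : CB P N0 z s ψ) : False := by
  obtain ⟨φ, hφ, hqq⟩ := TwE6Basic.exists_frob hq hF
  have hs : Function.Surjective ((e.symm : ↥(twistedE6 K q) →* G).comp (toTw hq hF hφ hqq)) :=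
    e.symm.surjective.comp (toTw_surjective hq hF hφ hqq)
  have hk : ∀ g : ↥(Gs φ), ((e.symm : ↥(twistedE6 K q) →* G).comp (toTw hq hF hφ hqq)) g = 1 →
      ad K (g : ↥(Zgrp K)) = 1 := by
    intro g hg
    have h1 : toTw hq hF hφ hqq g = 1 := e.symm.injective (by rw [map_one]; exact hg)
    apply Subtype.ext
    have h2 := congrArg (fun y : ↥(twistedE6 K q) => (y : GL chevE6.Idx K)) h1
    exact h2
  by_cases hp3 : p = 3
  · obtain ⟨n, hn⟩ : ∃ n, q = p ^ n := by
      obtain ⟨p', n, hp', hn0, hpn⟩ := (isPrimePow_nat_iff _).1 hq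
      have hpp : p.Prime := Fact.out
      obtain ⟨m, hm⟩ := FiniteField.card K p
      have h1 : p' ∣ p ^ (m : ℕ) := by
        rw [← hm.2, hF, ← hpn, ← pow_mul]
        exact dvd_pow_self _ (by omega)
      have h2 : p' = p := (Nat.prime_dvd_prime_iff_eq hp' hpp).1 (hp'.dvd_of_dvd_pow h1)
      exact ⟨n, by rw [← hpn, h2]⟩
    refine kill3 p hp3 _ hs hk C (e := -(q : ℤ)) ?_ (fun g l hl => eig_Gs p n hn hφ g.2 hl)
    have h3 := three_pow_mod n
    rw [hp3] at hn
    rw [← hn] at h3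
    omega
  · exact kill5 p hp2 hp3 _ hs hk C

end row

/-- **The row `²E₆(q)`.** -/
theorem row_te6 : Cfsg.Agent.H527.Co3.Row.{u} @Lie.Iso2E6 := by
  intro G _ _ _ h P N0 z s ψ C
  obtain ⟨K, _, _, q, hq, hF, ⟨e⟩⟩ := h
  obtain ⟨p, hp⟩ := CharP.exists K
  have hpp : Fact p.Prime := ⟨(CharP.char_is_prime_or_zero K p).resolve_right (CharP.char_ne_zero_of_finite K p)⟩
  by_cases hp2 : p = 2
  · subst hp2
    exact Cfsg.Agent.H738.C3.false_of_lieTwo C
      (Or.inr (Or.inr (Or.inr (Or.inr (Or.inr (Or.inr (Or.inr (Or.inl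
        ⟨K, inferInstance, inferInstance, hp, q, hq, Or.inl ⟨hF, ⟨e⟩⟩⟩))))))))
  · exact no_te6 p hp2 hq hF e C

end Cfsg.Agent.H129.Co3
end
end
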